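/-
2-groups with a unique involution; derived subgroups of groups with an abelian subgroup of index two that is
cyclic modulo the centre.
-/
import Cfsg.Agent.Inv.Misc1

set_option autoImplicit false

open Cfsg Subgroup
open scoped commutatorElement

namespace CL.Inv

open CL.Grp

variable {X : Type*} [Group X]

theorem eq_one_or_eq_of_unique_involution {z : X} (hz : ∀ y : X, orderOf y = 2 → y = z) {x : X}
    (hx : x ^ 2 = 1) : x = 1 ∨ x = z := by
  by_cases h : x = 1
  · exact Or.inl h
  · exact Or.inr (hz x (orderOf_eq_prime hx h))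

theorem card_le_two_of_unique_involution {z : X} (hz : ∀ y : X, orderOf y = 2 → y = z)
    {E : Subgroup X} (hE : ∀ x ∈ E, x ^ 2 = 1) : Nat.card E ≤ 2 := by
  have h1 : (E : Set X) ⊆ {1, z} := fun x hx => eq_one_or_eq_of_unique_involution hz (hE x hx)
  calc Nat.card E = (E : Set X).ncard := rfl
    _ ≤ ({1, z} : Set X).ncard := Set.ncard_le_ncard h1 (Set.toFinite _)
    _ ≤ 2 := by
      have := Set.ncard_insert_le (1 : X) {z}
      rwa [Set.ncard_singleton] at this

/-- A nonabelian finite 2-group with a unique involution is generalized quaternion. -/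
theorem exists_dqsGen_of_unique_involution [Finite X] (hX : IsPGroup 2 X) (hna : ¬ IsMulCommutative X)
    {z : X} (hz : ∀ y : X, orderOf y = 2 → y = z) :
    ∃ (n : ℕ) (a b : X), DQSGen n a b ∧ b ^ 2 = a ^ 2 ^ (n - 1) ∧ b * a * b⁻¹ = a⁻¹ := by
  rcases isCyclic_or_quaternion_of_forall_ea hX (fun E hE hc => by
    have := card_le_two_of_unique_involution hz hE.2
    omega) with h | ⟨-, h⟩
  · exact absurd IsCyclic.isMulCommutative hna
  · exact h

/-- If every element is `a ^ i * z` or `a ^ i * b * z` with `z` central, the derived subgroup is `⟨[a, b]⟩`. -/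
theorem commutator_eq_zpowers_of_central_ext {a b : X}
    (h : ∀ g : X, ∃ (i : ℤ), ∃ z ∈ center X, g = a ^ i * z ∨ g = a ^ i * b * z) :
    commutator X = zpowers ⁅a, b⁆ := by
  have hz : ∀ z ∈ center X, ∀ g, Commute g z := fun z hz g => mem_center_iff.1 hz g
  have key : ∀ g : X, (∃ (i : ℤ), ∃ z ∈ center X, g = a ^ i * z) → Commute a g := by
    rintro g ⟨i, z, hz', rfl⟩
    exact ((Commute.refl a).zpow_right i).mul_right (hz z hz' a)
  by_cases hab : Commute a b
  · rw [hab.commutator_eq, zpowers_one_eq_bot, commutator_eq_bot_iff_center_eq_top, eq_top_iff]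
    intro g _
    rw [mem_center_iff]
    intro k
    obtain ⟨i, z, hz1, rfl | rfl⟩ := h g <;> obtain ⟨j, w, hw1, rfl | rfl⟩ := h k
    · exact ((((Commute.refl a).zpow_zpow j i).mul_right (hz z hz1 _)).mul_left (hz w hw1 _).symm).eq
    · exact (((((Commute.refl a).zpow_zpow j i).mul_left (hab.symm.zpow_right i)).mul_right
        (hz z hz1 _)).mul_left (hz w hw1 _).symm).eq
    · exact (((((Commute.refl a).zpow_zpow j i).mul_right (hab.zpow_left j)).mul_right
        (hz z hz1 _)).mul_left (hz w hw1 _).symm).eq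
    · exact ((((((Commute.refl a).zpow_zpow j i).mul_right (hab.zpow_left j)).mul_left
        ((hab.symm.zpow_right i).mul_right (Commute.refl b))).mul_right
        (hz z hz1 _)).mul_left (hz w hw1 _).symm).eq
  have hbb : Commute a (b * b) := by
    obtain ⟨i, z, hz1, h1 | h1⟩ := h (b * b)
    · exact key _ ⟨i, z, hz1, h1⟩
    · exfalso
      apply hab
      refine key _ ⟨i, z, hz1, ?_⟩
      rw [mul_assoc, (hz z hz1 b).eq, ← mul_assoc] at h1
      exact mul_right_cancel h1
  have hba : Commute a (b * a * b⁻¹) := by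
    obtain ⟨i, z, hz1, h1 | h1⟩ := h (b * a * b⁻¹)
    · exact key _ ⟨i, z, hz1, h1⟩
    · exfalso
      apply hab
      have h2 : Commute (b * a * b⁻¹) (b * b) := by
        have := hbb.map (MulAut.conj b)
        simpa [mul_assoc] using this
      obtain ⟨j, w, hw1, h3 | h3⟩ := h (b⁻¹ * a * b)
      · have h4 : Commute a (b⁻¹ * a * b) := key _ ⟨j, w, hw1, h3⟩
        have h5 : b⁻¹ * a * b = b * a * b⁻¹ := by
          calc b⁻¹ * a * b = b⁻¹ * (a * (b * b)) * b⁻¹ := by group
            _ = _ := by rw [hbb.eq]; group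
        rw [h5, h1] at h4
        have h6 := (((Commute.refl a).zpow_right i).inv_right.mul_right h4).mul_right
          (hz z hz1 a).inv_right
        simpa [mul_assoc] using h6
      · -- `a` is conjugate to `a ^ j * b * w`: every element then commutes with a conjugate of `a`
        have h5 : b⁻¹ * a * b = b * a * b⁻¹ := by
          calc b⁻¹ * a * b = b⁻¹ * (a * (b * b)) * b⁻¹ := by group
            _ = _ := by rw [hbb.eq]; group
        obtain ⟨k, v, hv1, h7 | h7⟩ := h (b⁻¹ * a)
        · have h8 := (key _ ⟨k, v, hv1, h7⟩).mul_right (Commute.refl a).inv_right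
          simpa using h8.inv_right
        · obtain ⟨l, u, hu1, h9 | h9⟩ := h (b * a * b)
          · have h10 := (key _ ⟨l, u, hu1, h9⟩).mul_right hbb.inv_right
            have e : b * a * b * (b * b)⁻¹ = a ^ i * b * z := by rw [← h1]; group
            rw [e] at h10
            have h6 := (((Commute.refl a).zpow_right i).inv_right.mul_right h10).mul_right
              (hz z hz1 a).inv_right
            simpa [mul_assoc] using h6
          · refine key _ ⟨l - 1, u, hu1, ?_⟩
            have e : b * a = a ^ l * u := by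
              rw [mul_assoc (a ^ l), (hz u hu1 b).eq, ← mul_assoc] at h9
              exact mul_right_cancel h9
            calc b = b * a * a⁻¹ := by group
              _ = a ^ l * (u * a⁻¹) := by rw [e, mul_assoc]
              _ = _ := by rw [← (hz u hu1 a⁻¹).eq]; group
  have hc : ⁅a, b⁆ = a * (b * a * b⁻¹)⁻¹ := by rw [commutatorElement_def]; group
  have hca : Commute a ⁅a, b⁆ := by rw [hc]; exact (Commute.refl a).mul_right hba.inv_right
  have hcb : b * ⁅a, b⁆ * b⁻¹ = ⁅a, b⁆⁻¹ := by
    rw [commutatorElement_def]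
    calc b * (a * b * a⁻¹ * b⁻¹) * b⁻¹ = b * a * b⁻¹ * ((b * b) * a⁻¹) * (b * b)⁻¹ := by group
      _ = _ := by rw [← hbb.inv_left.eq]; group
  haveI hN : (zpowers ⁅a, b⁆).Normal := by
    refine ⟨?_⟩
    rintro _ ⟨k, rfl⟩ g
    simp only
    rw [← conj_zpow]
    refine zpow_mem ?_ k
    obtain ⟨i, z, hz1, rfl | rfl⟩ := h g
    · rw [((hca.zpow_left i).mul_left (hz z hz1 _).symm).eq, mul_inv_cancel_right]
      exact mem_zpowers _
    · have : a ^ i * b * z * ⁅a, b⁆ * (a ^ i * b * z)⁻¹ = a ^ i * (b * ⁅a, b⁆ * b⁻¹) * (a ^ i)⁻¹ := by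
        rw [mul_assoc _ z, ← (hz z hz1 _).eq]; group
      rw [this, hcb, (hca.zpow_left i).inv_right.eq, mul_inv_cancel_right]
      exact inv_mem (mem_zpowers _)
  refine le_antisymm ?_ (zpowers_le.2 (commutator_mem_commutator (mem_top a) (mem_top b)))
  rw [commutator_def, commutator_le]
  intro g _ k _
  let f := QuotientGroup.mk' (zpowers ⁅a, b⁆)
  have hab' : Commute (f a) (f b) := by
    rw [← commutatorElement_eq_one_iff_commute, ← map_commutatorElement]
    exact (QuotientGroup.eq_one_iff _).2 (mem_zpowers _)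
  have hz' : ∀ z ∈ center X, ∀ g, Commute (f g) (f z) := fun z hz1 g => (hz z hz1 g).map f
  rw [← QuotientGroup.eq_one_iff]
  change f _ = 1
  rw [map_commutatorElement, commutatorElement_eq_one_iff_commute]
  have h1 : ∀ g : X, Commute (f a) (f g) ∧ Commute (f b) (f g) := by
    intro g
    obtain ⟨i, z, hz1, rfl | rfl⟩ := h g <;> simp only [map_mul, map_zpow]
    · exact ⟨((Commute.refl _).zpow_right i).mul_right (hz' z hz1 a),
        (hab'.symm.zpow_right i).mul_right (hz' z hz1 b)⟩
    · exact ⟨(((Commute.refl _).zpow_right i).mul_right hab').mul_right (hz' z hz1 a),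
        ((hab'.symm.zpow_right i).mul_right (Commute.refl _)).mul_right (hz' z hz1 b)⟩
  obtain ⟨i, z, hz1, rfl | rfl⟩ := h g <;> simp only [map_mul, map_zpow]
  · exact ((h1 k).1.zpow_left i).mul_left (hz' z hz1 k).symm
  · exact (((h1 k).1.zpow_left i).mul_left (h1 k).2).mul_left (hz' z hz1 k).symm

end CL.Inv
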