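/-
Metacyclic 2-groups with an automorphism of odd order (helper38).
-/
import Cfsg.Agent.Inv.AutTwo
import Cfsg.Agent.Inv.ZStar1
import Cfsg.Agent.Fgs.Metacyclic
import Cfsg.Agent.Grp.CoprimeAct
import Cfsg.Agent.Grp.PGroupDQS

set_option autoImplicit false
open Cfsg Subgroup CL.Grp
open scoped Pointwise commutatorElement

namespace CL.Inv

variable {X : Type*} [Group X]

theorem exists_zpow_mul_zpow {a b : X} [(zpowers a).Normal] (h : zpowers a ⊔ zpowers b = ⊤) (x : X) :
    ∃ i j : ℤ, x = a ^ i * b ^ j := by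
  obtain ⟨_, ⟨i, rfl⟩, _, ⟨j, rfl⟩, e⟩ := (mem_sup_iff_of_le_normalizer (N := zpowers a) (H := zpowers b)
    (by rw [normalizer_eq_top]; exact le_top)).mp (h ▸ mem_top x)
  exact ⟨i, j, e⟩

theorem mem_zpowers_zpow_of_odd [Finite X] (hX : IsPGroup 2 X) (b : X) {j : ℤ} (hj : Odd j) :
    b ∈ zpowers (b ^ j) := by
  obtain ⟨k, hk⟩ := IsPGroup.iff_orderOf.mp hX b
  have := zpowers_zpow_mul_of_odd hk 1 hj
  rw [one_mul, zpow_one] at this
  rw [this]; exact mem_zpowers b

theorem zpow_mem_frattini_of_even [Finite X] (hX : IsPGroup 2 X) (x : X) {j : ℤ} (hj : Even j) :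
    x ^ j ∈ frattini X := by
  obtain ⟨k, rfl⟩ := hj
  rw [← two_mul, mul_comm, zpow_mul, zpow_two, ← pow_two]
  exact pow_mem_frattini hX _

theorem aut_mem_frattini (α : MulAut X) {x : X} : α x ∈ frattini X ↔ x ∈ frattini X := by
  have h := (characteristic_iff_comap_eq.mp (frattini_characteristic (G := X))) α
  conv_rhs => rw [← h]
  rfl

theorem aut_eq_one_of_mod_frattini [Finite X] (hX : IsPGroup 2 X) {α : MulAut X} (hα : Odd (orderOf α))
    (h : ∀ x : X, x⁻¹ * α x ∈ frattini X) : α = 1 := by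
  have h1 : ∀ (n : ℕ) (x : X), x⁻¹ * (α ^ n) x ∈ frattini X := by
    intro n
    induction n with
    | zero => intro x; simp
    | succ n ih =>
      intro x
      have := (frattini X).mul_mem (ih x) (h ((α ^ n) x))
      rw [pow_succ', MulAut.mul_apply]
      simpa [mul_assoc] using this
  ext x
  refine act_trivial_of_trivial_mod_frattini (A := zpowers α) (K := X) ?_ (fun a k => ?_) ⟨α, mem_zpowers α⟩ x
  · obtain ⟨k, hk⟩ := IsPGroup.iff_card.mp (hX.to_subgroup (frattini X))
    rw [Nat.card_zpowers, hk]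
    exact Nat.Coprime.pow_right k (Nat.coprime_two_right.mpr hα)
  · obtain ⟨n, hn⟩ := mem_powers_iff_mem_zpowers.mpr a.2
    have : (a : MulAut X) = α ^ n := hn.symm
    show k⁻¹ * (a : MulAut X) k ∈ _
    rw [this]; exact h1 n k

theorem sup_zpowers_aut_eq_top [Finite X] (hX : IsPGroup 2 X) {a b : X} [(zpowers a).Normal]
    (h : zpowers a ⊔ zpowers b = ⊤) {α : MulAut X} (hα : Odd (orderOf α)) (h1 : α ≠ 1) :
    zpowers a ⊔ zpowers (α a) = ⊤ := by
  by_contra hne
  apply h1
  set π := QuotientGroup.mk' (frattini X) with hπ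
  have hc : ∀ x y : X, π x * π y = π y * π x := fun x y =>
    (isMulCommutative_quotient_frattini hX).is_comm.comm _ _
  have hev : ∀ (x : X) (j : ℤ), Even j → π x ^ j = 1 := fun x j hj => by
    rw [← map_zpow]; exact (QuotientGroup.eq_one_iff _).mpr (zpow_mem_frattini_of_even hX x hj)
  have hod : ∀ (x : X) (j : ℤ), Odd j → π x ^ j = π x := by
    rintro x _ ⟨k, rfl⟩
    rw [zpow_add, hev x _ (even_two_mul k), one_mul, zpow_one]
  have hπα : ∀ x y : X, π x = π y → π (α x) = π (α y) := fun x y e => by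
    refine QuotientGroup.eq.mpr ?_
    rw [← map_inv, ← map_mul, aut_mem_frattini]
    exact QuotientGroup.eq.mp e
  have hone : ∀ x : X, π (α x) = 1 → π x = 1 := fun x e =>
    (QuotientGroup.eq_one_iff _).mpr ((aut_mem_frattini α).mp ((QuotientGroup.eq_one_iff _).mp e))
  obtain ⟨i, j, hij⟩ := exists_zpow_mul_zpow h (α a)
  have hj : Even j := by
    rcases Int.even_or_odd j with hj | hj
    · exact hj
    · refine absurd (top_le_iff.mp ?_) hne
      rw [← h]
      refine sup_le le_sup_left (zpowers_le.mpr (zpowers_le.mpr ?_ (mem_zpowers_zpow_of_odd hX b hj)))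
      have := (zpowers a ⊔ zpowers (α a)).mul_mem
        (mem_sup_left (inv_mem (zpow_mem_zpowers a i))) (mem_sup_right (mem_zpowers (α a)))
      rwa [show (a ^ i)⁻¹ * α a = b ^ j by rw [hij, inv_mul_cancel_left]] at this
  have ha : π (α a) = π a := by
    have e : π (α a) = π a ^ i := by rw [hij, map_mul, map_zpow, map_zpow, hev b j hj, mul_one]
    rcases Int.even_or_odd i with hi | hi
    · rw [hev a i hi] at e
      rw [e, hone a e]
    · rw [e, hod a i hi]
  obtain ⟨k, l, hkl⟩ := exists_zpow_mul_zpow h (α b)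
  have hb : π (α b) = π b := by
    have e : π (α b) = π a ^ k * π b ^ l := by rw [hkl, map_mul, map_zpow, map_zpow]
    rcases Int.even_or_odd l with hl | hl
    · exfalso
      rw [hev b l hl, mul_one] at e
      have h2 : zpowers a ⊔ frattini X = ⊤ := by
        rw [eq_top_iff]
        intro x _
        obtain ⟨y, rfl⟩ := α.surjective x
        obtain ⟨s, t, rfl⟩ := exists_zpow_mul_zpow h y
        have : π (α (a ^ s * b ^ t)) = π (a ^ (s + k * t)) := by
          rw [map_mul, map_zpow, map_zpow, map_mul, map_zpow, map_zpow, ha, e, map_zpow, zpow_add, zpow_mul]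
        have h3 := (zpowers a ⊔ frattini X).mul_mem (mem_sup_left (zpow_mem_zpowers a (s + k * t)))
          (mem_sup_right (QuotientGroup.eq.mp this.symm))
        rwa [mul_inv_cancel_left] at h3
      exact hne (top_le_iff.mp ((frattini_nongenerating h2).ge.trans le_sup_left))
    · rw [hod b l hl] at e
      rcases Int.even_or_odd k with hk | hk
      · rw [e, hev a k hk, one_mul]
      · rw [hod a k hk] at e
        have h2 : ∀ n : ℕ, π ((α ^ n) b) = π a ^ n * π b := by
          intro n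
          induction n with
          | zero => simp
          | succ n ih =>
            rw [pow_succ', MulAut.mul_apply, hπα _ (a ^ n * b) (by rw [ih, map_mul, map_pow]), map_mul, map_pow,
              map_mul, map_pow, ha, e, pow_succ, mul_assoc]
        have h3 := h2 (orderOf α)
        rw [pow_orderOf_eq_one, MulAut.one_apply, ← zpow_natCast, hod a _ (by exact_mod_cast hα)] at h3
        rw [e, ← h3]
  refine aut_eq_one_of_mod_frattini hX hα fun x => QuotientGroup.eq.mp ?_
  obtain ⟨s, t, rfl⟩ := exists_zpow_mul_zpow h x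
  show π _ = π _
  rw [map_mul α, map_zpow α, map_zpow α, map_mul, map_mul, map_zpow, map_zpow, map_zpow, map_zpow, ha, hb]

theorem normal_zpowers_aut {a : X} [h : (zpowers a).Normal] (α : MulAut X) : (zpowers (α a)).Normal := by
  have := h.map α.toMonoidHom α.surjective
  rwa [MonoidHom.map_zpowers] at this

/-- A group generated by two commuting elements of order `n` with trivially intersecting cyclic subgroups. -/
theorem nonempty_equiv_zmod_prod [Finite X] {a y : X} {n : ℕ} (ha : orderOf a = n) (hy : orderOf y = n)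
    (hc : Commute a y) (hd : zpowers a ⊓ zpowers y = ⊥) (h : ∀ x : X, ∃ i j : ℤ, x = a ^ i * y ^ j) :
    Nonempty (X ≃* Multiplicative (ZMod n) × Multiplicative (ZMod n)) := by
  let e : ∀ {x : X}, orderOf x = n → (Multiplicative (ZMod n) ≃* zpowers x) := fun {x} hx =>
    zmodMulEquivOfGenerator (g := (⟨x, mem_zpowers x⟩ : zpowers x))
      (fun ⟨_, k, rfl⟩ => ⟨k, rfl⟩) (by rw [Nat.card_zpowers, hx])
  let f : zpowers a × zpowers y →* X := MonoidHom.noncommCoprod (zpowers a).subtype (zpowers y).subtype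
    (fun ⟨_, i, rfl⟩ ⟨_, j, rfl⟩ => hc.zpow_zpow i j)
  have hf : Function.Bijective f := by
    refine ⟨(injective_iff_map_eq_one f).mpr fun p hp => ?_, fun x => ?_⟩
    · have h1 : (p.1 : X) * p.2 = 1 := hp
      have h2 : (p.1 : X) ∈ zpowers a ⊓ zpowers y :=
        ⟨p.1.2, by rw [eq_inv_of_mul_eq_one_left h1]; exact (zpowers y).inv_mem p.2.2⟩
      rw [hd, mem_bot] at h2
      rw [h2, one_mul] at h1
      exact Prod.ext (Subtype.ext h2) (Subtype.ext h1)
    · obtain ⟨i, j, rfl⟩ := h x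
      exact ⟨(⟨_, zpow_mem_zpowers a i⟩, ⟨_, zpow_mem_zpowers y j⟩), rfl⟩
  exact ⟨(MulEquiv.ofBijective f hf).symm.trans ((e ha).prodCongr (e hy)).symm⟩

/-- A metacyclic 2-group with a nontrivial automorphism of odd order is `Q₈` or homocyclic of rank two. -/
theorem metacyclic_two_of_odd_aut [Finite X] (hX : IsPGroup 2 X) (hm : IsMetacyclic X) {α : MulAut X}
    (hα : Odd (orderOf α)) (h1 : α ≠ 1) : Nonempty (X ≃* QuaternionGroup 2) ∨
      ∃ n : ℕ, 1 ≤ n ∧ Nonempty (X ≃* Multiplicative (ZMod (2 ^ n)) × Multiplicative (ZMod (2 ^ n))) := by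
  obtain ⟨a, b, hn, hab⟩ := CL.Fgs.mc_exists_gen hm
  have h := sup_zpowers_aut_eq_top hX hab hα h1
  set y := α a with hy
  have hny : (zpowers y).Normal := normal_zpowers_aut α
  have hel := exists_zpow_mul_zpow h
  obtain ⟨N, hN⟩ := IsPGroup.iff_orderOf.mp hX a
  have hNy : orderOf y = 2 ^ N := by rw [hy, MulEquiv.orderOf_eq, hN]
  -- `X` is not cyclic
  have hnc : ∀ x : X, zpowers x ≠ ⊤ := fun x hx => h1 (by
    ext z
    exact aut_fix_of_mem_zpowers hX hα (by
      obtain ⟨k, rfl⟩ : z ∈ zpowers x := hx ▸ mem_top z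
      obtain ⟨l, hl⟩ : α x ∈ zpowers x := hx ▸ mem_top _
      rw [map_zpow, ← hl, ← zpow_mul, mul_comm, zpow_mul]
      exact zpow_mem_zpowers _ _))
  -- the intersection
  obtain ⟨m, hm1, hm2⟩ : ∃ m : ℕ, a ^ 2 ^ m ∈ zpowers y ∧ ∀ k < m, a ^ 2 ^ k ∉ zpowers y := by
    have hex : ∃ m : ℕ, a ^ 2 ^ m ∈ zpowers y := ⟨N, by rw [← hN, pow_orderOf_eq_one]; exact one_mem _⟩
    exact ⟨Nat.find hex, Nat.find_spec hex, fun k hk => Nat.find_min hex hk⟩
  have hmN : m ≤ N := by
    by_contra hlt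
    exact hm2 N (by omega) (by rw [← hN, pow_orderOf_eq_one]; exact one_mem _)
  have hm0 : 1 ≤ m := by
    by_contra hlt
    have : m = 0 := by omega
    rw [this, pow_zero, pow_one] at hm1
    exact hnc y (top_le_iff.mp (h.ge.trans (sup_le (zpowers_le.mpr hm1) le_rfl)))
  set c := a ^ 2 ^ m with hc
  have hco : orderOf c = 2 ^ (N - m) := orderOf_pow_prime_pow two_ne_zero hN hmN
  have hinf : ∀ x ∈ zpowers a, x ∈ zpowers y → x ∈ zpowers c := by
    rintro _ ⟨i, rfl⟩ hx
    rcases eq_or_ne i 0 with rfl | hi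
    · simp
    obtain ⟨k, u, hu, rfl⟩ : ∃ (k : ℕ) (u : ℤ), Odd u ∧ i = 2 ^ k * u := by
      obtain ⟨k, u, hu, e⟩ := Nat.exists_eq_two_pow_mul_odd (Int.natAbs_ne_zero.mpr hi)
      rcases Int.natAbs_eq i with e' | e'
      · exact ⟨k, u, by exact_mod_cast hu, by rw [e', e]; push_cast; ring⟩
      · exact ⟨k, -u, Odd.neg (by exact_mod_cast hu), by rw [e', e]; push_cast; ring⟩
    have h2 : a ^ 2 ^ k ∈ zpowers y := by
      have := zpowers_zpow_mul_of_odd hN (2 ^ k) hu
      have h3 : a ^ ((2 : ℤ) ^ k) ∈ zpowers (a ^ ((2 : ℤ) ^ k * u)) := this ▸ mem_zpowers _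
      have h4 := zpowers_le.mpr hx h3
      rwa [show ((2 : ℤ) ^ k) = ((2 ^ k : ℕ) : ℤ) by push_cast; rfl, zpow_natCast] at h4
    have hk : m ≤ k := by
      by_contra hlt
      exact hm2 k (by omega) h2
    obtain ⟨d, rfl⟩ := Nat.exists_eq_add_of_le hk
    refine ⟨2 ^ d * u, ?_⟩
    simp only [hc]
    rw [← zpow_natCast, ← zpow_mul]
    congr 1
    push_cast; ring
  have hcZ : c ∈ center X := mem_center_iff.mpr fun x => by
    obtain ⟨i, j, rfl⟩ := hel x
    obtain ⟨l, hl⟩ := hm1
    refine (Commute.mul_left ?_ ?_).eq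
    · exact ((Commute.refl a).zpow_left i).pow_right _
    · rw [← hl]; exact (Commute.refl y).zpow_zpow _ _
  have hcomm : ∀ i j : ℤ, ⁅y ^ j, a ^ i⁆ ∈ zpowers c := fun i j =>
    hinf _ (commutatorElement_mem_of_normal_right _ (zpow_mem_zpowers a i))
      (commutatorElement_mem_of_normal_left (zpow_mem_zpowers y j) _)
  by_cases hc1 : c = 1
  · right
    have hNm : N = m := by
      rw [hc1, orderOf_one] at hco
      have := (Nat.pow_eq_one.mp hco.symm).resolve_left (by norm_num)
      omega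
    refine ⟨N, hNm ▸ hm0, nonempty_equiv_zmod_prod hN hNy ?_ ?_ hel⟩
    · have := hcomm 1 1
      rw [hc1, zpowers_one_eq_bot, mem_bot, zpow_one, zpow_one, commutatorElement_eq_one_iff_commute] at this
      exact this.symm
    · rw [eq_bot_iff]
      intro x hx
      have := hinf x hx.1 hx.2
      rwa [hc1, zpowers_one_eq_bot] at this
  left
  have hNm : m < N := by
    by_contra hle
    rw [show N - m = 0 by omega, pow_zero, orderOf_eq_one_iff] at hco
    exact hc1 hco
  -- `α` fixes `c`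
  have hαc : α c = c := by
    refine aut_fix_of_mem_zpowers hX hα ?_
    have h2 : zpowers c ≤ zpowers (y ^ 2 ^ m) := by
      obtain ⟨l, hl⟩ := mem_zpowers_iff.mp hm1
      have h3 : y ^ (l * 2 ^ (N - m)) = 1 := by
        rw [zpow_mul, hl, show ((2 : ℤ) ^ (N - m)) = ((2 ^ (N - m) : ℕ) : ℤ) by push_cast; rfl, zpow_natCast,
          ← hco, pow_orderOf_eq_one]
      rw [zpow_eq_one_iff_of_orderOf hNy] at h3
      have h4 : ((2 : ℕ) : ℤ) ^ N = 2 ^ m * 2 ^ (N - m) := by
        rw [← pow_add, Nat.add_sub_cancel' hmN]; rfl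
      rw [h4] at h3
      obtain ⟨d, rfl⟩ := Int.dvd_of_mul_dvd_mul_right (by positivity) h3
      refine zpowers_le.mpr ⟨d, ?_⟩
      simp only [← hl]
      rw [← zpow_natCast, ← zpow_mul]
      congr 1
    have h5 := Subgroup.eq_of_le_of_card_ge h2 (by
      rw [Nat.card_zpowers, Nat.card_zpowers, hco, orderOf_pow_prime_pow two_ne_zero hNy hmN])
    rw [h5, hc, map_pow]
    exact mem_zpowers _
  have hyc : y ^ 2 ^ m = c := by rw [← hαc, hc, map_pow]
  obtain ⟨i, j, hij⟩ := hel (α y)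
  have hwc : (α y) ^ 2 ^ m = c := by rw [← map_pow, hyc, hαc]
  have htop : ∀ x : X, zpowers x ⊔ frattini X ≠ ⊤ := fun x hx => hnc x (frattini_nongenerating hx)
  have hyw : zpowers y ⊔ zpowers (α y) = ⊤ := by
    have := congrArg (Subgroup.map α.toMonoidHom) h
    rwa [Subgroup.map_sup, MonoidHom.map_zpowers, MonoidHom.map_zpowers,
      map_top_of_surjective _ α.surjective] at this
  have hi : Odd i := by
    rcases Int.even_or_odd i with hi | hi
    · refine absurd (top_le_iff.mp (hyw.ge.trans (sup_le le_sup_left (zpowers_le.mpr ?_)))) (htop y)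
      rw [hij]
      exact mul_mem (mem_sup_right (zpow_mem_frattini_of_even hX a hi)) (mem_sup_left (zpow_mem_zpowers y j))
    · exact hi
  have hj : Odd j := by
    rcases Int.even_or_odd j with hj | hj
    · exfalso
      have h2 : (α * α) ≠ 1 := fun h2 => h1 (eq_one_of_odd_of_mul_self h2 hα)
      have h3 := sup_zpowers_aut_eq_top hX hab (α := α * α)
        (Odd.of_dvd_nat hα (by rw [← pow_two]; exact orderOf_pow_dvd 2)) h2
      refine htop a (top_le_iff.mp (h3.ge.trans (sup_le le_sup_left (zpowers_le.mpr ?_))))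
      rw [MulAut.mul_apply, ← hy, hij]
      exact mul_mem (mem_sup_left (zpow_mem_zpowers a i)) (mem_sup_right (zpow_mem_frattini_of_even hX y hj))
    · exact hj
  obtain ⟨s, hs⟩ := hcomm i j
  have heZ : ⁅y ^ j, a ^ i⁆ ∈ center X := zpowers_le.mpr hcZ (hcomm i j)
  have hpow : ∀ (x : X) (k : ℤ), x ^ 2 ^ m = c → (x ^ k) ^ 2 ^ m = c ^ k := fun x k e => by
    rw [← e, ← zpow_natCast, ← zpow_mul, mul_comm, zpow_mul, zpow_natCast]
  have h6 : c = c ^ (i + j + s * ((2 ^ m).choose 2 : ℕ)) := by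
    conv_lhs => rw [← hwc, hij, mul_pow_of_central heZ, hpow a i rfl, hpow y j hyc, ← hs]
    simp only [← zpow_natCast, ← zpow_mul, ← zpow_add]
  have h7 : (2 : ℤ) ∣ 1 - (i + j + s * ((2 ^ m).choose 2 : ℕ)) := by
    have := (zpow_eq_zpow_iff_of_orderOf hco 1 (i + j + s * ((2 ^ m).choose 2 : ℕ))).mp
      (by rw [zpow_one]; exact h6)
    exact (dvd_pow_self _ (Nat.sub_ne_zero_of_lt hNm)).trans this
  have h8 : Odd (s * ((2 ^ m).choose 2 : ℕ)) := by
    obtain ⟨i', rfl⟩ := hi
    obtain ⟨j', rfl⟩ := hj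
    obtain ⟨t, ht⟩ := h7
    exact ⟨-t - i' - j' - 1, by linarith⟩
  obtain ⟨hs1, h9⟩ := Int.odd_mul.mp h8
  have hm : m = 1 := by
    by_contra hne
    obtain ⟨k, rfl⟩ : ∃ k, m = k + 2 := ⟨m - 2, by omega⟩
    have h10 : Odd ((2 ^ (k + 2)).choose 2) := by exact_mod_cast h9
    rw [Nat.choose_two_right, show 2 ^ (k + 2) * (2 ^ (k + 2) - 1) = 2 * (2 * (2 ^ k * (2 ^ (k + 2) - 1))) by ring,
      Nat.mul_div_cancel_left _ two_pos] at h10
    exact Nat.not_odd_iff_even.mpr (even_two_mul _) h10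
  subst hm
  have h11 : c ^ (s * 2) = 1 := by
    rw [zpow_mul, zpow_two, ← pow_two]
    simp only [] at hs
    rw [hs, ← comm_pow_right_of_central heZ, commutatorElement_eq_one_iff_commute]
    have := hpow a i rfl
    rw [pow_one] at this
    rw [this]
    exact (mem_center_iff.mp ((center X).zpow_mem hcZ i) _)
  have hN2 : N = 2 := by
    rw [zpow_eq_one_iff_of_orderOf hco] at h11
    by_contra hne
    obtain ⟨k, hk⟩ : ∃ k, N - 1 = k + 2 := ⟨N - 3, by omega⟩
    rw [hk] at h11
    have : (2 : ℤ) * 2 ∣ s * 2 := Dvd.dvd.trans ⟨2 ^ k, by push_cast; ring⟩ h11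
    have h12 := Int.dvd_of_mul_dvd_mul_right two_ne_zero this
    exact Int.not_even_iff_odd.mpr hs1 (even_iff_two_dvd.mpr h12)
  subst hN2
  have hc2 : c * c = 1 := by rw [← pow_two, ← pow_orderOf_eq_one c, hco]; rfl
  have hya : y ∉ zpowers a := fun hy' =>
    hnc a (top_le_iff.mp (h.ge.trans (sup_le le_rfl (zpowers_le.mpr hy'))))
  have hnotc : ¬ Commute y a := fun hcm => by
    have h12 : ⁅y ^ j, a ^ i⁆ = 1 := commutatorElement_eq_one_iff_commute.mpr (hcm.zpow_zpow j i)
    simp only [] at hs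
    rw [h12, zpow_eq_one_iff_of_orderOf hco] at hs
    exact Int.not_even_iff_odd.mpr hs1 (even_iff_two_dvd.mpr (by simpa using hs))
  have hconj : y * a * y⁻¹ = a⁻¹ := by
    have h12 := hcomm 1 1
    rw [zpow_one, zpow_one] at h12
    rcases (mem_zpowers_of_mul_self hc2).mp h12 with h13 | h13
    · exact absurd (commutatorElement_eq_one_iff_commute.mp h13) hnotc
    · have h14 : a ^ 4 = 1 := by rw [← pow_orderOf_eq_one a, hN]; rfl
      rw [commutatorElement_def, mul_inv_eq_iff_eq_mul] at h13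
      rw [h13, hc, eq_inv_iff_mul_eq_one, ← h14]; group
  refine (nonempty_quaternion_subgroup (H := ⊤) (n := 2) (a := a) (s := y) hN
    (by rw [← pow_two]; exact hyc) hconj hya (fun g => ⟨fun _ => ?_, fun _ => mem_top g⟩)).map
    fun e => topEquiv.symm.trans e
  · obtain ⟨k, l, rfl⟩ := hel g
    have h15 : ∀ t : ℤ, y ^ (2 * t) ∈ zpowers a := fun t => by
      rw [zpow_mul, zpow_two, ← pow_two]
      have : y ^ 2 = c := hyc
      rw [this]
      exact zpow_mem (pow_mem (mem_zpowers a) _) t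
    rcases Int.even_or_odd' l with ⟨t, rfl | rfl⟩
    · exact Or.inl (mul_mem (zpow_mem_zpowers a k) (h15 t))
    · right
      rw [zpow_add, zpow_one, mul_assoc, mul_inv_cancel_right]
      exact mul_mem (zpow_mem_zpowers a k) (h15 t)

end CL.Inv
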