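/-
Bicyclic 2-groups: at most one maximal subgroup is not metacyclic (Janko).
-/
import Cfsg.Agent.Inv.Metacyc2
import Cfsg.Agent.Grp.NilpSub

set_option autoImplicit false

open Cfsg Subgroup CL.Grp CL.Fgs
open scoped commutatorElement

namespace CL.Inv

universe u

/-- `X = ⟨x⟩⟨y⟩`. -/
def Bic {X : Type*} [Group X] (x y : X) : Prop := ∀ g : X, ∃ i j : ℤ, g = x ^ i * y ^ j

variable {X : Type*} [Group X] {x y : X}

theorem Bic.symm (h : Bic x y) : Bic y x := fun g => by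
  obtain ⟨i, j, e⟩ := h g⁻¹
  exact ⟨-j, -i, by rw [← inv_inv g, e]; group⟩

theorem Bic.map (h : Bic x y) {Y : Type*} [Group Y] (f : X →* Y) (hf : Function.Surjective f) :
    Bic (f x) (f y) := fun g => by
  obtain ⟨g, rfl⟩ := hf g
  obtain ⟨i, j, rfl⟩ := h g
  exact ⟨i, j, by simp⟩

theorem Bic.eq_top (h : Bic x y) {M : Subgroup X} (hx : x ∈ M) (hy : y ∈ M) : M = ⊤ :=
  eq_top_iff.2 fun g _ => by
    obtain ⟨i, j, rfl⟩ := h g
    exact mul_mem (zpow_mem hx i) (zpow_mem hy j)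

theorem Bic.sup (h : Bic x y) : zpowers x ⊔ zpowers y = ⊤ :=
  h.eq_top (mem_sup_left (mem_zpowers x)) (mem_sup_right (mem_zpowers y))

theorem mem_of_zpow_odd [Finite X] (hX : IsPGroup 2 X) {M : Subgroup X} {b : X} {j : ℤ} (hj : Odd j)
    (h : b ^ j ∈ M) : b ∈ M :=
  (zpowers_le.2 h) (mem_zpowers_zpow_of_odd hX b hj)

/-- Blackburn's step: if all quotients by central involutions of the derived group are metacyclic. -/
theorem commutator_eq_of_mc_quotient [Finite X] (hX : IsPGroup 2 X) (hm : ¬ IsMetacyclic X) {z : X}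
    (hz : z ∈ center X) (hz2 : z ^ 2 = 1) (hzc : z ∈ commutator X) [(zpowers z).Normal]
    (h : IsMetacyclic (X ⧸ zpowers z)) : commutator X ≤ zpowers z := by
  obtain ⟨a', b', hn, htop⟩ := mc_exists_gen h
  obtain ⟨a, rfl⟩ := QuotientGroup.mk'_surjective (zpowers z) a'
  obtain ⟨b, rfl⟩ := QuotientGroup.mk'_surjective (zpowers z) b'
  have hzc' : ∀ g : X, Commute g z := fun g => mem_center_iff.1 hz g
  have hU : ∀ g : X, QuotientGroup.mk' (zpowers z) g ∈ zpowers (QuotientGroup.mk' (zpowers z) a) →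
      ∃ k e : ℤ, g = a ^ k * z ^ e := fun g ⟨k, hk⟩ => by
    have h1 : (a ^ k)⁻¹ * g ∈ zpowers z := by
      rw [← QuotientGroup.eq, ← QuotientGroup.mk'_apply, map_zpow]
      exact hk
    obtain ⟨e, he⟩ := h1
    exact ⟨k, e, by rw [show z ^ e = _ from he]; group⟩
  have hgen : ∀ M : Subgroup X, a ∈ M → b ∈ M → z ∈ M → M = ⊤ := fun M ha hb hzM => by
    have h1 : M.map (QuotientGroup.mk' (zpowers z)) = ⊤ := by
      rw [eq_top_iff, ← htop]
      exact sup_le (zpowers_le.2 (mem_map_of_mem _ ha)) (zpowers_le.2 (mem_map_of_mem _ hb))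
    rw [← comap_top (QuotientGroup.mk' (zpowers z)), ← h1, comap_map_eq, QuotientGroup.ker_mk',
      sup_of_le_left (zpowers_le.2 hzM)]
  have hza : z ∉ zpowers a := fun hza => by
    haveI : (zpowers a).Normal := ⟨fun n hn' g => by
      obtain ⟨k, e, h1⟩ := hU (g * n * g⁻¹) (by
        rw [map_mul, map_mul, map_inv]
        refine hn.conj_mem _ ?_ _
        obtain ⟨m, rfl⟩ := hn'
        exact ⟨m, by simp⟩)
      rw [h1]
      exact mul_mem (zpow_mem (mem_zpowers a) k) (zpow_mem hza e)⟩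
    exact hm (mc_of_gen (a := a) (b := b) (hgen _ (mem_sup_left (mem_zpowers a)) (mem_sup_right (mem_zpowers b))
      (mem_sup_left hza)))
  obtain ⟨k, e, hk⟩ := hU (b * a * b⁻¹) (by
    rw [map_mul, map_mul, map_inv]; exact hn.conj_mem _ (mem_zpowers _) _)
  have hc : ⁅a, b⁆ = a ^ (1 - k) * z ^ (-e) := by
    rw [commutatorElement_def, show a * b * a⁻¹ * b⁻¹ = a * (b * a * b⁻¹)⁻¹ by group, hk, mul_inv_rev,
      ← zpow_neg, ← zpow_neg, ← ((hzc' (a ^ (-k))).zpow_right (-e)).eq]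
    group
  have hac : Commute a ⁅a, b⁆ := by
    rw [hc]; exact ((Commute.refl a).zpow_right _).mul_right ((hzc' a).zpow_right _)
  have hbc : b * ⁅a, b⁆ * b⁻¹ = ⁅a, b⁆ ^ k := by
    have h1 : ⁅a, b⁆ = a * (b * a * b⁻¹)⁻¹ := by group
    have h2 : Commute a (b * a * b⁻¹)⁻¹ := by
      rw [hk]; exact (((Commute.refl a).zpow_right _).mul_right ((hzc' a).zpow_right _)).inv_right
    have h3 : b * (b * a * b⁻¹) * b⁻¹ = (b * a * b⁻¹) ^ k * z ^ e := by
      conv_lhs => rw [hk]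
      rw [conj_zpow, mul_assoc (b * a ^ k), ← ((hzc' b⁻¹).zpow_right e).eq.symm]
      group
    calc b * ⁅a, b⁆ * b⁻¹ = (b * a * b⁻¹) * (b * (b * a * b⁻¹) * b⁻¹)⁻¹ := by group
      _ = a ^ k * z ^ e * ((b * a * b⁻¹) ^ k * z ^ e)⁻¹ := by rw [h3, ← hk]
      _ = a ^ k * ((b * a * b⁻¹) ^ k)⁻¹ := by group
      _ = _ := by rw [h1, h2.mul_zpow, inv_zpow]
  haveI hcn : (zpowers ⁅a, b⁆).Normal := by
    rw [← normalizer_eq_top_iff]
    refine hgen _ (centralizer_le_normalizer' _ ?_) ?_ (centralizer_le_normalizer' _ ?_)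
    · rintro _ ⟨m, rfl⟩
      exact (hac.zpow_right m).symm.eq
    · refine mem_normalizer_fintype fun n ⟨m, hm'⟩ => ?_
      rw [← hm', ← conj_zpow, hbc, ← zpow_mul]
      exact zpow_mem (mem_zpowers _) _
    · exact fun g _ => (hzc' g).eq
  have hle : commutator X ≤ zpowers ⁅a, b⁆ := by
    have hq : ∀ u v : X, u ∈ (centralizer {QuotientGroup.mk' (zpowers ⁅a, b⁆) v}).comap
        (QuotientGroup.mk' (zpowers ⁅a, b⁆)) ↔ ⁅u, v⁆ ∈ zpowers ⁅a, b⁆ := fun u v => by
      rw [mem_comap, mem_centralizer_singleton_iff, ← commutatorElement_eq_one_iff_mul_comm,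
        ← map_commutatorElement, QuotientGroup.mk'_apply, QuotientGroup.eq_one_iff]
    have hz1 : ∀ v : X, ⁅z, v⁆ ∈ zpowers ⁅a, b⁆ := fun v => by
      rw [(hzc' v).symm.commutator_eq]; exact one_mem _
    have hsym : ∀ u v : X, ⁅u, v⁆ ∈ zpowers ⁅a, b⁆ → ⁅v, u⁆ ∈ zpowers ⁅a, b⁆ := fun u v h => by
      rw [← commutatorElement_inv u v]; exact inv_mem h
    have ha : ∀ u : X, ⁅u, a⁆ ∈ zpowers ⁅a, b⁆ := fun u => (hq u a).1 (by
      rw [hgen _ ((hq a a).2 (by simp)) ((hq b a).2 (hsym _ _ (mem_zpowers _))) ((hq z a).2 (hz1 a))]; trivial)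
    have hb : ∀ u : X, ⁅u, b⁆ ∈ zpowers ⁅a, b⁆ := fun u => (hq u b).1 (by
      rw [hgen _ ((hq a b).2 (mem_zpowers _)) ((hq b b).2 (by simp)) ((hq z b).2 (hz1 b))]; trivial)
    refine commutator_le.2 fun u _ v _ => (hq u v).1 ?_
    rw [hgen _ ((hq a v).2 (hsym _ _ (ha v))) ((hq b v).2 (hsym _ _ (hb v))) ((hq z v).2 (hz1 v))]; trivial
  obtain ⟨m, hm'⟩ := hle hzc
  rcases Int.even_or_odd m with ⟨r, rfl⟩ | hm2
  · refine absurd ?_ hza
    have h2 : ⁅a, b⁆ ^ (2 : ℤ) = a ^ (2 * (1 - k)) := by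
      rw [hc, (((hzc' a).zpow_zpow _ _)).mul_zpow, ← zpow_mul, ← zpow_mul, mul_comm (-e), zpow_mul z,
        show z ^ (2 : ℤ) = 1 by exact_mod_cast hz2, one_zpow, mul_one, mul_comm]
    rw [← show ⁅a, b⁆ ^ (r + r) = z from hm', ← two_mul, zpow_mul, h2, ← zpow_mul]
    exact zpow_mem (mem_zpowers a) _
  · exact hle.trans (zpowers_le.2 (mem_of_zpow_odd hX hm2 (by
      rw [show ⁅a, b⁆ ^ m = z from hm']; exact mem_zpowers z)))

/-- A non-metacyclic 2-group that is not abelian-with-metacyclic-defect has a non-metacyclic quotient by a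
subgroup of the derived group whose derived group has order at most two. -/
theorem exists_quot_not_mc {X : Type u} [Group X] [Finite X] (hX : IsPGroup 2 X) (hm : ¬ IsMetacyclic X) :
    ∃ (Y : Type u) (_ : Group Y) (f : X →* Y) (z : Y), Function.Surjective f ∧ f.ker ≤ commutator X ∧
      ¬ IsMetacyclic Y ∧ z ∈ center Y ∧ z ^ 2 = 1 ∧ commutator Y = zpowers z := by
  induction hn : Nat.card X using Nat.strong_induction_on generalizing X with
  | _ n ih =>
  by_cases h1 : commutator X = ⊥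
  · exact ⟨X, _, MonoidHom.id X, 1, Function.surjective_id, by simp, hm, one_mem _, one_pow _, by simp [h1]⟩
  obtain ⟨z, hz, hz1, hz2⟩ : ∃ z ∈ commutator X ⊓ center X, z ≠ 1 ∧ z ^ 2 = 1 := by
    haveI := hX.isNilpotent
    obtain ⟨p, z, hp, hz, ho⟩ := exists_mem_orderOf_prime (inf_center_ne_bot h1)
    obtain ⟨k, hk⟩ := (IsPGroup.iff_orderOf.1 hX) z
    obtain rfl : p = 2 := (Nat.prime_dvd_prime_iff_eq hp Nat.prime_two).1 (hp.dvd_of_dvd_pow (by rw [← hk, ho]))
    exact ⟨z, hz, fun h => by simp [h] at ho, ho ▸ pow_orderOf_eq_one z⟩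
  haveI : (zpowers z).Normal := ⟨fun n hn' g => by
    obtain ⟨m, rfl⟩ := hn'
    rw [← conj_zpow, mem_center_iff.1 hz.2 g, mul_inv_cancel_right]
    exact ⟨m, rfl⟩⟩
  by_cases h2 : IsMetacyclic (X ⧸ zpowers z)
  · exact ⟨X, _, MonoidHom.id X, z, Function.surjective_id, by simp, hm, hz.2, hz2,
      le_antisymm (commutator_eq_of_mc_quotient hX hm hz.2 hz2 hz.1 h2) (zpowers_le.2 hz.1)⟩
  obtain ⟨Y, _, f, w, hf, hk, hY⟩ := ih _ (by
    rw [← hn, card_eq_card_quotient_mul_card_subgroup (zpowers z)]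
    refine lt_mul_of_one_lt_right Nat.card_pos ?_
    rw [one_lt_card_iff_ne_bot, Ne, zpowers_eq_bot]
    exact hz1) (hX.to_quotient _) h2 rfl
  refine ⟨Y, _, f.comp (QuotientGroup.mk' _), w, hf.comp (QuotientGroup.mk'_surjective _), fun g hg => ?_, hY⟩
  have h3 : QuotientGroup.mk' (zpowers z) g ∈ (commutator X).map (QuotientGroup.mk' (zpowers z)) := by
    rw [map_commutator_eq, MonoidHom.range_eq_top_of_surjective _ (QuotientGroup.mk'_surjective _)]
    exact hk hg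
  rw [← mem_comap, comap_map_eq, QuotientGroup.ker_mk', sup_of_le_left (zpowers_le.2 hz.1)] at h3
  exact h3

section ClassTwo

variable {Y : Type*} [Group Y] {z a b : Y}

theorem notMem_zpowers_of_not_mc (hm : ¬ IsMetacyclic Y) (hc : commutator Y = zpowers z)
    (h : ∀ M : Subgroup Y, a ∈ M → b ∈ M → M = ⊤) : z ∉ zpowers a := fun hz => by
  haveI : (zpowers a).Normal := ⟨fun n hn g => by
    rw [show g * n * g⁻¹ = ⁅g, n⁆ * n by group]
    exact mul_mem ((hc.le.trans (zpowers_le.2 hz)) (commutator_mem_commutator (mem_top g) (mem_top n))) hn⟩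
  exact hm (mc_of_gen (h _ (mem_sup_left (mem_zpowers a)) (mem_sup_right (mem_zpowers b))))

theorem eq_or_of_sq (hz2 : z ^ 2 = 1) {g : Y} (hg : g ∈ zpowers z) : g = 1 ∨ g = z := by
  obtain ⟨k, rfl⟩ := hg
  have h2 : z ^ (2 : ℤ) = 1 := by exact_mod_cast hz2
  rcases Int.even_or_odd' k with ⟨r, rfl | rfl⟩
  · left; simp only [zpow_mul, h2, one_zpow]
  · right; simp only [zpow_add, zpow_mul, h2, one_zpow, one_mul, zpow_one]

variable [Finite Y] (hY : IsPGroup 2 Y) (hm : ¬ IsMetacyclic Y) (hz : z ∈ center Y) (hz2 : z ^ 2 = 1)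
  (hc : commutator Y = zpowers z) (h : Bic a b)

include hY hm hc h in
theorem Bic.even_of_mem {i j : ℤ} {n : ℕ} (hn : (a ^ i * b ^ j) ^ n = z) : Even i ∧ Even j := by
  constructor
  · by_contra hi
    refine notMem_zpowers_of_not_mc (a := a ^ i * b ^ j) (b := b) hm hc (fun M h1 h2 => h.eq_top ?_ h2)
      (hn ▸ pow_mem (mem_zpowers _) n)
    exact mem_of_zpow_odd hY (Int.not_even_iff_odd.1 hi) ((mul_mem_cancel_right (zpow_mem h2 j)).1 h1)
  · by_contra hj
    refine notMem_zpowers_of_not_mc (a := a ^ i * b ^ j) (b := a) hm hc (fun M h1 h2 => h.eq_top h2 ?_)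
      (hn ▸ pow_mem (mem_zpowers _) n)
    exact mem_of_zpow_odd hY (Int.not_even_iff_odd.1 hj) ((mul_mem_cancel_left (zpow_mem h2 i)).1 h1)

include hm hz2 hc h in
theorem Bic.comm_eq : ⁅a, b⁆ = z := by
  refine (eq_or_of_sq hz2 (hc ▸ commutator_mem_commutator (mem_top a) (mem_top b))).resolve_left fun h1 => ?_
  have h2 : Commute a b := commutatorElement_eq_one_iff_commute.1 h1
  haveI : (zpowers a).Normal := ⟨fun n ⟨k, hk⟩ g => by
    obtain ⟨i, j, rfl⟩ := h g
    have h3 : Commute (a ^ i * b ^ j) n := hk ▸ ((Commute.refl a).zpow_zpow i k).mul_left (h2.symm.zpow_zpow j k)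
    rw [h3.eq, mul_inv_cancel_right]
    exact ⟨k, hk⟩⟩
  exact hm (mc_of_gen h.sup)

include hY hm hz hz2 hc h in
theorem Bic.exists_odd : ∃ u v : ℤ, Odd u ∧ Odd v ∧ a ^ (2 * u) * b ^ (2 * v) = z := by
  have hab := h.comm_eq hm hz2 hc
  have hzc : ∀ g : Y, Commute g z := fun g => mem_center_iff.1 hz g
  have hcc : ∀ g k : Y, ⁅g, k⁆ ∈ center Y := fun g k =>
    (hc.le.trans (zpowers_le.2 hz)) (commutator_mem_commutator (mem_top g) (mem_top k))
  have hc2 : ∀ g k : Y, ⁅g, k⁆ ^ 2 = 1 := fun g k => by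
    rcases eq_or_of_sq hz2 (hc.le (commutator_mem_commutator (mem_top g) (mem_top k))) with e | e <;> simp [e, hz2]
  have hsq : ∀ g k : Y, Commute (g ^ 2) k := fun g k => by
    rw [← commutatorElement_eq_one_iff_commute, ← zpow_natCast, ← zpow_one k, comm_zpow_zpow_of_central (hcc g k)]
    exact_mod_cast hc2 g k
  have hmul : ∀ g k : Y, (g * k) ^ 2 = g ^ 2 * k ^ 2 * ⁅k, g⁆ := fun g k => by
    have := mem_center_iff.1 (hcc k g)
    calc (g * k) ^ 2 = g * (⁅k, g⁆ * (g * k * k)) := by rw [sq]; group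
      _ = _ := by rw [← this]; simp only [sq, mul_assoc]
  have hpow : ∀ (g k : Y) (s : ℕ), (g * k) ^ 2 ^ (s + 2) = g ^ 2 ^ (s + 2) * k ^ 2 ^ (s + 2) := fun g k s => by
    have e : 2 ^ (s + 2) = 2 * (2 * 2 ^ s) := by ring
    rw [e, pow_mul, hmul, Commute.mul_pow (mem_center_iff.1 (hcc k g) _), (hsq g _).mul_pow, pow_mul ⁅k, g⁆, hc2,
      one_pow, mul_one, ← pow_mul, ← pow_mul]
  by_contra hne
  have T : ∀ s : ℕ, ∃ u v : ℤ, a ^ (2 ^ s * u) * b ^ (2 ^ s * v) = z := fun s => by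
    induction s with
    | zero => simpa [eq_comm] using h z
    | succ s ih =>
      obtain ⟨u, v, e⟩ := ih
      suffices Even u ∧ Even v by
        obtain ⟨⟨u, rfl⟩, v, rfl⟩ := this
        exact ⟨u, v, by rw [← e]; congr 2 <;> ring⟩
      match s, e with
      | 0, e => exact h.even_of_mem hY hm hc (n := 1) (by simpa using e)
      | 1, e =>
        have e1 : (a ^ u) ^ 2 * (b ^ v) ^ 2 = z := by
          rw [← e, ← zpow_natCast, ← zpow_natCast, ← zpow_mul, ← zpow_mul]; congr 2 <;> push_cast <;> ring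
        refine h.even_of_mem hY hm hc (n := 2) ?_
        rw [hmul, e1, comm_zpow_zpow_of_central (hcc b a)]
        have h3 : Even (v * u) := by
          by_contra h4
          rw [Int.not_even_iff_odd, Int.odd_mul] at h4
          exact hne ⟨u, v, h4.2, h4.1, by simpa using e⟩
        obtain ⟨r, hr⟩ := h3
        rw [hr, ← two_mul, zpow_mul, show ⁅b, a⁆ ^ (2 : ℤ) = 1 by exact_mod_cast hc2 b a, one_zpow, mul_one]
      | s + 2, e =>
        refine h.even_of_mem hY hm hc (n := 2 ^ (s + 2)) ?_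
        rw [hpow, ← e, ← zpow_natCast, ← zpow_natCast, ← zpow_mul, ← zpow_mul]
        congr 2 <;> push_cast <;> ring
  obtain ⟨m, hm1⟩ := hY a
  obtain ⟨n, hn1⟩ := hY b
  obtain ⟨u, v, e⟩ := T (m + n)
  have ha : a ^ ((2 : ℤ) ^ m) = 1 := by exact_mod_cast hm1
  have hb : b ^ ((2 : ℤ) ^ n) = 1 := by exact_mod_cast hn1
  rw [show (2 : ℤ) ^ (m + n) * u = 2 ^ m * (2 ^ n * u) by ring, show (2 : ℤ) ^ (m + n) * v = 2 ^ n * (2 ^ m * v) by ring,
    zpow_mul a, zpow_mul b, ha, hb, one_zpow, one_zpow, mul_one] at e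
  exact notMem_zpowers_of_not_mc hm hc (fun M => h.eq_top) (e ▸ one_mem _)

end ClassTwo

/-- The abelianization of a non-metacyclic bicyclic 2-group. -/
theorem Bic.not_mc_facts {X : Type u} [Group X] [Finite X] {x y : X} (hX : IsPGroup 2 X) (hm : ¬ IsMetacyclic X)
    (h : Bic x y) : (∃ u v : ℤ, Odd u ∧ Odd v ∧ x ^ (2 * u) * y ^ (2 * v) ∈ commutator X) ∧
      x ^ 2 ∉ commutator X ∧ ∀ i j : ℤ, Odd i → x ^ i * y ^ j ∉ commutator X := by
  obtain ⟨Y, _, f, z, hf, hk, hY, hz, hz2, hc⟩ := exists_quot_not_mc hX hm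
  haveI := Finite.of_surjective f hf
  have hYp := hX.of_surjective f hf
  have hb := h.map f hf
  have hmem : ∀ g : X, g ∈ commutator X ↔ f g ∈ zpowers z := fun g => by
    rw [← hc, show commutator Y = (commutator X).map f by
      rw [map_commutator_eq, MonoidHom.range_eq_top_of_surjective _ hf]; rfl, ← mem_comap, comap_map_eq,
      sup_of_le_left hk]
  obtain ⟨u, v, hu, hv, e⟩ := hb.exists_odd hYp hY hz hz2 hc
  refine ⟨⟨u, v, hu, hv, (hmem _).2 (by simp [e])⟩, fun h2 => ?_, fun i j hi h2 => ?_⟩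
  · rcases eq_or_of_sq hz2 ((hmem _).1 h2) with e1 | e1 <;> rw [map_pow] at e1
    · rw [zpow_mul, show f x ^ (2 : ℤ) = 1 by exact_mod_cast e1, one_zpow, one_mul] at e
      exact notMem_zpowers_of_not_mc hY hc (fun M h1 h2 => hb.eq_top h2 h1) (e ▸ zpow_mem (mem_zpowers _) _)
    · exact notMem_zpowers_of_not_mc hY hc (fun M => hb.eq_top) (e1 ▸ pow_mem (mem_zpowers _) _)
  · have h3 := (hmem _).1 h2
    rw [map_mul, map_zpow, map_zpow] at h3
    refine notMem_zpowers_of_not_mc (a := f y) (b := f x) hY hc (fun M h1 h2 => hb.eq_top h2 h1) ?_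
    have h4 : f x ∈ centralizer {f y} := by
      refine mem_of_zpow_odd hYp hi ((mul_mem_cancel_right (x := f y ^ j) ?_).1 ?_)
      · exact zpow_mem (mem_centralizer_singleton_iff.2 rfl) j
      · exact (center_le_centralizer _) ((zpowers_le.2 hz) h3)
    rw [← hb.comm_eq hY hz2 hc, commutatorElement_eq_one_iff_mul_comm.2 (mem_centralizer_singleton_iff.1 h4)]
    exact one_mem _

theorem Bic.mem_iff [Finite X] (hX : IsPGroup 2 X) (hm : ¬ IsMetacyclic X) (h : Bic x y) (i j : ℤ) :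
    x ^ i * y ^ j ∈ zpowers x ⊔ zpowers (y ^ 2) ↔ Even j := by
  rw [mul_mem_cancel_left (zpow_mem (mem_sup_left (mem_zpowers x)) i)]
  refine ⟨fun h1 => by_contra fun hj => ?_, fun ⟨r, hr⟩ => ?_⟩
  · have h2 := h.eq_top (mem_sup_left (mem_zpowers x)) (mem_of_zpow_odd hX (Int.not_even_iff_odd.1 hj) h1)
    have h3 : zpowers x = ⊤ := frattini_nongenerating (eq_top_iff.2 (h2.ge.trans
      (sup_le_sup_left (zpowers_le.2 (pow_mem_frattini hX y)) _)))
    haveI : (zpowers x).Normal := h3 ▸ normal_top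
    exact hm (mc_of_gen h.sup)
  · rw [hr, ← two_mul, zpow_mul]
    exact zpow_mem (mem_sup_right (by rw [zpow_ofNat]; exact mem_zpowers _)) r

/-- Janko: the maximal subgroup `⟨x⟩⟨y²⟩` of the bicyclic 2-group `⟨x⟩⟨y⟩` is metacyclic. -/
theorem Bic.mc_left {X : Type u} [Group X] [Finite X] {x y : X} (hX : IsPGroup 2 X) (h : Bic x y) :
    IsMetacyclic (zpowers x ⊔ zpowers (y ^ 2) : Subgroup X) := by
  by_cases hm : IsMetacyclic X
  · exact mc_subgroup hm _
  by_contra hN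
  set N : Subgroup X := zpowers x ⊔ zpowers (y ^ 2) with hNd
  have hi := h.mem_iff hX hm
  have hidx : N.index = 2 := index_eq_two_iff.2 ⟨y, fun g => by
    obtain ⟨i, j, rfl⟩ := h g
    rw [mul_assoc, ← zpow_add_one, hi, hi, Int.even_add_one]
    by_cases hj : Even j <;> simp [hj, Xor']⟩
  haveI := normal_of_index_eq_two hidx
  have hxN : x ∈ N := mem_sup_left (mem_zpowers x)
  have hyN : y ^ 2 ∈ N := mem_sup_right (mem_zpowers _)
  have hb : Bic (⟨x, hxN⟩ : N) ⟨y ^ 2, hyN⟩ := fun g => by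
    obtain ⟨i, j, e⟩ := h g
    obtain ⟨r, rfl⟩ := (hi i j).1 (e ▸ g.2)
    exact ⟨i, r, Subtype.ext (by simp [e, ← two_mul, zpow_mul])⟩
  obtain ⟨⟨u, v, hu, hv, h1⟩, h2, h3⟩ := hb.not_mc_facts (hX.to_subgroup N) hN
  obtain ⟨a, b, hab⟩ := hb (MulAut.conjNormal y ⟨x, hxN⟩)
  have hw : MulAut.conjNormal y (⟨y ^ 2, hyN⟩ : N) = ⟨y ^ 2, hyN⟩ := Subtype.ext (by simp; group)
  let π : N →* Abelianization N := Abelianization.of
  have hπ : ∀ g : N, g ∈ commutator N ↔ π g = 1 := fun g => by rw [← Abelianization.ker_of]; rfl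
  let σ := Abelianization.map (MulAut.conjNormal (H := N) y).toMonoidHom
  have hσ : ∀ g : N, σ (π g) = π (MulAut.conjNormal y g) := fun g => rfl
  set x' := π ⟨x, hxN⟩ with hx'
  set w' := π ⟨y ^ 2, hyN⟩ with hw'
  have s1 : σ x' = x' ^ a * w' ^ b := by rw [hσ, hab, map_mul, map_zpow, map_zpow]
  have s2 : σ w' = w' := by rw [hσ, hw]
  have s3 : σ (σ x') = x' := by
    rw [hσ, hσ, show MulAut.conjNormal y (MulAut.conjNormal y (⟨x, hxN⟩ : N)) =
      ⟨y ^ 2, hyN⟩ * ⟨x, hxN⟩ * (⟨y ^ 2, hyN⟩ : N)⁻¹ from Subtype.ext (by simp [sq, mul_assoc]), map_mul, map_mul,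
      map_inv, mul_inv_cancel_comm]
  rw [hπ, map_mul, map_zpow, map_zpow] at h1
  rw [hπ, map_pow] at h2
  have hπp : IsPGroup 2 (Abelianization N) := (hX.to_subgroup N).to_quotient _
  have hbe : Even b := by
    by_contra hb1
    rw [Int.not_even_iff_odd] at hb1
    rcases Int.even_or_odd a with ha | ha
    · refine h3 (a * a - 1) (b * a + b) ((ha.mul_left a).sub_odd odd_one) ?_
      rw [hπ, map_mul, map_zpow, map_zpow]
      rw [s1, map_mul, map_zpow, map_zpow, s1, s2] at s3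
      calc _ = (x' ^ a * w' ^ b) ^ a * w' ^ b * x'⁻¹ := by
            rw [mul_zpow, ← zpow_mul, ← zpow_mul, zpow_sub_one, zpow_add, mul_right_comm, ← hw', ← hx', ← mul_assoc]
        _ = 1 := by rw [s3, mul_inv_cancel]
    · have h4 := congrArg σ h1
      rw [map_mul, map_zpow, map_zpow, s1, s2, map_one, ← h1, mul_left_inj] at h4
      have h5 : w' ^ (2 * v) = x' ^ (-(2 * u)) := by rw [zpow_neg]; exact eq_inv_of_mul_eq_one_right h1
      have h6 : (x' ^ (2 : ℤ)) ^ (u * (a * v - b * u - v)) = 1 := by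
        have h7 := congrArg (· ^ v) h4
        simp only [mul_zpow, ← zpow_mul] at h7
        rw [show b * (2 * u) * v = 2 * v * (b * u) by ring, zpow_mul w', h5, ← zpow_mul, ← zpow_add] at h7
        rw [← zpow_mul, show 2 * (u * (a * v - b * u - v)) = a * (2 * u) * v + -(2 * u) * (b * u) - 2 * u * v by ring,
          zpow_sub, h7, mul_inv_cancel]
      have h8 := mem_of_zpow_odd hπp (M := ⊥) (hu.mul (((ha.mul hv).sub_odd (hb1.mul hu)).sub_odd hv))
        (mem_bot.2 h6)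
      exact h2 (by exact_mod_cast mem_bot.1 h8)
  obtain ⟨Y, _, f, z, hf, -, hY, hz, hz2, hc⟩ := exists_quot_not_mc hX hm
  haveI := Finite.of_surjective f hf
  have hYp := hX.of_surjective f hf
  have hfb := h.map f hf
  have hxy := hfb.symm.comm_eq hY hz2 hc
  have hcm : Commute (f x) (f y ^ 2) := by
    rw [← commutatorElement_eq_one_iff_commute, ← zpow_natCast, ← zpow_one (f x),
      comm_zpow_zpow_of_central (hfb.comm_eq hY hz2 hc ▸ hz), hfb.comm_eq hY hz2 hc]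
    exact_mod_cast hz2
  have hker : commutator N ≤ (f.comp N.subtype).ker := by
    refine commutator_le.2 fun g _ k _ => ?_
    obtain ⟨i, j, rfl⟩ := hb g
    obtain ⟨i', j', rfl⟩ := hb k
    rw [MonoidHom.mem_ker, map_commutatorElement, commutatorElement_eq_one_iff_commute]
    simp only [map_mul, map_zpow, MonoidHom.comp_apply, subtype_apply, map_pow]
    exact (((Commute.refl _).zpow_zpow _ _).mul_right (hcm.zpow_zpow _ _)).mul_left
      ((hcm.symm.zpow_zpow _ _).mul_right ((Commute.refl _).zpow_zpow _ _))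
  have h9 : f x ^ (2 * u) * (f y ^ 2) ^ (2 * v) = 1 := by
    simpa using MonoidHom.mem_ker.1 (hker ((hπ (⟨x, hxN⟩ ^ (2 * u) * ⟨y ^ 2, hyN⟩ ^ (2 * v))).2
      (by rw [map_mul, map_zpow, map_zpow]; exact h1)))
  have h10 : (f y ^ 2) ^ (2 : ℤ) ∈ zpowers (f x) := mem_of_zpow_odd hYp hv (by
    rw [← zpow_mul, eq_inv_of_mul_eq_one_right h9]; exact inv_mem (zpow_mem (mem_zpowers _) _))
  refine notMem_zpowers_of_not_mc hY hc (fun M => hfb.eq_top) ?_
  have h11 : f y * f x * (f y)⁻¹ = f x ^ a * (f y ^ 2) ^ b := by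
    simpa using congrArg (f.comp N.subtype) hab
  obtain ⟨r, rfl⟩ := hbe
  rw [← hxy, commutatorElement_def, h11, ← two_mul, zpow_mul]
  exact mul_mem (mul_mem (zpow_mem (mem_zpowers _) _) (zpow_mem h10 _)) (inv_mem (mem_zpowers _))

theorem Bic.mc_of_mem {X : Type u} [Group X] [Finite X] {x y : X} (hX : IsPGroup 2 X) (h : Bic x y)
    {M : Subgroup X} (hM : M ≠ ⊤) (hx : x ∈ M) : IsMetacyclic M := by
  refine mc_of_injective (h.mc_left hX) (inclusion fun g hg => ?_) (inclusion_injective _)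
  obtain ⟨i, j, rfl⟩ := h g
  rcases Int.even_or_odd j with ⟨r, rfl⟩ | hj
  · rw [← two_mul, zpow_mul]
    exact mul_mem (zpow_mem (mem_sup_left (mem_zpowers x)) i)
      (zpow_mem (mem_sup_right (by rw [zpow_ofNat]; exact mem_zpowers _)) r)
  · exact absurd (h.eq_top hx (mem_of_zpow_odd hX hj ((mul_mem_cancel_left (zpow_mem hx i)).1 hg))) hM

/-- Janko: a bicyclic 2-group has at most one non-metacyclic maximal subgroup. -/
theorem Bic.eq_of_not_mc {X : Type u} [Group X] [Finite X] {x y : X} (hX : IsPGroup 2 X) (h : Bic x y)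
    {M M' : Subgroup X} (hM : M.index = 2) (hM' : M'.index = 2) (hm : ¬ IsMetacyclic M) (hm' : ¬ IsMetacyclic M') :
    M = M' := by
  have key : ∀ M : Subgroup X, M.index = 2 → ¬ IsMetacyclic M → ∀ i j : ℤ, x ^ i * y ^ j ∈ M ↔ (Even i ↔ Even j) :=
    fun M hM hm i j => by
      have hne : M ≠ ⊤ := fun e => by simp [e] at hM
      have k : ∀ g, g ∉ M → ∀ i : ℤ, g ^ i ∈ M ↔ Even i := fun g hg i =>
        ⟨fun h1 => by_contra fun hi => hg (mem_of_zpow_odd hX (Int.not_even_iff_odd.1 hi) h1), fun ⟨r, hr⟩ => by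
          rw [hr, zpow_add]; exact mul_self_mem_of_index_two hM _⟩
      rw [mul_mem_iff_of_index_two hM, k x fun hx => hm (h.mc_of_mem hX hne hx),
        k y fun hy => hm (h.symm.mc_of_mem hX hne hy)]
  ext g
  obtain ⟨i, j, rfl⟩ := h g
  rw [key M hM hm, key M' hM' hm']

end CL.Inv
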