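/-
Sylow subgroups of prime order `p`: faithful irreducible characters of degree `p - 2`.  The alternating square.
-/
import Cfsg.Agent.Inv.LowDeg
import Cfsg.Agent.Inv.PrimeDeg

set_option autoImplicit false

namespace CL.Inv.PO

open Finset CL.Blk CL.Char Cfsg Subgroup ComplexConjugate MonoidAlgebra
open scoped Classical

variable {G : Type*} [Group G] {p : ℕ} [hp : Fact p.Prime] {x : G} {C : Subgroup G}

omit hp in
theorem classInner_sub_congr [Fintype G] {φ ψ α β : G → ℂ} (h : ∀ g, φ g = ψ g ∨ α g = β g) :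
    classInner φ α - classInner φ β = classInner ψ α - classInner ψ β := by
  rw [← classInner_sub_right, ← classInner_sub_right, classInner_def, classInner_def]
  congr 1
  refine sum_congr rfl fun g _ => ?_
  rcases h g with e | e <;> simp [e]

theorem Ctx.exists_isConj_mul [Finite G] (K : Ctx p x C) {g : G} (hg : p ∣ orderOf g) :
    ∃ (j : (ZMod p)ˣ) (v : G), v ∈ C ∧ ¬ p ∣ orderOf v ∧ IsConj g (v * x ^ (j : ZMod p).val) := by
  obtain ⟨y, hy⟩ := K.exists_conj_mem_C hg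
  obtain ⟨v, j, hv, e⟩ := K.exists_decomp ⟨_, hy⟩
  have e' : y * g * y⁻¹ = x ^ j.val * v := congrArg Subtype.val e
  have hc : IsConj g (x ^ j.val * v) := isConj_iff.2 ⟨y, e'⟩
  have hj : j ≠ 0 := by
    rintro rfl
    rw [orderOf_eq_of_isConj hc, ZMod.val_zero, pow_zero, one_mul] at hg
    exact (K.mem_H_iff v).1 hv hg
  exact ⟨Units.mk0 j hj, v, v.2, (K.mem_H_iff v).1 hv, K.comm_of_mem (npow_mem_zpowers _ _) v.2 ▸ hc⟩

theorem Ctx.sum_a_two [Fintype G] (K : Ctx p x C) (hf : K.f = 2) (F : ZMod p → ℂ) :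
    (Nat.card C : ℂ)⁻¹ * ∑ n : Nz x, F (K.a n : ZMod p) = F 1 + F (-1) := by
  have h := sum_comp_of_surjective K.a.rangeRestrict K.a.rangeRestrict_surjective
    fun u => F ((u : (ZMod p)ˣ) : ZMod p)
  rw [MonoidHom.ker_rangeRestrict, K.card_ker_a] at h
  rw [← K.sum_E_two hf, show ∑ n : Nz x, F (K.a n : ZMod p) = _ from h,
    inv_mul_cancel_left₀ (natCard_subgroup_ne_zero C)]
  exact Fintype.sum_equiv (MulEquiv.subgroupCongr K.E_one.symm).toEquiv _ _ fun _ => rfl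

/-- The relation satisfied by a faithful character of degree `p - 2`. -/
structure AltRel (p : ℕ) (ζ : G → ℂ) : Prop where
  irr : IsIrrCharacter G ζ
  ker : charKer ζ = ⊥
  deg : charDegree ζ + 2 = p
  five : 5 ≤ p
  odd : ∀ z ∈ center G, Odd (orderOf z)
  reg : ∀ z ∈ center G, ¬ p ∣ orderOf z
  cen : ∀ g v : G, p ∣ orderOf g → ¬ p ∣ orderOf v → v ∈ zpowers g → v ∈ center G
  rel : ∀ m : ℕ, m.Coprime (Nat.card G) → m ≡ 1 [MOD p] → (∀ z ∈ center G, z ^ m = z ^ 2) →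
    ∀ g, ¬ p ∣ orderOf g → ζ g * ζ g - ζ (g * g) = (p - 3) * ζ (g ^ m)

namespace Data

variable [Fintype G] {K : Ctx p x C} {θ : IrrCharacter C} {B : Set (IrrCharacter G)} (D : Data K θ B)

theorem μ_apply_two (hf : K.f = 2) (h1 : charDegree (θ : C → ℂ) = 1) (k j : (ZMod p)ˣ) :
    (D.μ k : G → ℂ) (x ^ (j : ZMod p).val) =
      D.ε * (K.ω ^ ((k : ZMod p) * j).val + K.ω ^ (-((k : ZMod p) * j)).val) := by
  have h := D.μ_apply_mul k j 1 (by simpa using hp.out.ne_one)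
  simp only [OneMemClass.coe_one, mul_one, map_one, ← θ.2.cast_charDegree, h1, Nat.cast_one] at h
  rw [h, K.sum_a_two hf fun u => K.ω ^ (u * k * j).val]
  simp

theorem alt_rel (hf : K.f = 2) (hε : D.ε = -1) (h1 : charDegree (θ : C → ℂ) = 1) (hst : K.stab θ = ⊤)
    (hcen : ∀ v ∈ C, ¬ p ∣ orderOf v → v ∈ center G) (k : (ZMod p)ˣ) (hd : charDegree (D.μ k : G → ℂ) + 2 = p)
    {m : ℕ} (hm : m.Coprime (Nat.card G)) (hm1 : m ≡ 1 [MOD p])
    (hm2 : ∀ z ∈ center G, ¬ p ∣ orderOf z → z ^ m = z ^ 2) {g : G} (hg : ¬ p ∣ orderOf g) :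
    (D.μ k : G → ℂ) g * (D.μ k : G → ℂ) g - (D.μ k : G → ℂ) (g * g) = (p - 3) * (D.μ k : G → ℂ) (g ^ m) := by
  have hE : Nat.card (K.E θ) = 2 := by rw [Ctx.E, hst, ← MonoidHom.range_eq_map]; exact hf
  have hte := K.card_E_mul_index θ
  have hp2 : p ≠ 2 := by have := (D.μ k).2.charDegree_pos; omega
  have h20 : (1 + 1 : ZMod p) ≠ 0 := fun h => hp2 ((Nat.prime_dvd_prime_iff_eq hp.out
    Nat.prime_two).1 ((ZMod.natCast_eq_zero_iff 2 p).1 (by rw [← h]; norm_num)))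
  set u := Units.mk0 _ h20 with hu
  let ν : IrrCharacter G ↪ IrrCharacter G := ⟨fun χ => ⟨fun g => (χ : G → ℂ) (g ^ m), isIrr_pow_coprime χ.2 hm⟩,
    fun χ ψ e => Subtype.ext (funext fun g => by
      obtain ⟨y, rfl⟩ := (powCoprime hm.symm).surjective g
      exact congrFun (congrArg Subtype.val e) y)⟩
  have hν : ∀ (χ : IrrCharacter G) (g : G), (ν χ : G → ℂ) g = (χ : G → ℂ) (g ^ m) := fun _ _ => rfl
  have hregm : ∀ g : G, ¬ p ∣ orderOf g → ¬ p ∣ orderOf (g ^ m) := fun g hg h => hg (h.trans (orderOf_pow_dvd m))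
  have hΛ := isCharacter_altSq (D.μ k).2.isCharacter
  set Λ : G → ℂ := fun g => ((D.μ k : G → ℂ) g * (D.μ k : G → ℂ) g - (D.μ k : G → ℂ) (g * g)) / 2
  have hsing : ∀ g, p ∣ orderOf g → Λ g = (∑ χ ∈ (D.Y.erase (D.μ (k * u))).map ν, (χ : G → ℂ)) g := by
    intro g hg
    obtain ⟨j, v, hv, hvp, hj⟩ := K.exists_isConj_mul hg
    have hz := hcen v hv hvp
    rw [hΛ.isClassFunction.apply_eq_of_isConj hj, (isClassFunction_sum _ _ fun χ _ =>
      χ.2.isClassFunction).apply_eq_of_isConj hj, Finset.sum_apply, sum_map]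
    set c := (D.μ k : G → ℂ) v / (D.μ k : G → ℂ) 1 with hc
    have h2 : ∀ l y, (D.μ l : G → ℂ) (v * y) = c * (D.μ l : G → ℂ) y := fun l y => by
      rw [apply_mul_of_mem_charCenter (D.μ l).2.one_ne_zero ((D.μ l).2.center_le_charCenter hz), hc,
        D.μ_reg l k hvp, D.μ_reg l k (g := 1) (by simpa using hp.out.ne_one)]
    have hcomm : Commute v (x ^ (j : ZMod p).val) := (mem_center_iff.1 hz _).symm
    have h3 : (v * x ^ (j : ZMod p).val) ^ m = v * (v * x ^ (j : ZMod p).val) := by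
      rw [hcomm.mul_pow, hm2 v hz hvp, sq, mul_assoc, pow_eq_pow_iff_modEq.2 (K.orderOf_pow_val j ▸ hm1), pow_one]
    have h4 : v * x ^ (j : ZMod p).val * (v * x ^ (j : ZMod p).val) =
        v * (v * x ^ ((u * j : (ZMod p)ˣ) : ZMod p).val) := by
      rw [← sq, hcomm.mul_pow, sq, sq, mul_assoc, ← pow_val_add K.x_pow]; simp [hu, add_mul]
    have h5 : ∑ χ ∈ D.Y.erase (D.μ (k * u)), (ν χ : G → ℂ) (v * x ^ (j : ZMod p).val) =
        c * c * ∑ χ ∈ D.Y.erase (D.μ (k * u)), (χ : G → ℂ) (x ^ (j : ZMod p).val) := by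
      rw [mul_sum]
      refine sum_congr rfl fun χ hχ => ?_
      obtain ⟨l, rfl⟩ := D.mem_Y.1 (mem_of_mem_erase hχ)
      rw [hν, h3, h2, h2, mul_assoc]
    have h6 := add_sum_erase _ (fun χ : IrrCharacter G => (χ : G → ℂ) (x ^ (j : ZMod p).val)) (D.μ_mem_Y (k * u))
    have h7 := D.sum_Y_sing_mul (K.sing_pow_val j)
    rw [D.ker.indFun_P (npow_mem_zpowers _ _) (K.pow_val_ne_one j), hE, hf, ← h6, ← θ.2.cast_charDegree, h1] at h7
    simp only [Λ, h4, h5, h2, D.μ_apply_two hf h1, hε] at h7 ⊢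
    have h8 : ((k * u : (ZMod p)ˣ) : ZMod p) * j = k * j + k * j := by simp [hu]; ring
    have h9 : (k : ZMod p) * ((u * j : (ZMod p)ˣ) : ZMod p) = k * j + k * j := by simp [hu]; ring
    rw [h8, neg_add, pow_val_add (K.lamC_pow _), pow_val_add (K.lamC_pow _)] at h7
    rw [h9, neg_add, pow_val_add (K.lamC_pow _), pow_val_add (K.lamC_pow _)]
    have h10 : K.ω ^ ((k : ZMod p) * j).val * K.ω ^ (-((k : ZMod p) * j)).val = 1 := by
      rw [← pow_val_add (K.lamC_pow _)]; simp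
    push_cast at h7 ⊢
    linear_combination c * c * h10 - c * c * h7 / 2
  have hreg : ∀ g, ¬ p ∣ orderOf g → 2 * (∑ χ ∈ (D.Y.erase (D.μ (k * u))).map ν, (χ : G → ℂ)) g =
      (p - 3) * (D.μ k : G → ℂ) (g ^ m) := fun g hg => by
    have h1 := add_sum_erase _ (fun χ : IrrCharacter G => (χ : G → ℂ) (g ^ m)) (D.μ_mem_Y (k * u))
    rw [D.sum_Y_reg k (hregm g hg), D.μ_reg (k * u) k (hregm g hg)] at h1
    have h2 : 2 * ((K.E θ).index : ℂ) = p - 1 := by
      rw [hE] at hte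
      exact_mod_cast (by rw [← Nat.cast_one (R := ℂ), ← Nat.cast_sub hp.out.one_le, ← hte] :
        ((2 * (K.E θ).index : ℕ) : ℂ) = p - 1)
    rw [Finset.sum_apply, sum_map]
    simp only [hν]
    linear_combination 2 * h1 + (D.μ k : G → ℂ) (g ^ m) * h2
  have h1 := (isCharacter_sub_sum hΛ ((D.Y.erase (D.μ (k * u))).map ν) fun χ hχ => by
    obtain ⟨ψ, hψ, rfl⟩ := mem_map.1 hχ
    obtain ⟨l, rfl⟩ := D.mem_Y.1 (mem_of_mem_erase hψ)
    have := classInner_sub_congr (α := ν (D.μ l)) (β := ν (D.μ (k * u))) fun g =>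
      (em (p ∣ orderOf g)).imp (hsing g) fun h => D.μ_reg l (k * u) (hregm g h)
    obtain ⟨c, hc⟩ := hΛ.exists_nat_classInner (ν (D.μ (k * u))).2.isCharacter
    rw [classInner_sum_left, classInner_sum_left, hc] at this
    simp only [classInner_irr, sum_ite_eq', hχ, if_true, mem_map', notMem_erase, if_false] at this
    rw [sub_zero, sub_eq_iff_eq_add] at this
    rw [this]
    exact_mod_cast (by omega : 1 + c ≠ 0)).eq_zero_of_one_eq_zero (by
      have h2 := hreg 1 (by simpa using hp.out.ne_one)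
      have h3 : (D.μ k : G → ℂ) 1 = p - 2 := by
        rw [← (D.μ k).2.cast_charDegree, eq_sub_iff_add_eq]; exact_mod_cast hd
      simp only [Pi.sub_apply, Λ, mul_one]
      rw [one_pow, h3] at h2
      rw [h3]
      linear_combination -h2 / 2)
  have h2 := congrFun (sub_eq_zero.1 h1) g
  rw [← hreg g hg, ← h2]
  simp only [Λ]
  ring

end Data

/-- The structure of a group with a faithful irreducible character of degree `p - 2`. -/
theorem Ctx.of_degree_sub_two [Finite G] (K : Ctx p x C) {ζ : G → ℂ} (hζ : IsIrrCharacter G ζ)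
    (hker : charKer ζ = ⊥) (hd : charDegree ζ + 2 = p) (hx : x ∉ center G) :
    K.f = 2 ∧ (∀ v ∈ C, ¬ p ∣ orderOf v → v ∈ center G) ∧
      (5 ≤ p → (∀ z ∈ center G, Odd (orderOf z)) → AltRel p ζ) := by
  have := Fintype.ofFinite G
  lift ζ to IrrCharacter G using hζ
  have hpos := ζ.2.charDegree_pos
  obtain ⟨θ, B, ⟨D⟩, hB⟩ := K.exists_data_mem (χ := ζ) fun h => by have := Nat.le_of_dvd hpos h; omega
  have hx1 : (ζ : G → ℂ) x ≠ (ζ : G → ℂ) 1 := fun e =>
    K.x_ne_one (mem_bot.1 (hker ▸ ζ.2.mem_charKer.2 e))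
  obtain ⟨k, rfl⟩ := D.exists_eq_μ hB hd.le hx1
  have hcz := (D.μ k).2.charCenter_eq_center hker
  have hε : D.ε = -1 := D.hε.resolve_left fun hε => hx (by
    have h1 := D.deg_of_pos hε k (by omega)
    have h2 : K.f = 1 := by
      have h3 : K.f ∣ p - 1 - charDegree (D.μ k : G → ℂ) := Nat.dvd_sub K.f_dvd (h1 ▸ dvd_mul_right _ _)
      rwa [show p - 1 - charDegree (D.μ k : G → ℂ) = 1 by omega, Nat.dvd_one] at h3
    have h3 := D.μ_apply_mul k 1 1 (by simpa using hp.out.ne_one)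
    have h4 : ∀ n, K.a n = 1 := fun n => by
      have := Subgroup.card_eq_one.1 h2
      exact mem_bot.1 (this ▸ ⟨n, rfl⟩)
    simp only [OneMemClass.coe_one, mul_one, map_one, Units.val_one, ZMod.val_one, pow_one, h4, K.avg_const, h2,
      hε, one_mul] at h3
    rw [← hcz, (D.μ k).2.isCharacter.mem_charCenter, h3, ← (D.μ k).2.cast_charDegree, h1, h2,
      ← θ.2.cast_charDegree]
    simp [Complex.norm_eq_one_of_pow_eq_one (K.lamC_pow K.xC) hp.out.ne_zero])
  obtain ⟨h1, h2, -, h4, h5⟩ := D.of_neg hε k (by omega) hx1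
  have hf : K.f = 2 := by omega
  have hcen : ∀ v ∈ C, ¬ p ∣ orderOf v → v ∈ center G := fun v hv hvp => by
    obtain ⟨lam, hlam⟩ := θ.2.isCharacter.exists_monoidHom_of_one (θ.2.isCharacter.charDegree_eq_one_iff.1 h1)
    rw [← hcz, (D.μ k).2.isCharacter.mem_charCenter, h5 ⟨v, hv⟩ hvp, ← (D.μ k).2.cast_charDegree, hlam, norm_mul,
      Complex.norm_eq_one_of_pow_eq_one (ζ := lam ⟨v, hv⟩) (n := Nat.card C) (by
        rw [← Units.val_pow_eq_pow_val, ← map_pow, pow_card_eq_one', map_one, Units.val_one]) Nat.card_pos.ne',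
      mul_one]
  have hreg : ∀ z ∈ center G, ¬ p ∣ orderOf z := fun z hz h =>
    hx (K.x_mem_of_dvd (h.trans ((center G).orderOf_dvd_natCard hz)))
  refine ⟨hf, hcen, fun h5 hodd => ⟨(D.μ k).2, hker, hd, h5, hodd, hreg, fun g v hg hv hvg => ?_,
    fun m hm hm1 hm2 g hg => D.alt_rel hf hε h1 h4 hcen k hd hm hm1 (fun z hz _ => hm2 z hz) hg⟩⟩
  obtain ⟨y, hy⟩ := K.exists_conj_mem_C hg
  obtain ⟨i, rfl⟩ := hvg
  have := hcen (y * g ^ i * y⁻¹) (by rw [← conj_zpow]; exact zpow_mem hy i)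
    (by rwa [← orderOf_eq_of_isConj (isConj_iff.2 ⟨y, rfl⟩)])
  simpa [mul_assoc] using (inferInstance : (center G).Normal).conj_mem _ this y⁻¹

end CL.Inv.PO
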