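/-
Faithful irreducible characters of degree `p - 2`: the character values.
-/
import Cfsg.Agent.Inv.DegPm2a
import Cfsg.Agent.Char.BrauerTI

set_option autoImplicit false

namespace CL.Inv.PO

open Finset CL.Blk CL.Char Cfsg Subgroup ComplexConjugate
open scoped Classical

variable {G : Type*} [Group G] {p : ℕ} [hp : Fact p.Prime] [Finite G]

theorem exists_crt_exp (hp2 : p ≠ 2) {s : ℕ} (hs : Odd s) : ∃ m : ℕ, m.Coprime (Nat.card G) ∧ m ≡ 1 [MOD p] ∧
    (∀ (g : G) (k : ℕ), g ^ 2 ^ k = 1 → g ^ m = g ^ s) ∧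
    ∀ g : G, Odd (orderOf g) → ¬ p ∣ orderOf g → g ^ m = g ^ 2 := by
  obtain ⟨a, n, hn, e⟩ := Nat.exists_eq_pow_mul_and_not_dvd (Nat.card_pos (α := G)).ne' 2 (by norm_num)
  obtain ⟨b, n', hn', e'⟩ := Nat.exists_eq_pow_mul_and_not_dvd (n := n) (by rintro rfl; simp at hn) p hp.out.ne_one
  have h2 : Nat.Coprime 2 n' := (Nat.Prime.coprime_iff_not_dvd Nat.prime_two).2 fun h => hn (e' ▸ h.mul_left _)
  have h3 : Nat.Coprime p n' := (Nat.Prime.coprime_iff_not_dvd hp.out).2 hn'
  have h4 : Nat.Coprime 2 p := (Nat.coprime_primes Nat.prime_two hp.out).2 hp2.symm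
  obtain ⟨m₁, h5, h6⟩ := Nat.chineseRemainder h3 1 2
  obtain ⟨m, h7, h8⟩ := Nat.chineseRemainder ((h4.mul_right h2).pow_left (a + 1)) s m₁
  have h9 : m ≡ 1 [MOD p] := (h8.of_mul_right _).trans h5
  have h10 : m ≡ 2 [MOD n'] := (h8.of_mul_left _).trans h6
  refine ⟨m, ?_, h9, fun g k hg => ?_, fun g h1 h2 => ?_⟩
  · rw [e, e']
    refine (Nat.Coprime.pow_right _ ?_).mul_right ((Nat.Coprime.pow_right _ ?_).mul_right ?_)
    · exact (Nat.ModEq.gcd_eq (h7.of_dvd (dvd_pow_self 2 (by omega)))).trans (Nat.coprime_two_right.2 hs)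
    · exact h9.gcd_eq.trans (by simp)
    · exact h10.gcd_eq.trans h2
  · refine pow_eq_pow_iff_modEq.2 (h7.of_dvd ?_)
    obtain ⟨j, -, hj⟩ := (Nat.dvd_prime_pow Nat.prime_two).1 (orderOf_dvd_of_pow_eq_one hg)
    have h1 := orderOf_dvd_natCard g
    rw [e, hj] at h1
    rw [hj]
    exact ((((Nat.Prime.coprime_iff_not_dvd Nat.prime_two).2 hn).pow_left j).dvd_of_dvd_mul_right h1).trans
      (pow_dvd_pow 2 (by omega))
  · refine pow_eq_pow_iff_modEq.2 (h10.of_dvd ?_)
    have h11 := orderOf_dvd_natCard g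
    rw [e, e'] at h11
    exact (((Nat.Prime.coprime_iff_not_dvd hp.out).2 h2).symm.pow_right b).dvd_of_dvd_mul_left
      (((Nat.coprime_two_right.2 h1).pow_right a).dvd_of_dvd_mul_left h11)

omit hp in
theorem sq_periodic {F : G → ℝ} {g : G} (hg : Odd (orderOf g)) (h0 : 0 ≤ F g)
    (h : ∀ k : ℕ, F (g ^ 2 ^ (k + 1)) = F (g ^ 2 ^ k) ^ 2) : F g = 0 ∨ F g = 1 := by
  have h1 : ∀ k : ℕ, F (g ^ 2 ^ k) = F g ^ 2 ^ k := fun k => by
    induction k with
    | zero => simp
    | succ k ih => rw [h, ih, ← pow_mul, pow_succ 2 k]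
  have h2 := h1 (orderOf g).totient
  rw [pow_eq_pow_iff_modEq.2 (Nat.ModEq.pow_totient (Nat.coprime_two_left.2 hg)), pow_one] at h2
  obtain ⟨n, hn⟩ : ∃ n, 2 ^ (orderOf g).totient = n + 1 + 1 :=
    ⟨_, (Nat.sub_add_cancel (Nat.one_lt_two_pow (Nat.totient_pos.2 (orderOf_pos g)).ne')).symm⟩
  rw [hn, pow_succ] at h2
  refine (eq_or_ne (F g) 0).imp_right fun h3 => ?_
  exact (pow_eq_one_iff_of_nonneg h0 (by omega)).1 (mul_right_cancel₀ h3 (h2.symm.trans (one_mul _).symm))

omit hp in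
theorem norm_sum_coset_le {ψ : G → ℂ} (hψ : IsCharacter G ψ) (U : Subgroup G) [Fintype U] {w : G}
    (hw : w ∈ normalizer (U : Set G)) : ‖∑ u : U, ψ (u * w)‖ ≤ ‖∑ u : U, ψ u‖ := by
  have := Fintype.ofFinite (U.subgroupOf (normalizer (U : Set G)))
  have h := isChar_norm_le (isCharacter_cosetAvg (N := U.subgroupOf (normalizer (U : Set G)))
    (hψ.restrict (normalizer (U : Set G)))) ⟨w, hw⟩
  rw [cosetAvg_subgroupOf le_normalizer, cosetAvg_subgroupOf le_normalizer, cosetAvg_apply, cosetAvg_apply,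
    norm_mul, norm_mul] at h
  simpa using le_of_mul_le_mul_left h (norm_pos_iff.2 (inv_ne_zero natCard_ne_zero))

omit hp [Finite G] in
theorem odd_orderOf_pow {g : G} (h : Odd (orderOf g)) (k : ℕ) : Odd (orderOf (g ^ k)) :=
  h.of_dvd_nat (orderOf_pow_dvd k)

namespace AltRel

variable {ζ : G → ℂ} (h : AltRel p ζ)
include h

omit hp [Finite G] in
theorem apply_one : ζ 1 = p - 2 := by
  rw [← h.irr.cast_charDegree, eq_sub_iff_add_eq]; exact_mod_cast h.deg

omit hp [Finite G] in
theorem norm_one : ‖ζ 1‖ = p - 2 := by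
  rw [h.irr.isCharacter.norm_one, eq_sub_iff_add_eq]; exact_mod_cast h.deg

omit hp in
theorem mem_center_iff {g : G} : g ∈ center G ↔ ‖ζ g‖ = p - 2 := by
  rw [← h.irr.charCenter_eq_center h.ker, h.irr.isCharacter.mem_charCenter, h.norm_one]

theorem rel' {s : ℕ} (hs : Odd s) {w z : G} {k : ℕ} (hw : w ^ 2 ^ k = 1) (hz : Odd (orderOf z))
    (hzp : ¬ p ∣ orderOf z) (hc : Commute w z) :
    ζ (w * z) * ζ (w * z) - ζ (w ^ 2 * z ^ 2) = (p - 3) * ζ (w ^ s * z ^ 2) := by
  have h5 := h.five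
  obtain ⟨m, h1, h2, h3, h4⟩ := exists_crt_exp (G := G) (p := p) (by omega) hs
  have := h.rel m h1 h2 (fun z hz => h4 z (h.odd z hz) (h.reg z hz)) (w * z) fun e => by
    rcases (Nat.Prime.dvd_mul hp.out).1 (e.trans hc.orderOf_mul_dvd_mul_orderOf) with e | e
    · have := (Nat.prime_dvd_prime_iff_eq hp.out Nat.prime_two).1
        (hp.out.dvd_of_dvd_pow (e.trans (orderOf_dvd_of_pow_eq_one hw)))
      omega
    · exact hzp e
  rwa [← sq (w * z), hc.mul_pow, hc.mul_pow, h3 w k hw, h4 z hz hzp] at this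

theorem apply_odd {z : G} (hz : Odd (orderOf z)) (hzp : ¬ p ∣ orderOf z) (hc : z ∉ center G) : ζ z = 0 := by
  have h5 : (5 : ℝ) ≤ p := by exact_mod_cast h.five
  have h0 : (p : ℝ) - 2 ≠ 0 := by linarith
  rcases sq_periodic (F := fun g => ‖ζ g‖ / (p - 2)) hz (div_nonneg (norm_nonneg _) (by linarith)) fun k => by
      have := h.rel' odd_one (w := 1) (k := 0) (by simp) (odd_orderOf_pow hz (2 ^ k))
        (fun e => hzp (e.trans (orderOf_pow_dvd _))) (Commute.one_left _)
      simp only [one_pow, one_mul] at this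
      have h1 : ζ (z ^ 2 ^ k) ^ 2 = (((p - 2 : ℝ) : ℝ) : ℂ) * ζ ((z ^ 2 ^ k) ^ 2) := by
        push_cast; linear_combination this
      have h2 := congrArg norm h1
      rw [norm_pow, norm_mul, Complex.norm_real, Real.norm_of_nonneg (by linarith), ← pow_mul, ← pow_succ] at h2
      simp only [div_pow, h2]
      field_simp with e | e
  · simpa [h0] using e
  · exact absurd (h.mem_center_iff.2 (by rwa [div_eq_one_iff_eq h0] at e)) hc

omit hp [Finite G] in
theorem inv_notMem {w : G} (hw : orderOf w = 2) : w ∉ center G := fun e => by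
  have := h.odd w e
  rw [hw] at this
  exact absurd this (by decide)

theorem rel_two {s : ℕ} (hs : Odd s) {w : G} {k : ℕ} (hw : w ^ 2 ^ k = 1) :
    ζ w * ζ w - ζ (w ^ 2) = (p - 3) * ζ (w ^ s) := by
  simpa using h.rel' hs hw (z := 1) (by simp) (by simpa using hp.out.ne_one) (Commute.one_right _)

theorem apply_inv {w : G} (hw : orderOf w = 2) : ζ w = -1 := by
  have hw2 : w ^ 2 = 1 := hw ▸ pow_orderOf_eq_one w
  have h1 := h.rel_two odd_one (k := 1) (by simpa using hw2)
  rw [hw2, pow_one, h.apply_one] at h1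
  have h2 : (ζ w - (p - 2)) * (ζ w + 1) = 0 := by linear_combination h1
  rcases mul_eq_zero.1 h2 with e | e
  · rw [sub_eq_zero, ← h.apply_one, ← h.irr.mem_charKer, h.ker, mem_bot] at e
    simp [e] at hw
  · exact eq_neg_of_add_eq_zero_left e

theorem exists_int {w : G} {k : ℕ} (hw : w ^ 2 ^ k = 1) : ∃ y : ℤ, ζ w = y := by
  refine genChar_exists_int_of_forall_pow h.irr.isGeneralizedCharacter fun m hm => ?_
  by_cases h1 : w = 1
  · simp [h1]
  have h2 : 2 ∣ Nat.card G := by
    obtain ⟨j, -, hj⟩ := (Nat.dvd_prime_pow Nat.prime_two).1 (orderOf_dvd_of_pow_eq_one hw)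
    rcases j with _ | j
    · exact absurd (orderOf_eq_one_iff.1 hj) h1
    · exact (dvd_pow_self 2 (by omega)).trans (hj ▸ orderOf_dvd_natCard w)
  have e1 := h.rel_two (Nat.coprime_two_right.1 (hm.coprime_dvd_right h2)) hw
  have e2 := h.rel_two odd_one hw
  have h3 : (p : ℂ) - 3 ≠ 0 := by
    have := h.five
    rw [sub_ne_zero]; exact_mod_cast (by omega : p ≠ 3)
  exact mul_left_cancel₀ h3 (by rw [← e1, e2, pow_one])

/-- the value on an element whose square is an involution. -/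
theorem apply_four {g : G} (hg : orderOf (g ^ 2) = 2) : p = 5 ∧ ζ g = 1 := by
  have h1 : g ^ 2 ^ 2 = 1 := by
    have := pow_orderOf_eq_one (g ^ 2)
    rwa [hg, ← pow_mul] at this
  obtain ⟨y, hy⟩ := h.exists_int h1
  have h2 := h.rel_two odd_one h1
  rw [h.apply_inv hg, pow_one, hy] at h2
  have h3 : y * y + 1 = (p - 3) * y := by exact_mod_cast (by linear_combination h2 : (y * y + 1 : ℂ) = (p - 3) * y)
  have h5 := h.five
  rcases Int.isUnit_iff.1 (isUnit_of_dvd_one ⟨(p - 3) - y, by linear_combination h3⟩ : IsUnit y) with e | e <;>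
    rw [e] at h3
  · exact ⟨by omega, by rw [hy, e]; simp⟩
  · omega

theorem sq_eq_one (h5 : p ≠ 5) (g : G) (k : ℕ) (hg : g ^ 2 ^ k = 1) : g ^ 2 = 1 := by
  induction k generalizing g with
  | zero => simp_all
  | succ k ih =>
    by_contra h1
    exact h5 (h.apply_four (orderOf_eq_prime (ih _ (by rw [← pow_mul, ← pow_succ', hg])) h1)).1

theorem norm_two {g : G} {k : ℕ} (hg : g ^ 2 ^ k = 1) (h1 : g ≠ 1) : ζ g = 1 ∨ ζ g = -1 := by
  induction k generalizing g with
  | zero => simp_all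
  | succ k ih =>
    by_cases h2 : g ^ 2 = 1
    · exact Or.inr (h.apply_inv (orderOf_eq_prime h2 h1))
    have h3 : (g ^ 2) ^ 2 ^ k = 1 := by rw [← pow_mul, ← pow_succ', hg]
    by_cases h4 : (g ^ 2) ^ 2 = 1
    · exact Or.inl (h.apply_four (orderOf_eq_prime h4 h2)).2
    have h5 : p = 5 := by_contra fun e => h4 (h.sq_eq_one e _ _ h3)
    obtain ⟨y, hy⟩ := h.exists_int hg
    have h6 := h.rel_two odd_one hg
    rw [pow_one, hy, h5] at h6
    rcases ih h3 h2 with e | e <;> rw [e] at h6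
    · have h7 : y * (y - 2) = 1 := by exact_mod_cast (by push_cast at h6; linear_combination h6 :
        (y * (y - 2) : ℂ) = 1)
      rcases Int.eq_one_or_neg_one_of_mul_eq_one' h7 with e | e <;> omega
    · have h7 : (y - 1) * (y - 1) = 0 := by exact_mod_cast (by push_cast at h6; linear_combination h6 :
        ((y - 1) * (y - 1) : ℂ) = 0)
      left; rw [hy, show y = 1 by nlinarith]; simp

theorem card_dvd_of_sq {T : Subgroup G} (hT : ∀ t ∈ T, t ^ 2 = 1) : Nat.card T ∣ p - 1 := by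
  have h1 := h.irr.isCharacter.add (irrOne G).2.isCharacter
  have h2 := card_dvd_charDegree_of_vanish h1 T fun u hu hu1 => by
    simp [h.apply_inv (orderOf_eq_prime (hT u hu) hu1), coe_irrOne]
  rwa [CL.Char.charDegree_eq_of_eq (n := p - 1) (by
    rw [Pi.add_apply, h.apply_one, Nat.cast_sub hp.out.one_le]; simp; ring)] at h2

/-- An involution centralises no non-central element of odd prime power order. -/
theorem mem_center_of_comm (h5 : p ≠ 5) {w z : G} {r k : ℕ} (hw : orderOf w = 2) (hr : r.Prime) (hr2 : r ≠ 2)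
    (hz : z ^ r ^ k = 1) (hc : Commute w z) : z ∈ center G := by
  by_contra hn
  have hw2 : w ^ 2 = 1 := hw ▸ pow_orderOf_eq_one w
  have hodd : ∀ u ∈ zpowers z, Odd (orderOf u) := fun u hu => ((hr.odd_of_ne_two hr2).pow).of_dvd_nat
    ((orderOf_dvd_of_mem_zpowers hu).trans (orderOf_dvd_of_pow_eq_one hz))
  have hzo := hodd z (mem_zpowers z)
  have hzp : ¬ p ∣ orderOf z := fun e => h.inv_notMem hw (h.cen (w * z) w
    (e.trans (by
      rw [hc.orderOf_mul_eq_mul_orderOf_of_coprime (hw ▸ Nat.coprime_two_left.2 hzo)]; exact dvd_mul_left _ _))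
    (by rw [hw]; have := h.five; exact fun e => by have := Nat.le_of_dvd two_pos e; omega)
    ⟨(orderOf z : ℕ), by simp only [zpow_natCast]; rw [hc.mul_pow, pow_orderOf_eq_one, pow_odd_of_sq hw2 hzo, mul_one]⟩)
  have hreg : ∀ u ∈ zpowers z, ¬ p ∣ orderOf u := fun u hu e => hzp (e.trans (orderOf_dvd_of_mem_zpowers hu))
  have hcu : ∀ u ∈ zpowers z, Commute w u := by rintro _ ⟨i, rfl⟩; exact hc.zpow_right i
  have h7 : (7 : ℝ) ≤ p := by
    have := h.five
    have : p ≠ 6 := by rintro rfl; exact absurd hp.out (by decide)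
    exact_mod_cast (by omega : 7 ≤ p)
  have h0 : (p : ℝ) - 3 ≠ 0 := by linarith
  have key : ∀ u ∈ zpowers z, u ∉ center G → ‖ζ (w * u)‖ = p - 3 := fun u hu hun => by
    rcases sq_periodic (F := fun g => ‖ζ (w * g)‖ / (p - 3)) (hodd u hu)
        (div_nonneg (norm_nonneg _) (by linarith)) fun j => by
      have hj := pow_mem hu (2 ^ j)
      have := h.rel' odd_one (w := w) (k := 1) (by simpa using hw2) (hodd _ hj) (hreg _ hj) (hcu _ hj)
      rw [hw2, one_mul, pow_one, h.apply_odd (hodd _ (pow_mem hj 2)) (hreg _ (pow_mem hj 2)) fun e =>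
        hun (zpowers_le.2 e (by
          rw [← pow_mul, ← pow_succ]
          exact mem_zpowers_pow_iff.2 ((Nat.coprime_two_left.2 (hodd u hu)).pow_left _)))] at this
      have h1 : ζ (w * u ^ 2 ^ j) ^ 2 = (((p - 3 : ℝ) : ℝ) : ℂ) * ζ (w * (u ^ 2 ^ j) ^ 2) := by
        push_cast; linear_combination this
      have h2 := congrArg norm h1
      rw [norm_pow, norm_mul, Complex.norm_real, Real.norm_of_nonneg (by linarith), ← pow_mul, ← pow_succ] at h2
      simp only [div_pow, h2]
      field_simp with e | e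
    · have h1 : ζ (w * u) = 0 := by simpa [h0] using e
      have h2 := isGenChar_intModEq h.irr.isGeneralizedCharacter hr (g := w * u) (x := w) (k := k) (a := 0)
        (b := -1) (by
          obtain ⟨i, rfl⟩ := hu
          rw [(hc.zpow_right i).mul_pow, ← zpow_natCast (z ^ i), ← zpow_mul, mul_comm i, zpow_mul, zpow_natCast,
            hz, one_zpow, mul_one]) (by simpa using h1) (by simpa using h.apply_inv hw)
      exact absurd (Nat.dvd_one.1 (by exact_mod_cast (by simpa using h2.dvd : (r : ℤ) ∣ 1))) hr.ne_one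
    · rwa [div_eq_one_iff_eq h0] at e
  have := Fintype.ofFinite (zpowers z)
  have hle := norm_sum_coset_le (h.irr.isCharacter.mul h.irr.isCharacter.conj) (zpowers z) (w := w)
    (centralizer_le_normalizer _ fun u hu => (hcu u hu).eq.symm)
  simp only [Pi.mul_apply, Complex.mul_conj, Complex.normSq_eq_norm_sq, ← Complex.ofReal_sum,
    Complex.norm_real] at hle
  rw [Real.norm_of_nonneg (by positivity), Real.norm_of_nonneg (by positivity)] at hle
  have e1 : ∀ u : zpowers z, ‖ζ (u * w)‖ ^ 2 = if (u : G) ∈ center G then 1 else ((p : ℝ) - 3) ^ 2 := fun u => by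
    split_ifs with hu
    · rw [apply_mul_of_mem_charCenter h.irr.one_ne_zero (h.irr.center_le_charCenter hu), h.apply_inv hw, norm_mul,
        norm_div, h.mem_center_iff.1 hu, h.norm_one, div_self (by linarith)]
      simp
    · rw [← (hcu u u.2).eq, key u u.2 hu]
  have e2 : ∀ u : zpowers z, ‖ζ u‖ ^ 2 = if (u : G) ∈ center G then ((p : ℝ) - 2) ^ 2 else 0 := fun u => by
    split_ifs with hu
    · rw [h.mem_center_iff.1 hu]
    · simp [h.apply_odd (hodd u u.2) (hreg u u.2) hu]
  simp only [e1, e2, sum_ite, sum_const, nsmul_eq_mul, mul_zero, add_zero, mul_one] at hle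
  have e3 := card_filter_add_card_filter_not (s := (univ : Finset (zpowers z))) fun u => (u : G) ∈ center G
  have e4 : #(univ.filter fun u : zpowers z => (u : G) ∈ center G) = Nat.card ((center G).subgroupOf (zpowers z)) := by
    rw [Nat.card_eq_fintype_card, Fintype.card_subtype]; congr 1; ext; simp [mem_subgroupOf]
  have e5 := ((center G).subgroupOf (zpowers z)).card_mul_index
  have e6 : ((center G).subgroupOf (zpowers z)).index ≠ 1 := fun e =>
    hn (zpowers_le.1 (relIndex_eq_one.1 e))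
  have e7 : Odd ((center G).subgroupOf (zpowers z)).index :=
    hzo.of_dvd_nat (Nat.card_zpowers z ▸ index_dvd_card _)
  rw [card_univ, ← Nat.card_eq_fintype_card, ← e5, ← e4] at e3
  have e8 : 0 < #(univ.filter fun u : zpowers z => (u : G) ∈ center G) := e4 ▸ Nat.card_pos
  generalize #(univ.filter fun u : zpowers z => (u : G) ∈ center G) = A at *
  generalize #(univ.filter fun u : zpowers z => ¬ (u : G) ∈ center G) = A' at *
  obtain ⟨i, hi⟩ := e7
  have e9 : 2 * A ≤ A' := by
    rw [hi] at e3 e6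
    have : A * 3 ≤ A * (2 * i + 1) := Nat.mul_le_mul_left _ (by omega)
    omega
  have e10 : (2 * A : ℝ) ≤ A' := by exact_mod_cast e9
  have e11 : (0 : ℝ) < A := by exact_mod_cast e8
  have e12 : 2 * A * ((p : ℝ) - 3) ^ 2 ≤ A' * ((p : ℝ) - 3) ^ 2 := by gcongr
  have e13 : 0 < A * (((p : ℝ) - 3) * (p - 5)) := mul_pos e11 (mul_pos (by linarith) (by linarith))
  nlinarith

end AltRel

end CL.Inv.PO
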