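/-
Faithful irreducible characters of degree `p - 2`: the structure of the group.
-/
import Cfsg.Agent.Inv.DegPm2b
import Cfsg.Agent.Fgs.AbCent
import Cfsg.Agent.Fgs.PiPart
import Cfsg.Agent.Char.ItoLinear
import Cfsg.Agent.Char.Triple
import Cfsg.Agent.Cls.AschGroup

set_option autoImplicit false

namespace CL.Inv.PO

open CL.Blk CL.Char Cfsg Subgroup
open scoped MatrixGroups

universe u

variable {G : Type u} [Group G] [Finite G] {p : ℕ} [hp : Fact p.Prime] {x : G} {C : Subgroup G}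

omit [Finite G] in
theorem commute_of_sq_three {a b : G} (ha : a ^ 2 = 1) (hb : b ^ 2 = 1) (h : (a * b) ^ 2 = 1) : Commute a b := by
  rw [sq, ← eq_inv_iff_mul_eq_one] at ha hb h
  rw [Commute, SemiconjBy, h, mul_inv_rev, ← ha, ← hb]

namespace AltRel

variable {ζ : G → ℂ} (h : AltRel p ζ)
include h

theorem exists_decomp (h5 : p ≠ 5) {t c : G} (ht : orderOf t = 2) (hc : Commute c t) :
    ∃ u z, u ^ 2 = 1 ∧ Commute u t ∧ z ∈ center G ∧ c = u * z := by
  obtain ⟨a, ha, b, hb, ⟨k, hk⟩, hb2, e, -⟩ := CL.Grp.exists_pPart_mul_pPrimePart Nat.prime_two c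
  have hz : ∀ y ∈ zpowers c, Commute y t := by rintro _ ⟨i, rfl⟩; exact hc.zpow_left i
  refine ⟨a, b, h.sq_eq_one h5 a k (hk ▸ pow_orderOf_eq_one a), hz a ha,
    CL.Fgs.mem_of_forall_piPart_mem fun r hr hd => ?_, e⟩
  obtain ⟨j, hj⟩ := (CL.Fgs.isPiElt_singleton_iff hr).1 (CL.Fgs.isPiElt_piPart {r} b)
  exact h.mem_center_of_comm h5 ht hr (by rintro rfl; exact (Nat.coprime_two_right.1 hb2).not_two_dvd_nat hd)
    (hj ▸ pow_orderOf_eq_one _) (hz _ (CL.Fgs.piPart_mem hb)).symm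

theorem abCent (h5 : p ≠ 5) : CL.Fgs.AbCent G := fun t a b ht ha hb => by
  obtain ⟨u, z, hu, hut, hz, rfl⟩ := h.exists_decomp h5 ht ha
  obtain ⟨v, z', hv, hvt, hz', rfl⟩ := h.exists_decomp h5 ht hb
  obtain ⟨w, y, hw, -, hy, e⟩ := h.exists_decomp h5 ht (hut.mul_left hvt)
  have h1 : (u * v) ^ 2 ∈ center G := by
    rw [e, (show Commute w y from Subgroup.mem_center_iff.1 hy w).mul_pow, hw, one_mul]; exact pow_mem hy 2
  have h2 := Subgroup.mem_center_iff.1 h1 u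
  have h3 : (u * v) ^ 2 ^ 2 = 1 := by
    have h4 : u * u = 1 := sq u ▸ hu
    have h5 : v * v = 1 := sq v ▸ hv
    calc (u * v) ^ 2 ^ 2 = (u * v) ^ 2 * u * (v * u * v) := by
          simp only [pow_succ, pow_zero, mul_assoc, one_mul, pow_mul]
      _ = u * u * v * u * (v * v) * u * v := by rw [← h2]; simp only [pow_succ, pow_zero]; group
      _ = 1 := by rw [h4, h5, one_mul, mul_one, mul_assoc v, h4, mul_one, h5]
  have h4 := commute_of_sq_three hu hv (h.sq_eq_one h5 _ _ h3)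
  exact (h4.mul_right (Subgroup.mem_center_iff.1 hz' u)).mul_left (Subgroup.mem_center_iff.1 hz _).symm

theorem sq_of_mem (h5 : p ≠ 5) {T : Subgroup G} (hT : IsPGroup 2 T) : ∀ t ∈ T, t ^ 2 = 1 := fun t ht => by
  obtain ⟨k, hk⟩ := hT ⟨t, ht⟩
  exact h.sq_eq_one h5 t k (congrArg Subtype.val hk)

theorem sl_prod (h5 : p ≠ 5) (K : Ctx p x C) (hf : K.f = 2) (h4 : 4 ∣ Nat.card G) :
    ∃ (a : ℕ) (F : Type) (_ : Field F) (_ : Fintype F), p = 2 ^ a + 1 ∧ Fintype.card F = 2 ^ a ∧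
      Nonempty (G ≃* SL(2, F) × center G) := by
  obtain ⟨T⟩ : Nonempty (Sylow 2 G) := inferInstance
  have hT := h.sq_of_mem h5 T.2
  have hp5 := h.five
  have hx : x ∉ center G := fun e => h.reg x e (K.hx ▸ dvd_rfl)
  obtain ⟨-, F, i1, i2, a, ha, hF, -, ⟨e⟩⟩ := (h.abCent h5).sl_prod (by
    have := Fintype.ofFinite T
    have h1 := Nat.le_of_dvd Nat.card_pos (T.pow_dvd_card_of_pow_dvd_card (n := 2) h4)
    obtain ⟨a, b, c, h1, h2, h3⟩ := Fintype.two_lt_card_iff.1 (show 2 < Fintype.card T by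
      rw [← Nat.card_eq_fintype_card]; omega)
    have h6 : ∀ b : T, a ≠ b → orderOf ((a⁻¹ * b : T) : G) = 2 := fun b hb =>
      orderOf_eq_prime (hT _ (a⁻¹ * b).2) fun e => hb (inv_mul_eq_one.1 (Subtype.ext e))
    exact ⟨_, _, h6 b h1, h6 c h2, fun e => h3 (mul_left_cancel (Subtype.ext e)),
      commute_of_sq_three (hT _ (a⁻¹ * b).2) (hT _ (a⁻¹ * c).2) (hT _ (a⁻¹ * b * (a⁻¹ * c)).2)⟩) (by
    obtain ⟨w, hw⟩ := exists_prime_orderOf_dvd_card' (G := Nz x) 2 (by rw [K.card_N, hf]; exact dvd_mul_right _ _)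
    rw [← orderOf_coe] at hw
    have hw2 : (w : G) ^ 2 = 1 := hw ▸ pow_orderOf_eq_one _
    refine ⟨w, x * w * x⁻¹, hw, by rw [← orderOf_eq_of_isConj (isConj_iff.2 ⟨x, rfl⟩), hw], fun hc => hx ?_⟩
    have h1 : (w : G) * x * (w : G)⁻¹ * x⁻¹ ∈ zpowers x :=
      mul_mem ((mem_normalizer_iff.1 w.2 x).1 (mem_zpowers x)) (inv_mem (mem_zpowers x))
    have h2 : (w : G)⁻¹ = w := inv_eq_of_mul_eq_one_left (sq (w : G) ▸ hw2)
    have h3 : (w : G) * x * (w : G)⁻¹ * x⁻¹ = 1 := eq_one_of_pow_coprime (a := 2) (b := p) (by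
      rw [h2, mul_assoc, mul_assoc, ← mul_assoc x, hc.mul_pow, conj_pow, hw2]; simp)
      (orderOf_dvd_iff_pow_eq_one.1 (K.card_P ▸ (zpowers x).orderOf_dvd_natCard h1))
      ((Nat.coprime_primes Nat.prime_two hp.out).2 (by omega))
    exact h.mem_center_of_comm h5 hw hp.out (by omega) (k := 1) (by rw [pow_one, K.x_pow])
      (by rwa [mul_inv_eq_one, mul_inv_eq_iff_eq_mul] at h3))
  refine ⟨a, F, i1, i2, ?_, hF, ⟨e⟩⟩
  have hc := Nat.card_congr e.toEquiv
  rw [Nat.card_prod, CL.SLn.card_SL_two, hF] at hc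
  have h1 := Nat.le_of_dvd (by omega) ((T.pow_dvd_card_of_pow_dvd_card (n := a)
    (hc ▸ (dvd_mul_right _ _).mul_right _)).trans (h.card_dvd_of_sq hT))
  have h2 : p ∣ 2 ^ a * ((2 ^ a) ^ 2 - 1) := ((hp.out.dvd_mul).1 (hc ▸ K.hx ▸ orderOf_dvd_natCard x)).resolve_right
    fun e => hx (K.x_mem_of_dvd e)
  have h3 : 1 < 2 ^ a := Nat.one_lt_two_pow (by omega)
  rw [← one_pow 2, Nat.sq_sub_sq] at h2
  generalize 2 ^ a = q at *
  rcases hp.out.dvd_mul.1 h2 with e | e
  · have := Nat.le_of_dvd (by omega) e; omega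
  rcases hp.out.dvd_mul.1 e with e | e <;> have := Nat.le_of_dvd (by omega) e <;> omega

end AltRel

theorem Ctx.le_sup_core (K : Ctx p x C) {H : Subgroup G} [H.Normal] (hx : x ∈ H) (h : H ⊓ Nz x ≤ C) :
    H ≤ zpowers x ⊔ pPrimeCore p G := by
  have hle : (K.syl : Subgroup G) ≤ H := zpowers_le.2 hx
  have h1 := CL.Grp.hasNormalPComplement_of_normalizer_le_centralizer (K.syl.subtype hle) fun g hg => by
    have h1 := h ⟨g.2, mem_normalizer_fintype fun a ha => (mem_normalizer_iff.1 hg ⟨a, hle ha⟩).1 ha⟩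
    exact mem_centralizer_iff.2 fun a ha => Subtype.ext (K.comm_of_mem ha h1)
  intro g hg
  obtain ⟨a, ha, b, hb, e⟩ := CL.Grp.exists_pResidual_mul_sylow (K.syl.subtype hle) ⟨g, hg⟩
  rw [show g = a * b from congrArg Subtype.val e]
  refine mul_mem (mem_sup_right (CL.Grp.le_pPrimeCore_of_not_dvd (N := (pResidual p H).map H.subtype) ?_
    ⟨a, ha, rfl⟩)) (mem_sup_left hb)
  rw [card_map_of_injective H.subtype_injective]
  exact CL.Grp.hasNormalPComplement_iff_not_dvd_pResidual.1 h1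

theorem Ctx.commutator_sup_C (K : Ctx p x C) (hf : K.f ∣ 2) (hO : pPrimeCore p G ≤ C) (hn : ¬ (zpowers x).Normal) :
    K.f = 2 ∧ x ∈ commutator G ∧ commutator G ⊔ C = ⊤ := by
  have key : ∀ H : Subgroup G, H.Normal → C ≤ H → ¬ H ⊓ Nz x ≤ C := fun H _ hC h => hn (normalizer_eq_top_iff.1 (by
    have h1 : Nz x ⊔ H = ⊤ := K.syl.normalizer_sup_eq_top' (K.P_le_C.trans hC)
    exact top_le_iff.1 (h1.ge.trans (sup_le le_rfl ((K.le_sup_core (hC K.x_mem) h).trans
      ((sup_le K.P_le_C hO).trans K.C_le_N))))))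
  have h1 := K.card_N
  have hf2 : K.f = 2 := (Nat.prime_two.eq_one_or_self_of_dvd _ hf).resolve_left fun e =>
    key ⊤ inferInstance le_top (inf_le_right.trans (eq_of_le_of_card_ge K.C_le_N (by rw [h1, e, one_mul])).ge)
  refine ⟨hf2, K.x_mem_of_dvd (by_contra fun e => ?_), ?_⟩
  · have h2 := (CL.Grp.le_pPrimeCore_of_not_dvd e).trans hO
    have : C.Normal := ⟨fun c hc g => by
      simpa [commutatorElement_def] using mul_mem (h2 (commutator_mem_commutator (mem_top g) (mem_top c))) hc⟩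
    exact key C this le_rfl inf_le_left
  · have : (commutator G ⊔ C).Normal := ⟨fun c hc g => by
      simpa [commutatorElement_def] using mul_mem (mem_sup_left (S := commutator G)
        (commutator_mem_commutator (mem_top g) (mem_top c))) hc⟩
    have h2 : C ≤ (commutator G ⊔ C) ⊓ Nz x := le_inf le_sup_right K.C_le_N
    obtain ⟨k, hk⟩ := card_dvd_of_le h2
    have h3 := card_dvd_of_le (inf_le_right : (commutator G ⊔ C) ⊓ Nz x ≤ _)
    rw [h1, hk, hf2, mul_comm 2, Nat.mul_dvd_mul_iff_left Nat.card_pos] at h3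
    rcases Nat.prime_two.eq_one_or_self_of_dvd _ h3 with rfl | rfl
    · exact absurd (eq_of_le_of_card_ge h2 (by rw [hk, mul_one])).ge (key _ this le_sup_right)
    · have h4 := eq_of_le_of_card_ge (inf_le_right : (commutator G ⊔ C) ⊓ Nz x ≤ _)
        (by rw [h1, hk, hf2, mul_comm])
      rw [← top_le_iff, ← K.syl.normalizer_sup_eq_top' (K.P_le_C.trans (le_sup_right (a := commutator G)))]
      exact sup_le (inf_eq_right.1 h4) le_rfl

theorem odd_center_of_perfect (hperf : commutator G = ⊤) {ζ : G → ℂ} (hζ : IsIrrCharacter G ζ)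
    (hker : charKer ζ = ⊥) {r : ℕ} (hr : r.Prime) (hd : ¬ r ∣ charDegree ζ) {z : G} (hz : z ∈ center G) :
    ¬ r ∣ orderOf z := fun ⟨k, hk⟩ => by
  have h0 := orderOf_pos z
  have h1 : orderOf (z ^ k) = r := by
    rw [orderOf_pow_of_dvd (by rintro rfl; omega) (hk ▸ dvd_mul_left _ _), hk,
      Nat.mul_div_cancel _ (Nat.pos_of_ne_zero (by rintro rfl; omega))]
  have := mem_charKer_of_mem_charCenter_commutator hζ.isCharacter (hζ.center_le_charCenter (pow_mem hz k))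
    (hperf ▸ mem_top _) (h1 ▸ hr.coprime_iff_not_dvd.2 hd)
  rw [hker, mem_bot] at this
  exact hr.ne_one (by rw [← h1, this, orderOf_one])

/-- A perfect group with a Sylow subgroup of order `p` and a faithful irreducible character of degree `p - 2`. -/
theorem Ctx.altRel_of_perfect (K : Ctx p x C) (hperf : commutator G = ⊤) {ζ : G → ℂ} (hζ : IsIrrCharacter G ζ)
    (hker : charKer ζ = ⊥) (hd : charDegree ζ + 2 = p) (h5 : 5 ≤ p) : K.f = 2 ∧ AltRel p ζ := by
  have hpos := hζ.charDegree_pos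
  obtain ⟨h1, -, h2⟩ := K.of_degree_sub_two hζ hker hd fun e => odd_center_of_perfect hperf hζ hker hp.out
    (fun h => by have := Nat.le_of_dvd hpos h; omega) e (K.hx ▸ dvd_rfl)
  refine ⟨h1, h2 h5 fun z hz => Nat.odd_iff.2 (Nat.two_dvd_ne_zero.1
    (odd_center_of_perfect hperf hζ hker Nat.prime_two ?_ hz))⟩
  have := hp.out.eq_two_or_odd
  omega

theorem Ctx.sl_of_perfect (K : Ctx p x C) (hperf : commutator G = ⊤) {ζ : G → ℂ} (hζ : IsIrrCharacter G ζ)
    (hker : charKer ζ = ⊥) (hd : charDegree ζ + 2 = p) (h5 : 5 < p) : center G = ⊥ ∧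
    ∃ (a : ℕ) (F : Type) (_ : Field F) (_ : Fintype F), p = 2 ^ a + 1 ∧ Fintype.card F = 2 ^ a ∧
      Nonempty (G ≃* SL(2, F)) := by
  obtain ⟨hf, h⟩ := K.altRel_of_perfect hperf hζ hker hd h5.le
  obtain ⟨a, F, i1, i2, h1, h2, ⟨e⟩⟩ := h.sl_prod h5.ne' K hf (CL.Fgs.four_dvd_card_of_perfect hperf
    ((by rw [K.card_N, hf]; exact dvd_mul_right _ _ : 2 ∣ _).trans (card_subgroup_dvd_card (Nz x))))
  have h3 : ∀ z : center G, z = 1 := fun z => by
    have h4 : commutator G ≤ ((MonoidHom.snd _ _).comp e.toMonoidHom).ker := Subgroup.commutator_le.2 fun a _ b _ => by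
      rw [MonoidHom.mem_ker, map_commutatorElement, commutatorElement_eq_one_iff_mul_comm, mul_comm']
    exact (congrArg Prod.snd (e.apply_symm_apply (1, z))).symm.trans (h4 (hperf ▸ mem_top (e.symm (1, z))))
  have : Unique (center G) := ⟨⟨1⟩, h3⟩
  exact ⟨eq_bot_iff.2 fun z hz => congrArg Subtype.val (h3 ⟨z, hz⟩), a, F, i1, i2, h1, h2,
    ⟨e.trans MulEquiv.prodUnique⟩⟩

/-- Faithful irreducible characters of degree `p - 2`. -/
theorem Ctx.sl_prod_of_degree (K : Ctx p x C) (hn : ¬ (zpowers x).Normal) {ζ : G → ℂ} (hζ : IsIrrCharacter G ζ)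
    (hker : charKer ζ = ⊥) (hd : charDegree ζ + 2 = p) (h5 : 5 < p) :
    ∃ (a : ℕ) (F : Type) (_ : Field F) (_ : Fintype F), p = 2 ^ a + 1 ∧ Fintype.card F = 2 ^ a ∧
      Nonempty (G ≃* SL(2, F) × center G) := by
  obtain ⟨hf, hc, -⟩ := K.of_degree_sub_two hζ hker hd fun e =>
    hn (CL.Grp.normal_of_le_center' (zpowers_le.2 e))
  have hO : pPrimeCore p G ≤ C := by
    rw [K.C_eq, le_centralizer_iff]
    by_contra h
    have := (ito_linear_of_action hζ.isCharacter hker (by omega) (CL.Grp.not_dvd_card_pPrimeCore p G)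
      K.isPGroup_P le_normalizer_of_normal h).1
    omega
  obtain ⟨-, hx, h1⟩ := K.commutator_sup_C (hf ▸ dvd_rfl) hO hn
  have h2 : commutator G ⊔ center G = ⊤ := top_le_iff.1 (h1.ge.trans (sup_le le_sup_left fun c h => by
    obtain ⟨v, j, hv, e⟩ := K.exists_decomp ⟨c, h⟩
    rw [show c = x ^ j.val * v from congrArg Subtype.val e]
    exact mul_mem_sup (pow_mem hx _) (hc v v.2 ((K.mem_H_iff v).1 hv))))
  have h3 : commutator (commutator G) = ⊤ := map_injective (commutator G).subtype_injective (by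
    rw [map_subtype_commutator, ← CL.Asch.commutator_sup_central le_rfl, h2, ← MonoidHom.range_eq_map,
      range_subtype, _root_.commutator_def])
  obtain ⟨K'⟩ := nonempty_ctx_of_orderOf (x := (⟨x, hx⟩ : commutator G)) ((Subgroup.orderOf_mk _ _).trans K.hx)
    fun h => K.not_sq_dvd (h.trans (card_subgroup_dvd_card _))
  obtain ⟨h4, a, F, i1, i2, h6, h7, ⟨e⟩⟩ := K'.sl_of_perfect h3 (isIrrCharacter_restrict_of_charCenter _ hζ
    (by rw [hζ.charCenter_eq_center hker, sup_comm, h2])) (charKer_restrict_eq_bot hζ.isCharacter hker _) hd h5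
  obtain ⟨e'⟩ := CL.Fus.nonempty_mulEquiv_prod_of_commute (fun a _ z hz => mem_center_iff.1 hz a)
    (disjoint_def.2 fun {z} h h' => congrArg Subtype.val (mem_bot.1 (h4 ▸ mem_center_iff.2 fun g =>
      Subtype.ext (mem_center_iff.1 h' g) : (⟨z, h⟩ : commutator G) ∈ ⊥))) h2
  exact ⟨a, F, i1, i2, h6, h7, ⟨e'.trans (e.prodCongr (.refl _))⟩⟩

end CL.Inv.PO
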