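/-
Simple groups of small subgroup length: lower bounds for nonsolvable groups, perfect groups acting on 2-groups,
and the local facts `Loc`.
-/
import Cfsg.Agent.Inv.LenDefs
import Cfsg.Agent.Odd.FT
import Cfsg.Agent.Char.BSGroup
import Cfsg.Agent.Char.Burnside
import Cfsg.Agent.Grp.MinNormal
import Cfsg.Agent.Grp.PGroupFrattini
import Cfsg.Agent.S4039
import Cfsg.Agent.S4208
import Cfsg.Agent.S3385

set_option autoImplicit false
open Cfsg Subgroup CL.Even CL.Grp

namespace CL.Inv.Len

universe u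

theorem isSolvable_of_isCyclic_sylow {G : Type*} [Group G] [Finite G] (P : Sylow 2 G)
    (hP : IsCyclic (P : Subgroup G)) : Group.IsSolvable G := by
  obtain ⟨Q, N, hN, hc⟩ := CL.Char.bs_hasNormalPComplement_of_isCyclic P hP
  have ho : Odd (Nat.card N) := by
    rw [← hc.index_eq_card, ← Nat.not_even_iff_odd, even_iff_two_dvd]
    exact Q.not_dvd_index
  haveI := CL.Odd.feit_thompson ho
  haveI : Group.IsSolvable (G ⧸ N) := by
    haveI := Q.isPGroup'.isNilpotent
    exact Group.isSolvable_of_surjective (f := hc.symm.QuotientMulEquiv.symm.toMonoidHom)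
      hc.symm.QuotientMulEquiv.symm.surjective
  exact solvable_of_ker_le_range N.subtype (QuotientGroup.mk' N) (by simp)

/-- a nonsolvable group has length at least `k + 2` if its Sylow 2-subgroups have order `2 ^ k ≤ 8` -/
theorem lenGe_of_card_sylow {G : Type*} [Group G] [Finite G] (h : ¬ Group.IsSolvable G) (P : Sylow 2 G) {k : ℕ}
    (hk : Nat.card (P : Subgroup G) = 2 ^ k) (h3 : k ≤ 3) : LenGe G (k + 2) := by
  haveI := P.isPGroup'.isNilpotent
  have h1 : LenGe (P : Subgroup G) k := lenGe_of_isPGroup hk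
  have hne : (P : Subgroup G) ≠ ⊤ := fun e => h (by
    haveI : Group.IsNilpotent (⊤ : Subgroup G) := e ▸ inferInstance
    exact Group.isSolvable_of_surjective (f := (⊤ : Subgroup G).subtype) fun g => ⟨⟨g, trivial⟩, rfl⟩)
  have hc : ¬ IsCoatom (P : Subgroup G) := fun hm => h (Cfsg.Agent.S4039.result _ hm inferInstance
    (nilpotencyClass_le_of_card_dvd_pow (p := 2) 1 _ (hk ▸ Nat.pow_dvd_pow 2 h3)))
  rw [IsCoatom, not_and] at hc
  have hc := hc hne
  push Not at hc
  obtain ⟨H, hH, hH'⟩ := hc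
  exact (h1.succ_of_lt hH).succ_of_ne_top hH'

theorem lenGe_succ_of_card_sylow {G : Type*} [Group G] [Finite G] (h : ¬ Group.IsSolvable G) (P : Sylow 2 G) {k : ℕ}
    (hk : Nat.card (P : Subgroup G) = 2 ^ k) : LenGe G (k + 1) := by
  haveI := P.isPGroup'.isNilpotent
  refine (lenGe_of_isPGroup hk).succ_of_ne_top fun e => h ?_
  haveI : Group.IsNilpotent (⊤ : Subgroup G) := e ▸ inferInstance
  exact Group.isSolvable_of_surjective (f := (⊤ : Subgroup G).subtype) fun g => ⟨⟨g, trivial⟩, rfl⟩

theorem two_le_of_card_sylow {G : Type*} [Group G] [Finite G] (h : ¬ Group.IsSolvable G) (P : Sylow 2 G) {k : ℕ}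
    (hk : Nat.card (P : Subgroup G) = 2 ^ k) : 2 ≤ k := by
  by_contra hlt
  refine h (isSolvable_of_isCyclic_sylow P (isCyclic_of_card_dvd_prime (p := 2) ?_))
  rw [hk]
  interval_cases k <;> norm_num

/-- a nonsolvable group has length at least 4 -/
theorem lenGe_four {G : Type*} [Group G] [Finite G] (h : ¬ Group.IsSolvable G) : LenGe G 4 := by
  obtain ⟨P⟩ : Nonempty (Sylow 2 G) := inferInstance
  obtain ⟨k, hk⟩ := IsPGroup.iff_card.1 P.isPGroup'
  have h2 := two_le_of_card_sylow h P hk
  by_cases h3 : k ≤ 3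
  · exact (lenGe_of_card_sylow h P hk h3).mono (by omega)
  · exact (lenGe_succ_of_card_sylow h P hk).mono (by omega)

/-- a nonsolvable group of order divisible by 8 has length at least 5 -/
theorem lenGe_five {G : Type*} [Group G] [Finite G] (h : ¬ Group.IsSolvable G) (h8 : 8 ∣ Nat.card G) :
    LenGe G 5 := by
  obtain ⟨P⟩ : Nonempty (Sylow 2 G) := inferInstance
  obtain ⟨k, hk⟩ := IsPGroup.iff_card.1 P.isPGroup'
  have h2 : 3 ≤ k := by
    have h1 : 2 ^ 3 ∣ Nat.card (P : Subgroup G) := by
      rw [← card_mul_index (P : Subgroup G)] at h8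
      exact (Nat.Coprime.pow_left 3
        ((Nat.Prime.coprime_iff_not_dvd Nat.prime_two).2 P.not_dvd_index)).dvd_of_dvd_mul_right h8
    rw [hk] at h1
    exact (Nat.pow_dvd_pow_iff_le_right one_lt_two).1 h1
  by_cases h3 : k ≤ 3
  · exact (lenGe_of_card_sylow h P hk h3).mono (by omega)
  · exact (lenGe_succ_of_card_sylow h P hk).mono (by omega)

theorem isSolvable_of_card_dvd_84 {G : Type*} [Group G] [Finite G] (h : Nat.card G ∣ 84) : Group.IsSolvable G := by
  haveI : Fact (Nat.Prime 7) := ⟨by norm_num⟩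
  obtain ⟨P⟩ : Nonempty (Sylow 7 G) := inferInstance
  have h1 := card_sylow_modEq_one 7 G
  have h2 : Nat.card (Sylow 7 G) ∣ 84 := (Sylow.card_dvd_index P).trans ((index_dvd_card _).trans h)
  have h3 : ¬ 7 ∣ Nat.card (Sylow 7 G) := not_dvd_card_sylow 7 G
  have h4 : Nat.card (Sylow 7 G) = 1 := by
    have := Nat.le_of_dvd (by norm_num) h2
    unfold Nat.ModEq at h1
    generalize Nat.card (Sylow 7 G) = n at *
    interval_cases n <;> omega
  haveI : Subsingleton (Sylow 7 G) := (Nat.card_eq_one_iff_unique.1 h4).1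
  haveI : (P : Subgroup G).Normal := Sylow.normal_of_subsingleton P
  haveI := P.isPGroup'.isNilpotent
  haveI : Group.IsSolvable (G ⧸ (P : Subgroup G)) := by
    refine CL.Char.isSolvable_of_two_primes Nat.prime_two Nat.prime_three fun r hr hd => ?_
    have h5 : r ∣ 84 := hd.trans ((card_quotient_dvd_card _).trans h)
    have h6 : r ≠ 7 := by
      rintro rfl
      exact P.not_dvd_index hd
    have := Nat.le_of_dvd (by norm_num) h5
    interval_cases r <;> first | omega | (exfalso; norm_num at hr)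
  exact solvable_of_ker_le_range (P : Subgroup G).subtype (QuotientGroup.mk' (P : Subgroup G)) (by simp)

/-- a nonsolvable group of automorphisms of a group of order `2 ^ d` has `d + length ≥ 8` -/
theorem lenGe_of_aut {V X : Type*} [Group V] [Finite V] [Group X] [Finite X] {d : ℕ} (hV : Nat.card V = 2 ^ d)
    (f : X →* MulAut V) (hf : Function.Injective f) (h : ¬ Group.IsSolvable X) : ∃ k, 8 ≤ d + k ∧ LenGe X k := by
  by_cases h4 : 4 ≤ d
  · exact ⟨4, by omega, lenGe_four h⟩
  obtain ⟨r, hr, hr'⟩ := (Nat.dvd_prime_pow Nat.prime_two).1 (hV ▸ index_dvd_card (frattini V))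
  have hd := (card_dvd_of_injective f hf).trans (Cfsg.Agent.S4208.result hV hr')
  by_cases h2 : r ≤ 2
  · refine absurd (CL.Char.isSolvable_of_two_primes Nat.prime_two Nat.prime_three fun q hq hq' => ?_) h
    have h6 : ∏ i ∈ Finset.range r, (2 ^ r - 2 ^ i) ∣ 2 * 3 := by interval_cases r <;> decide
    have := hq'.trans (hd.trans (mul_dvd_mul_left _ h6))
    rw [← mul_assoc, ← pow_succ, hq.dvd_mul] at this
    exact this.imp (fun h => (Nat.prime_dvd_prime_iff_eq hq Nat.prime_two).1 (hq.dvd_of_dvd_pow h))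
      (Nat.prime_dvd_prime_iff_eq hq Nat.prime_three).1
  obtain rfl : r = 3 := by omega
  obtain rfl : d = 3 := by omega
  rw [show 2 ^ (3 * (3 - 3)) * ∏ i ∈ Finset.range 3, (2 ^ 3 - 2 ^ i) = 168 by decide] at hd
  refine ⟨5, le_rfl, lenGe_five h ?_⟩
  by_contra h8
  refine h (isSolvable_of_card_dvd_84 ?_)
  have := Nat.le_of_dvd (by norm_num) hd
  generalize Nat.card X = n at *
  interval_cases n <;> omega

/-- (A): in a group of length at most 7 a perfect subgroup centralizes every normal 2-subgroup -/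
theorem perfect_le_centralizer {Y : Type u} [Group Y] [Finite Y] (hY : ¬ LenGe Y 8) (Q : Subgroup Y) [hn : Q.Normal]
    (hQ : IsPGroup 2 Q) (K : Subgroup Y) (hK : ⁅K, K⁆ = K) : K ≤ 𝒞(Q) := by
  induction hc : Nat.card Y using Nat.strong_induction_on generalizing Y with
  | _ n ih =>
    subst hc
    by_cases hb : Q = ⊥
    · subst hb
      intro x _ y hy
      rw [SetLike.mem_coe, mem_bot] at hy
      simp [hy]
    obtain ⟨V, hV, hVQ⟩ := exists_isMinNormal_le Q hb
    haveI := hV.normal
    have hVp : IsPGroup 2 V := hQ.to_le hVQ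
    have hVc : IsMulCommutative V := (hV.isElementaryAbelian_of_isPGroup hVp).1
    -- `K` centralizes `V`
    have h1 : K ≤ 𝒞(V) := by
      by_contra hne
      obtain ⟨d, hd⟩ := IsPGroup.iff_card.1 hVp
      let φ : Y →* MulAut V := MulAut.conjNormal
      have hker : φ.ker = 𝒞(V) := by
        ext g
        rw [MonoidHom.mem_ker, mem_centralizer_iff]
        refine ⟨fun e x hx => ?_, fun e => MulEquiv.ext fun x => Subtype.ext ?_⟩
        · have : g * x * g⁻¹ = x := congrArg (fun α : MulAut V => ((α ⟨x, hx⟩ : V) : Y)) e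
          rw [← mul_inv_eq_iff_eq_mul.1 this]
        · change g * x * g⁻¹ = x
          rw [← e x x.2, mul_inv_cancel_right]
      have hns : ¬ Group.IsSolvable φ.range := fun hs => by
        have h2 : ⁅K.map φ.rangeRestrict, K.map φ.rangeRestrict⁆ = K.map φ.rangeRestrict := by
          rw [← map_commutator, hK]
        have h3 : K.map φ.rangeRestrict = ⊥ := by
          by_contra h4
          exact (IsSolvable.commutator_lt_of_ne_bot h4).ne h2
        rw [Subgroup.map_eq_bot_iff, MonoidHom.ker_rangeRestrict, hker] at h3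
        exact hne h3
      obtain ⟨k, hk, hl⟩ := lenGe_of_aut hd φ.range.subtype φ.range.subtype_injective hns
      have h5 : LenGe φ.rangeRestrict.ker d := by
        refine (lenGe_of_isPGroup hd).of_le ?_
        rw [MonoidHom.ker_rangeRestrict, hker]
        exact le_centralizer V
      exact hY ((LenGe.of_ker φ.rangeRestrict φ.rangeRestrict_surjective h5 hl).mono hk)
    -- and `Q / V`
    have h2 := ih _ (card_quotient_lt hV.ne_bot) (Y := Y ⧸ V)
      (fun h => hY (h.of_surjective _ (QuotientGroup.mk'_surjective V))) (Q.map (QuotientGroup.mk' V))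
      (hn := hn.map _ (QuotientGroup.mk'_surjective V)) (hQ.map _) (K.map (QuotientGroup.mk' V))
      (by rw [← map_commutator, hK]) rfl
    have h3 : ⁅K, Q⁆ ≤ V := by
      have := commutator_eq_bot_iff_le_centralizer.2 h2
      rwa [← map_commutator, Subgroup.map_eq_bot_iff, QuotientGroup.ker_mk'] at this
    have h4 : ⁅⁅K, Q⁆, K⁆ = ⊥ := by
      rw [commutator_comm]
      exact le_bot_iff.1 ((commutator_mono le_rfl h3).trans (commutator_eq_bot_iff_le_centralizer.2 h1).le)
    have h5 : ⁅⁅K, K⁆, Q⁆ = ⊥ := commutator_commutator_eq_bot_of_rotate h4 (by rwa [commutator_comm Q])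
    rw [hK] at h5
    exact commutator_eq_bot_iff_le_centralizer.1 h5

/-- a nonsolvable group has a nontrivial perfect normal subgroup with solvable quotient; here: a subgroup containing
all perfect subgroups, if solvable, forces solvability -/
theorem isSolvable_of_perfect_le {Y : Type*} [Group Y] [Finite Y] (C : Subgroup Y) (hC : Group.IsSolvable C)
    (h : ∀ K : Subgroup Y, ⁅K, K⁆ = K → K ≤ C) : Group.IsSolvable Y := by
  obtain ⟨n, hn⟩ : ∃ n, derivedSeries Y (n + 1) = derivedSeries Y n := by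
    by_contra hc
    push Not at hc
    have : StrictAnti (derivedSeries Y) := strictAnti_nat_of_succ_lt fun n =>
      lt_of_le_of_ne (by rw [derivedSeries_succ]; exact commutator_le_left _ _) (hc n)
    exact (Finite.of_injective _ this.injective).false
  rw [derivedSeries_succ] at hn
  have h1 := h _ hn
  refine ⟨⟨n, ?_⟩⟩
  by_contra h2
  have h3 : (derivedSeries Y n).subgroupOf C ≠ ⊥ := by
    rwa [Ne, subgroupOf_eq_bot, disjoint_iff, inf_eq_left.2 h1]
  refine (IsSolvable.commutator_lt_of_ne_bot h3).ne (map_injective C.subtype_injective ?_)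
  rw [map_commutator, subgroupOf_map_subtype, inf_eq_left.2 h1, hn]

section Loc
variable {G : Type u} [Group G] [Finite G] {l : ℕ}

theorem Amb.not_solvable (h : Amb G l) : ¬ Group.IsSolvable G := fun hs => by
  haveI := h.simple
  exact h.noncomm ⟨⟨IsSimpleGroup.comm_iff_isSolvable.2 hs⟩⟩

theorem Amb.ne_top (h : Amb G l) {H : Subgroup G} (hH : Group.IsSolvable H) : H ≠ ⊤ := by
  rintro rfl
  exact h.not_solvable
    (Group.isSolvable_of_surjective (f := (⊤ : Subgroup G).subtype) fun g => ⟨⟨g, trivial⟩, rfl⟩)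

theorem Amb.le_seven (h : Amb G l) : l ≤ 7 := by
  rcases h.mode with h | h <;> omega

theorem Amb.omega (h : Amb G l) (H : Subgroup G) (hH : Group.IsSolvable H) : om H ≤ l := by
  by_contra hc
  exact h.len H (h.ne_top hH) ((lenGe_of_solvable (G := H)).mono (by omega))

theorem Amb.normalizer_ne_top (h : Amb G l) {H : Subgroup G} (h1 : H ≠ ⊥) (h2 : H ≠ ⊤) : 𝒩(H) ≠ ⊤ := fun e => by
  haveI := h.simple
  exact (IsSimpleGroup.eq_bot_or_eq_top_of_normal H (normalizer_eq_top_iff.1 e)).elim h1 h2

theorem Amb.centralizer_ne_top (h : Amb G l) {z : G} (hz : z ≠ 1) : 𝒞(zpowers z) ≠ ⊤ := fun e => by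
  refine h.normalizer_ne_top (H := zpowers z) (by simpa using hz) (h.ne_top inferInstance) ?_
  exact top_le_iff.1 (e ▸ centralizer_le_normalizer _)

theorem Amb.no192 (h : Amb G l) (H : Subgroup G) (hH : Group.IsSolvable H) : ¬ 192 ∣ Nat.card H := by
  rintro ⟨c, hc⟩
  have hc0 : c ≠ 0 := by
    rintro rfl
    exact Nat.card_pos.ne' hc
  have h1 := h.omega H hH
  have h2 : om H = 7 + c.primeFactorsList.length := by
    simp only [om]
    rw [hc, length_primeFactorsList_mul (by norm_num) hc0]
    congr 1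
    simp [Nat.primeFactorsList_ofNat]
  rcases h.mode with h6 | ⟨rfl, h7⟩
  · omega
  have h3 : c = 1 := by
    have : c.primeFactorsList = [] := List.length_eq_zero_iff.1 (by omega)
    exact ((Nat.primeFactorsList_eq_nil _).1 this).resolve_left hc0
  subst h3
  rw [mul_one] at hc
  haveI := h.simple
  have hL : LenGe H 7 := (lenGe_of_solvable (G := H)).mono (by omega)
  have hmax : IsCoatom H := ⟨h.ne_top hH, fun M hM => by
    by_contra hne
    exact h.len M hne (hL.succ_of_lt hM)⟩
  have hb : H ≠ ⊥ := by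
    rintro rfl
    simp at hc
  have hN : 𝒩(H) = H := by
    by_contra hne
    exact h.normalizer_ne_top hb hmax.1 (hmax.2 _ (lt_of_le_of_ne le_normalizer (Ne.symm hne)))
  obtain ⟨T, hT⟩ := exists_isSylowIn 2 H
  have hTc : Nat.card T = 64 := by
    rw [hT.card_eq_pow, hc, ← Nat.primeFactorsList_count_eq]
    simp [Nat.primeFactorsList_ofNat]
  obtain ⟨S, hS, hTS⟩ := exists_isSylowIn_ge hT.isPGroup (le_top (a := T))
  have hlt : T < S := lt_of_le_of_ne hTS fun e => by
    have := h7 S hS
    rw [← e, hTc] at this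
    omega
  obtain ⟨s, ⟨hsS, hsN⟩, hsT⟩ := SetLike.exists_of_lt (lt_inf_normalizer_of_isPGroup hS.isPGroup hlt)
  have hsH : s ∉ H := fun hs => hsT (by
    have := hT.eq_of_le (U := S ⊓ H) hS.isPGroup.to_inf_left (le_inf hTS hT.le) inf_le_right
    rw [← this]
    exact ⟨hsS, hs⟩)
  haveI : FaithfulSMul G (G ⧸ H) := by
    refine ⟨fun {a b} hab => ?_⟩
    have h4 : H.normalCore = ⊥ :=
      (IsSimpleGroup.eq_bot_or_eq_top_of_normal _ inferInstance).resolve_right
        fun e => hmax.1 (top_le_iff.1 (e ▸ H.normalCore_le))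
    have h5 : b⁻¹ * a ∈ H.normalCore := by
      rw [normalCore_eq_ker, MonoidHom.mem_ker]
      ext x
      simp [mul_smul, hab]
    rw [h4, mem_bot] at h5
    exact (inv_mul_eq_one.1 h5).symm
  haveI : Nontrivial (G ⧸ H) := ⟨⟨(s : G ⧸ H), ((1 : G) : G ⧸ H), fun e => hsH (by simpa using QuotientGroup.eq.1 e)⟩⟩
  have hst : MulAction.stabilizer G ((1 : G) : G ⧸ H) = H := MulAction.stabilizer_quotient H
  have hprim : MulAction.IsPreprimitive G (G ⧸ H) :=
    (MulAction.isCoatom_stabilizer_iff_preprimitive (G := G) ((1 : G) : G ⧸ H)).1 (by rwa [hst])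
  have key := Cfsg.Agent.S3385.result hprim ((1 : G) : G ⧸ H) (s : G ⧸ H)
  rw [hst] at key
  have hmem : ∀ x : H, x ∈ MulAction.stabilizer H (s : G ⧸ H) ↔ s⁻¹ * x * s ∈ H := fun x => by
    rw [MulAction.mem_stabilizer_iff]
    change (((x : G) * s : G) : G ⧸ H) = s ↔ _
    rw [eq_comm, QuotientGroup.eq, mul_assoc]
  have h4 : Nat.card (MulAction.orbit H (s : G ⧸ H)) = (MulAction.stabilizer H (s : G ⧸ H)).index := by
    rw [MulAction.index_stabilizer, Nat.card_coe_set_eq]
  have h5 : (MulAction.stabilizer H (s : G ⧸ H)).index ∣ 3 := by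
    have h6 : (T.subgroupOf H).index = 3 := by
      have := card_mul_index (T.subgroupOf H)
      rw [Nat.card_congr (subgroupOfEquivOfLe hT.le).toEquiv, hTc, hc] at this
      omega
    rw [← h6]
    exact index_dvd_of_le fun x hx => (hmem x).2 (hT.le (conj_mem' hsN hx))
  have h6 : (MulAction.stabilizer H (s : G ⧸ H)).index ≠ 1 := fun e => hsH (by
    rw [index_eq_one] at e
    rw [← hN, ← inv_mem_iff]
    refine mem_normalizer_fintype fun x hx => ?_
    simpa using (hmem ⟨x, hx⟩).1 (e ▸ mem_top _))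
  obtain ⟨k, hk, hk'⟩ := key (h4 ▸ ((Nat.dvd_prime Nat.prime_three).1 h5).resolve_left h6)
  rw [hc] at hk'
  have := Nat.pow_le_pow_right two_pos hk
  omega

theorem Amb.solvN (h : Amb G l) (Q : Subgroup G) (hQ : IsPGroup 2 Q) (hb : Q ≠ ⊥) (hC : Group.IsSolvable 𝒞(Q)) :
    Group.IsSolvable 𝒩(Q) := by
  haveI := hQ.isNilpotent
  have h1 : ¬ LenGe 𝒩(Q) 8 := fun e =>
    h.len _ (h.normalizer_ne_top hb (h.ne_top inferInstance)) (e.mono (by have := h.le_seven; omega))
  refine isSolvable_of_perfect_le (𝒞(Q).subgroupOf 𝒩(Q))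
    (Group.isSolvable_of_surjective (f := (subgroupOfEquivOfLe (centralizer_le_normalizer _)).symm.toMonoidHom)
      (MulEquiv.surjective _)) fun K hK => ?_
  have h2 := perfect_le_centralizer h1 (Q.subgroupOf 𝒩(Q)) (hQ.comap_subtype) K hK
  intro x hx y hy
  exact congrArg Subtype.val (h2 hx ⟨y, le_normalizer hy⟩ hy)

theorem locThm : LocThm.{u} := fun G _ _ l h => by
  refine ⟨h.simple, h.noncomm, h.omega, h.no192, h.solvN, h.mode.imp_right fun ⟨h7, h8⟩ => ⟨h7, fun S hS =>
    ⟨h8 S hS, fun z hz hle => ?_⟩⟩⟩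
  by_contra hne
  subst h7
  exact h.len _ (h.centralizer_ne_top hz)
    ((lenGe_of_isPGroup (p := 2) (k := 7) (h8 S hS)).succ_of_lt (lt_of_le_of_ne hle (Ne.symm hne)))

end Loc

end CL.Inv.Len
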