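/-
Primitive permutation groups of degree `2 p` with a Sylow `p`-normalizer of order `2 p`.
-/
import Cfsg.Agent.Inv.DegPm2c
import Cfsg.Agent.S0985
import Cfsg.Agent.S0494

set_option autoImplicit false

namespace CL.Inv.PO

open Finset CL.Blk CL.Char Cfsg Subgroup MulAction
open scoped MatrixGroups Classical

universe u

variable {G : Type u} [Group G] [Finite G] {p : ℕ} [hp : Fact p.Prime] {x : G} {C : Subgroup G}

omit hp in
theorem card_dvd_of_norm_one {ζ : G → ℂ} (hζ : IsCharacter G ζ) (T : Subgroup G)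
    (h : ∀ u ∈ T, u ≠ 1 → ζ u = 1 ∨ ζ u = -1) : Nat.card T ∣ charDegree ζ ^ 2 - 1 := by
  by_cases h0 : charDegree ζ = 0
  · simp [h0]
  have := Fintype.ofFinite T
  obtain ⟨c, hc⟩ := ((hζ.mul hζ).restrict T).exists_nat_classInner isCharacter_one
  rw [classInner_one_right, ← add_sum_erase _ _ (mem_univ 1), sum_congr rfl (g := fun _ => (1 : ℂ)) fun u hu => by
    rcases h u u.2 fun e => (mem_erase.1 hu).1 (Subtype.ext e) with e | e <;> simp [e],
    inv_mul_eq_iff_eq_mul₀ natCard_ne_zero] at hc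
  simp only [OneMemClass.coe_one, Pi.mul_apply, ← hζ.cast_charDegree, sum_const, card_erase_of_mem (mem_univ _),
    card_univ, ← Nat.card_eq_fintype_card, nsmul_eq_mul, mul_one] at hc
  have h1 : charDegree ζ * charDegree ζ + (Nat.card T - 1) = Nat.card T * c := by exact_mod_cast hc
  have h2 := Nat.card_pos (α := T)
  have h3 : 1 ≤ charDegree ζ * charDegree ζ := Nat.mul_pos (by omega) (by omega)
  refine (Nat.dvd_add_left (dvd_refl (Nat.card T))).1 ⟨c, ?_⟩
  rw [sq]; omega

theorem AltRel.card_dvd {ζ : G → ℂ} (h : AltRel 5 ζ) (hZ : center G = ⊥) (h25 : ¬ 5 ^ 2 ∣ Nat.card G) :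
    Nat.card G ∣ 120 := by
  have : Fact (Nat.Prime 5) := ⟨by norm_num⟩
  have hd : charDegree ζ = 3 := by have := h.deg; omega
  refine (Nat.dvd_iff_prime_pow_dvd_dvd _ _).2 fun r k hr hk => ?_
  have := Fact.mk hr
  obtain ⟨R⟩ : Nonempty (Sylow r G) := inferInstance
  have h1 := R.pow_dvd_card_of_pow_dvd_card hk
  by_cases h2 : r = 2
  · subst h2
    refine (h1.trans (card_dvd_of_norm_one h.irr.isCharacter R fun u hu hu1 => ?_)).trans (by rw [hd]; norm_num)
    obtain ⟨j, hj⟩ := R.2 ⟨u, hu⟩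
    exact h.norm_two (congrArg Subtype.val hj) hu1
  by_cases h5 : r = 5
  · subst h5
    exact (pow_dvd_pow 5 (show k ≤ 1 from by_contra fun e => h25 ((pow_dvd_pow 5 (by omega)).trans hk))).trans
      (by norm_num)
  refine (h1.trans (card_dvd_charDegree_of_vanish h.irr.isCharacter R fun u hu hu1 => ?_)).trans
    (by rw [hd]; norm_num)
  obtain ⟨j, hj⟩ := R.2 ⟨u, hu⟩
  have h3 := orderOf_dvd_of_pow_eq_one (show u ^ r ^ j = 1 from congrArg Subtype.val hj)
  exact h.apply_odd ((hr.odd_of_ne_two h2).pow.of_dvd_nat h3) (fun e => h5 ((Nat.prime_dvd_prime_iff_eq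
    (by norm_num) hr).1 ((by norm_num : Nat.Prime 5).dvd_of_dvd_pow (e.trans h3))).symm) (by simpa [hZ] using hu1)

theorem Ctx.card_eq_sixty (K : Ctx 5 x C) (hC : C ≤ zpowers x) (hf : K.f = 2) (hn : ¬ (zpowers x).Normal)
    {ζ : G → ℂ} (h : AltRel 5 ζ) (hZ : center G = ⊥) : Nat.card G = 60 := by
  have := Fintype.ofFinite G
  have : Fact (Nat.Prime 5) := ⟨by norm_num⟩
  have h1 := h.card_dvd hZ K.not_sq_dvd
  obtain ⟨n, hn'⟩ := K.exists_index_N
  have h2 := K.card_G hC
  have h3 : n ≠ 0 := by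
    rintro rfl
    exact hn (normalizer_eq_top_iff.1 (index_eq_one.1 hn'))
  rw [hf, hn'] at h2
  have h4 := Nat.le_of_dvd (by norm_num) h1
  rw [h2] at h1 h4 ⊢
  have : n ≤ 2 := by omega
  interval_cases n <;> omega

/-- A maximal subgroup of order `r (2 r - 1)` in a group whose involution centralizers are elementary abelian. -/
theorem AltRel.not_coatom {ζ : G → ℂ} (h : AltRel p ζ) (h5 : p ≠ 5) (hO : pPrimeCore p G = ⊥) {H : Subgroup G}
    (hH : IsCoatom H) {b : ℕ} (hb : 2 ≤ b) (hG : 2 ^ (b + 1) ∣ Nat.card G)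
    (hc : Nat.card H = 2 ^ b * (2 ^ (b + 1) - 1)) : False := by
  have hZ : center G = ⊥ := le_bot_iff.1 (hO ▸ CL.Grp.le_pPrimeCore_of_not_dvd fun e => by
    obtain ⟨z, hz⟩ := exists_prime_orderOf_dvd_card' p e
    exact h.reg z z.2 (by rw [orderOf_coe, hz]))
  have hodd : ¬ 2 ∣ 2 ^ (b + 1) - 1 := by have := Nat.two_pow_pos b; omega
  have hS : ∀ S : Sylow 2 H, Nat.card S = 2 ^ b := fun S => by
    rw [S.card_eq_multiplicity, hc, Nat.factorization_mul (by positivity) (by rintro e; simp [e] at hodd)]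
    simp [Nat.factorization_eq_zero_of_not_dvd hodd, Nat.prime_two.factorization_self]
  have h4 : 4 ≤ 2 ^ b := Nat.pow_le_pow_right two_pos hb
  have hcomm : ∀ {T : Subgroup G}, IsPGroup 2 T → ∀ a ∈ T, ∀ c ∈ T, Commute a c := fun hT a ha c hc =>
    commute_of_sq_three (h.sq_of_mem h5 hT a ha) (h.sq_of_mem h5 hT c hc) (h.sq_of_mem h5 hT _ (mul_mem ha hc))
  obtain ⟨S⟩ : Nonempty (Sylow 2 H) := inferInstance
  have h1 : Nat.card (Sylow 2 H) ≡ 1 [MOD 2 ^ b] := by_contra fun e => by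
    obtain ⟨P, R, hne, hi⟩ := Cfsg.Agent.S0985.result 2 b e
    obtain ⟨⟨w, hw⟩, hw1⟩ := ne_bot_iff_exists_ne_one.1 (show (R : Subgroup H).subgroupOf P ≠ ⊥ from fun e => by
      rw [e, index_bot, hS] at hi
      have := (Nat.pow_le_pow_iff_right one_lt_two).1 hi
      omega)
    have hw2 : orderOf ((w : H) : G) = 2 := orderOf_eq_prime (h.sq_of_mem h5 (P.2.map H.subtype) _ ⟨_, w.2, rfl⟩)
      fun e => hw1 (Subtype.ext (Subtype.ext (Subtype.ext e)))
    have h2 : IsPGroup 2 (centralizer ({(w : H)} : Set H)) := fun c => ⟨1, Subtype.ext (Subtype.ext (by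
      obtain ⟨u, z, hu, -, hz, e⟩ := h.exists_decomp h5 hw2 (c := (c : H))
        (congrArg Subtype.val (mem_centralizer_singleton_iff.1 c.2))
      rw [hZ, mem_bot] at hz
      simpa [e, hz] using hu))⟩
    have h3 : ∀ Q : Sylow 2 H, (w : H) ∈ (Q : Subgroup H) → centralizer ({(w : H)} : Set H) = Q := fun Q hQ =>
      Q.3 h2 fun c hc => mem_centralizer_singleton_iff.2
        (Subtype.ext (hcomm (Q.2.map H.subtype) _ ⟨_, hc, rfl⟩ _ ⟨_, hQ, rfl⟩).eq)
    exact hne (Sylow.ext ((h3 P w.2).symm.trans (h3 R hw)))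
  have h2 : Nat.card (Sylow 2 H) ∣ 2 ^ (b + 1) - 1 := by
    have := (S : Subgroup H).card_mul_index
    rw [hS, hc, Nat.mul_left_cancel_iff (by positivity)] at this
    exact this ▸ S.card_dvd_index
  obtain ⟨k, hk⟩ := (Nat.modEq_iff_dvd' Nat.card_pos).1 h1.symm
  have h3 := Nat.le_of_dvd (by omega) h2
  have h0 := Nat.card_pos (α := Sylow 2 H)
  rcases k with _ | k
  · have : Subsingleton (Sylow 2 H) := (Nat.card_eq_one_iff_unique.1 (by omega)).1
    have hn := S.normal_of_subsingleton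
    obtain ⟨T, hT⟩ := (S.2.map H.subtype).exists_le_sylow
    have h6 : H ≤ normalizer (((S : Subgroup H).map H.subtype : Subgroup G) : Set G) := by
      have := le_normalizer_map (H := (S : Subgroup H)) H.subtype
      rwa [normalizer_eq_top, ← MonoidHom.range_eq_map, range_subtype] at this
    have h7 : (T : Subgroup G) ≤ normalizer (((S : Subgroup H).map H.subtype : Subgroup G) : Set G) :=
      fun t ht => centralizer_le_normalizer _ fun s hs => (hcomm T.2 s (hT hs) t ht).eq
    rcases hH.le_iff.1 h6 with e | e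
    · have := normalizer_eq_top_iff.1 e
      have h8 := CL.Grp.le_pPrimeCore_of_not_dvd (p := p) (N := (S : Subgroup H).map H.subtype) (by
        rw [card_map_of_injective H.subtype_injective, hS]
        intro e
        have := Nat.le_of_dvd two_pos (hp.out.dvd_of_dvd_pow e)
        have := h.five
        omega)
      rw [hO, le_bot_iff, map_eq_bot_iff_of_injective _ H.subtype_injective, ← Subgroup.card_eq_one, hS] at h8
      omega
    · have h8 := (T.pow_dvd_card_of_pow_dvd_card hG).trans (card_dvd_of_le (e ▸ h7))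
      rw [hc, pow_succ, Nat.mul_dvd_mul_iff_left (by positivity), ← pow_succ] at h8
      exact hodd h8
  · rw [pow_succ] at h2 h3
    generalize 2 ^ b = r at *
    have h6 : k = 0 := by_contra fun e => by
      have : r * 2 ≤ r * (k + 1) := Nat.mul_le_mul_left _ (by omega)
      omega
    rw [show Nat.card (Sylow 2 H) = r + 1 by subst h6; omega] at h2
    have := Nat.le_of_dvd (by norm_num) ((Nat.dvd_add_right h2).1 (⟨2, by omega⟩ : r + 1 ∣ r * 2 - 1 + 3))
    omega

omit [Finite G] in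
/-- The principal block for `e = 2` and a transitive action of degree divisible by `p`. -/
theorem Ctx.exists_block_two [Fintype G] (K : Ctx p x C) (hf : K.f = 2) (hperf : commutator G = ⊤)
    (α : Type*) [MulAction G α] [Finite α] [IsPretransitive G α] {k : ℕ} (hα : Nat.card α = k * p) (hk : 0 < k)
    (hk' : 2 * (k * p) ≤ (p - 1) * (p + 2)) : ∃ χ μ : IrrCharacter G, charDegree (χ : G → ℂ) =
      charDegree (μ : G → ℂ) + 1 ∧ p ∣ charDegree (χ : G → ℂ) + 1 ∧
      classInner (fun g : G => (Nat.card (fixedBy α g) : ℂ) - 1) χ ≠ 0 := by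
  obtain ⟨M, hM⟩ := exists_isPModular' hp.out
  obtain ⟨D, h1, hs1⟩ := K.exists_data_principal hM
  have hπ := isCharacter_card_fixedBy (G := G) α
  have : Nonempty α := (Nat.card_pos_iff.1 (hα ▸ Nat.mul_pos hk hp.out.pos)).1
  have hρ := isCharacter_card_fixedBy_sub_one (G := G) α
  have hπ1 := classInner_card_fixedBy_one (G := G) α
  rw [card_orbits_of_isPretransitive] at hπ1
  set π : G → ℂ := fun g => (Nat.card (fixedBy α g) : ℂ) with hπdef
  have hπs : ∀ g, p ∣ orderOf g → π g = (0 : G → ℂ) g := fun g hg => Nat.cast_eq_zero.2 (by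
    by_contra h
    obtain ⟨⟨a, ha⟩⟩ := (Nat.card_ne_zero.1 h).1
    refine K.not_sq_dvd ?_
    rw [← (stabilizer G a).card_mul_index, index_stabilizer_of_transitive, hα, sq]
    exact Nat.mul_dvd_mul (hg.trans (orderOf_dvd_natCard _ ha)) (dvd_mul_left _ _))
  obtain ⟨χ, hχ⟩ : ∃ χ, D.X.erase (irrOne G) = {χ} :=
    card_eq_one.1 (by rw [card_erase_of_mem h1, D.card_X_one, hf])
  have hχ1 : χ ∈ D.X.erase (irrOne G) := hχ ▸ mem_singleton_self χ
  have hχX := mem_of_mem_erase hχ1
  have hdeg : D.ε * (charDegree (D.μ 1 : G → ℂ) : ℤ) = 1 + D.s χ * charDegree (χ : G → ℂ) := by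
    rw [D.deg_rel 1, ← add_sum_erase _ _ h1, hχ, sum_singleton, hs1, coe_irrOne,
      charDegree_const_one]; simp
  have hin : ∀ l, D.ε * classInner π (D.μ l : G → ℂ) = 1 + D.s χ * classInner π (χ : G → ℂ) := fun l => by
    have := K.inner_A_congr hπs (irrOne C) (l : (ZMod p)ˣ)
    rw [D.inner_A_eq, ← add_sum_erase _ _ h1, hχ, sum_singleton, hs1, coe_irrOne, hπ1, classInner_zero_left,
      sub_eq_zero] at this
    simpa using this
  have hsub : ∀ ψ : IrrCharacter G, ψ ≠ irrOne G → classInner (fun g => π g - 1) ψ = classInner π ψ := fun ψ h => by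
    rw [show (fun g => π g - 1) = π - irrOne G from rfl, classInner_sub_left, classInner_irr, if_neg h.symm,
      sub_zero]
  obtain ⟨a, ha⟩ := hπ.exists_nat_classInner χ.2.isCharacter
  have h2 := χ.2.charDegree_pos
  have h3 : charDegree (χ : G → ℂ) ≠ 1 := fun e => (mem_erase.1 hχ1).1 (eq_irrOne_of_perfect hperf e)
  have h4 := D.deg_X_one hχX
  have h5 := (D.μ 1).2.charDegree_pos
  rcases D.hs χ hχX with hs | hs <;> rw [hs] at hdeg hin h4
  · exfalso
    have hε : D.ε = 1 := D.hε.resolve_right fun e => by rw [e] at hdeg; omega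
    rw [hε] at hdeg hin
    have h6 := (isCharacter_sub_sum hρ D.Y fun ψ hψ => by
      obtain ⟨l, rfl⟩ := D.mem_Y.1 hψ
      have := hin l
      rw [ha] at this
      rw [hsub (D.μ l) fun e => D.μ_notMem l (e ▸ h1), show classInner π (D.μ l : G → ℂ) = (1 + a : ℕ) by simpa using this]
      exact Nat.cast_ne_zero.2 (by omega)).cast_charDegree
    rw [Pi.sub_apply, Finset.sum_apply, D.sum_Y_reg 1 (by simpa using hp.out.ne_one),
      ← (D.μ 1).2.cast_charDegree, show Nat.card (fixedBy α (1 : G)) = k * p from (nfix_one α).trans hα,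
      eq_sub_iff_add_eq, eq_sub_iff_add_eq] at h6
    norm_cast at h6
    have h8 := K.index_E_one
    have h9 := Int.le_of_dvd (by omega) h4.symm.dvd
    rw [hf] at h8
    rw [← h8] at hk'
    have : (K.E (irrOne C)).index * (p + 2) ≤ (K.E (irrOne C)).index * charDegree (D.μ 1 : G → ℂ) :=
      Nat.mul_le_mul_left _ (by omega)
    nlinarith
  have hε : D.ε = -1 := D.hε.resolve_left fun e => by rw [e] at hdeg; omega
  rw [hε] at hdeg hin
  refine ⟨χ, D.μ 1, by omega, by exact_mod_cast (by simpa using h4.symm.dvd : (p : ℤ) ∣ charDegree (χ : G → ℂ) + 1), ?_⟩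
  obtain ⟨b, hb⟩ := hπ.exists_nat_classInner (D.μ 1).2.isCharacter
  have := hin 1
  rw [hb] at this
  rw [hsub _ (mem_erase.1 hχ1).1, show classInner π (χ : G → ℂ) = (1 + b : ℕ) by
    push_cast at this ⊢; linear_combination this]
  exact Nat.cast_ne_zero.2 (by omega)

theorem two_p_main (α : Type*) [MulAction G α] [Finite α] [FaithfulSMul G α] [IsPreprimitive G α]
    (hα : Nat.card α = 2 * p) (hp3 : 3 < p) (hn2 : ¬ IsMultiplyPretransitive G α 2) (K : Ctx p x C)
    (hN : Nat.card (Nz x) = 2 * p) : p = 5 ∧ Nonempty (G ≃* alternatingGroup (Fin 5)) := by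
  have := Fintype.ofFinite G
  have : Nontrivial α := Finite.one_lt_card_iff_nontrivial.1 (by omega)
  obtain ⟨a⟩ : Nonempty α := inferInstance
  have htr : ∀ L : Subgroup G, L.Normal → L ≠ ⊥ → 2 * p ∣ Nat.card L := fun L _ hL => by
    have := IsQuasiPreprimitive.isPretransitive_of_normal (X := α) (N := L) fun e => hL
      (eq_bot_iff.2 fun g hg => eq_of_smul_eq_smul (α := α) fun b => by
        simpa using (e ▸ Set.mem_univ b : b ∈ fixedPoints L α) ⟨g, hg⟩)
    rw [← hα, ← index_stabilizer_of_transitive L a]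
    exact index_dvd_card _
  have hO : pPrimeCore p G = ⊥ := by_contra fun e =>
    CL.Grp.not_dvd_card_pPrimeCore p G ((dvd_mul_left _ _).trans (htr _ inferInstance e))
  have hn : ¬ (zpowers x).Normal := fun e => by
    have := Nat.le_of_dvd hp.out.pos (K.card_P ▸ htr _ e (zpowers_ne_bot.2 K.x_ne_one))
    omega
  obtain ⟨c, hc⟩ := card_dvd_of_le K.P_le_C
  have h1 := K.card_N
  rw [hN, hc, K.card_P, mul_left_comm, mul_comm 2] at h1
  have h2 := Nat.eq_of_mul_eq_mul_left hp.out.pos h1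
  obtain ⟨hf, hx, h3⟩ := K.commutator_sup_C ⟨c, h2⟩ (hO ▸ bot_le) hn
  have hC : C ≤ zpowers x := (eq_of_le_of_card_ge K.P_le_C (by rw [hc, show c = 1 by rw [hf] at h2; omega]; simp)).ge
  have hperf : commutator G = ⊤ := by rwa [sup_eq_left.2 (hC.trans (zpowers_le.2 hx))] at h3
  have hsimple := K.isSimpleGroup hperf hC hO
  have hp5 : 5 ≤ p := by
    have : p ≠ 4 := by rintro rfl; exact absurd hp.out (by decide)
    omega
  obtain ⟨χ, μ, h4, ⟨j, hj⟩, h5⟩ := K.exists_block_two hf hperf α hα two_pos (by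
    obtain ⟨n, rfl⟩ := Nat.exists_eq_add_of_le hp5
    rw [show 5 + n - 1 = 4 + n by omega]
    nlinarith)
  have hρ := isCharacter_card_fixedBy_sub_one (G := G) α
  have hρ1 : (Nat.card (fixedBy α (1 : G)) : ℂ) - 1 = (2 * p - 1 : ℕ) := by
    rw [show Nat.card (fixedBy α (1 : G)) = 2 * p from (nfix_one α).trans hα, Nat.cast_sub (by omega)]; simp
  have h6 := degree_le_of_classInner_ne_zero hρ χ.2 h5 hρ1 χ.2.cast_charDegree.symm
  have h7 : charDegree (χ : G → ℂ) ≠ 2 * p - 1 := fun e => hn2 ((isIrrCharacter_card_fixedBy_sub_one_iff α).1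
    (hρ.eq_of_classInner_ne_zero_of_one_eq χ.2 h5 (by rw [← χ.2.cast_charDegree, e]; exact hρ1) ▸ χ.2))
  have h8 : j = 1 := by
    rcases j with _ | _ | j
    · omega
    · rfl
    · have : p * 2 ≤ p * (j + 1 + 1) := Nat.mul_le_mul_left _ (by omega)
      omega
  have hd : charDegree (μ : G → ℂ) + 2 = p := by subst h8; omega
  have hker : charKer (μ : G → ℂ) = ⊥ := (μ.2.charKer_normal.eq_bot_or_eq_top).resolve_right fun e => by
    rw [μ.2.charKer_eq_top_iff.1 e, charDegree_const_one] at hd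
    omega
  obtain ⟨-, h⟩ := K.altRel_of_perfect hperf μ.2 hker hd hp5
  have hZ : center G = ⊥ := (instNormalCenter.eq_bot_or_eq_top).resolve_right fun e =>
    h.reg x (e ▸ mem_top x) (K.hx ▸ dvd_rfl)
  obtain rfl : p = 5 := by_contra fun h5 => by
    obtain ⟨-, b, F, i1, i2, h9, h10, ⟨e⟩⟩ := K.sl_of_perfect hperf μ.2 hker hd (by omega)
    have h11 := Nat.card_congr e.toEquiv
    rw [CL.SLn.card_SL_two, h10] at h11
    obtain ⟨b, rfl⟩ : ∃ b', b = b' + 3 := ⟨b - 3, by
      have : ¬ b ≤ 2 := fun e => by have := Nat.pow_le_pow_right two_pos e; omega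
      omega⟩
    refine h.not_coatom h5 hO (IsPreprimitive.isCoatom_stabilizer_of_isPreprimitive G a) (b := b + 2) (by omega)
      (h11 ▸ dvd_mul_right _ _) (Nat.eq_of_mul_eq_mul_right (show 0 < 2 * p by omega) ?_)
    rw [← hα, ← index_stabilizer_of_transitive G a, card_mul_index, index_stabilizer_of_transitive G a, hα, h11,
      h9, ← one_pow 2, Nat.sq_sub_sq, one_pow, show b + 2 + 1 = b + 3 from rfl]
    generalize 2 ^ (b + 3) - 1 = n
    ring
  exact ⟨rfl, Cfsg.Agent.S0494.result (K.card_eq_sixty hC hf hn h hZ)⟩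

end CL.Inv.PO
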