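/-
A perfect group with bicyclic Sylow 2-subgroups has 2-rank at most two.
-/
import Cfsg.Agent.Inv.Bicyc
import Cfsg.Agent.Loc.FusSC
import Cfsg.Agent.S0112
import Cfsg.Agent.S0113
import Cfsg.Agent.S4143

set_option autoImplicit false

open Cfsg Subgroup CL.Grp CL.Fgs CL.Even CL.Loc
open scoped commutatorElement

namespace CL.Inv

variable {G : Type*} [Group G] [Finite G]

theorem mem_cent_of_odd_of_fix_invol {H : Subgroup G} (hH : IsPGroup 2 H) (hc : H ≤ 𝒞(H)) {x : G} (hx : x ∈ 𝒩(H))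
    (ho : (orderOf x).Coprime 2) (h : ∀ v ∈ H, v ^ 2 = 1 → v * x = x * v) : x ∈ 𝒞(H) := by
  suffices ∀ k : ℕ, ∀ g ∈ H, g ^ 2 ^ k = 1 → g * x = x * g from fun g hg =>
    let ⟨k, hk⟩ := hH ⟨g, hg⟩
    this k g hg (congrArg Subtype.val hk)
  intro k
  induction k with
  | zero => intro g _ hg; simp_all
  | succ k ih =>
    intro g hg hk
    have h1 := ih (g ^ 2) (pow_mem hg 2) (by rw [← pow_mul, ← pow_succ', hk])
    have hd : x * g * x⁻¹ * g⁻¹ ∈ H := mul_mem (conj_mem hx hg) (inv_mem hg)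
    have hd2 : (x * g * x⁻¹ * g⁻¹) ^ 2 = 1 := by
      have hcm : Commute (x * g * x⁻¹) g⁻¹ := comm_of_mem (hc (inv_mem hg)) (conj_mem hx hg)
      rw [hcm.mul_pow, conj_pow, ← h1, mul_inv_cancel_right, inv_pow, mul_inv_cancel]
    have h2 := h _ hd hd2
    have h3 : x ^ 2 ∈ centralizer {g} := by
      rw [mem_centralizer_singleton_iff]
      have e : x * g = (x * g * x⁻¹ * g⁻¹) * g * x := by group
      calc x ^ 2 * g = x * (x * g) := by rw [sq, mul_assoc]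
        _ = (x * (x * g * x⁻¹ * g⁻¹)) * g * x := by group
        _ = (x * g * x⁻¹ * g⁻¹) * (x * g) * x := by rw [← h2]; group
        _ = (x * g * x⁻¹ * g⁻¹) ^ 2 * g * x ^ 2 := by nth_rw 2 [e]; simp only [sq, mul_assoc]
        _ = _ := by rw [hd2, one_mul]
    exact (mem_centralizer_singleton_iff.1 (mem_of_pow_mem_of_coprime ho h3)).symm

/-- An abelian member of the Alperin-Goldschmidt family is the centralizer of its involutions. -/
theorem ag_mem_of_fix_invol {P H : Subgroup G} (hP : IsPGroup 2 P) (h : AGSub 2 P H) (hc : H ≤ 𝒞(H)) {g : G}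
    (hg : g ∈ P) (hv : ∀ v ∈ H, v ^ 2 = 1 → v * g = g * v) : g ∈ H := by
  set V : Set G := {v | v ∈ H ∧ v ^ 2 = 1} with hV
  have hC : 𝒞(H) ≤ centralizer V := centralizer_le fun v hv => hv.1
  have h1 : P ⊓ (𝒩(H) ⊓ centralizer V) ≤ H := by
    refine h.inf_le_of_res_le inf_le_left (fun n hn => mem_norm_of_cj_le fun k hk => ?_)
      (le_inf (cent_le_norm H) hC) (res_le_of fun x hx ho =>
        mem_cent_of_odd_of_fix_invol h.isPGroup hc hx.1 ho fun v h1 h2 => hx.2 v ⟨h1, h2⟩)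
    obtain ⟨k, hk, rfl⟩ := hk
    refine ⟨𝒩(H).mul_mem (𝒩(H).mul_mem hn hk.1) (𝒩(H).inv_mem hn), fun v hv => ?_⟩
    have h2 := hk.2 (n⁻¹ * v * n) ⟨conj_mem' hn hv.1, by
      rw [show n⁻¹ * v * n = n⁻¹ * v * n⁻¹⁻¹ by rw [inv_inv], conj_pow, hv.2]; simp⟩
    change v * (n * k * n⁻¹) = n * k * n⁻¹ * v
    calc _ = n * (n⁻¹ * v * n * k) * n⁻¹ := by group
      _ = _ := by rw [h2]; group
  refine le_of_inf_norm_le (W := P ⊓ centralizer V) hP h.le inf_le_left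
    ((le_inf h.le (hc.trans hC)).trans le_normalizer) (fun w hw => h1 ⟨hw.1.1, hw.2, hw.1.2⟩)
    ⟨hg, fun v hv' => hv v hv'.1 hv'.2⟩

theorem zmod_two_pow_add_self {n : ℕ} {a : ZMod (2 ^ (n + 2))} (h : a + a = 0) :
    a = 0 ∨ a = 2 ^ n + 2 ^ n := by
  obtain ⟨k, rfl⟩ := ZMod.natCast_zmod_surjective a
  rw [← Nat.cast_add, ZMod.natCast_eq_zero_iff, ← two_mul, pow_succ', Nat.mul_dvd_mul_iff_left two_pos] at h
  obtain ⟨m, rfl⟩ := h
  have h0 : ((2 ^ (n + 2) : ℕ) : ZMod (2 ^ (n + 2))) = 0 := ZMod.natCast_self _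
  push_cast at h0 ⊢
  rcases Nat.even_or_odd' m with ⟨r, rfl | rfl⟩
  · left; push_cast; linear_combination r * h0
  · right; push_cast; linear_combination r * h0

theorem four_of_homocyclic {H : Subgroup G} {n : ℕ}
    (e : H ≃* Multiplicative (ZMod (2 ^ (n + 2))) × Multiplicative (ZMod (2 ^ (n + 2)))) :
    ∃ a ∈ H, ∃ b ∈ H, (a ^ 2) ^ 2 = 1 ∧ (b ^ 2) ^ 2 = 1 ∧
      ∀ v ∈ H, v ^ 2 = 1 → v = 1 ∨ v = a ^ 2 ∨ v = b ^ 2 ∨ v = a ^ 2 * b ^ 2 := by
  set c := Multiplicative.ofAdd ((2 : ZMod (2 ^ (n + 2))) ^ n) with hc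
  have h0 : ((2 ^ (n + 2) : ℕ) : ZMod (2 ^ (n + 2))) = 0 := ZMod.natCast_self _
  have c4 : (c ^ 2) ^ 2 = 1 := by
    rw [hc, ← ofAdd_nsmul, ← ofAdd_nsmul, ofAdd_eq_one]
    push_cast at h0
    simp only [nsmul_eq_mul]
    push_cast
    linear_combination h0
  have key : ∀ t : Multiplicative (ZMod (2 ^ (n + 2))), t ^ 2 = 1 → t = 1 ∨ t = c ^ 2 := fun t ht =>
    (zmod_two_pow_add_self (a := t.toAdd) (by rw [← toAdd_mul, ← sq, ht, toAdd_one])).imp toAdd_eq_zero.1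
      fun h => by rw [sq, hc, ← ofAdd_add, ← h, ofAdd_toAdd]
  refine ⟨e.symm (c, 1), (e.symm _).2, e.symm (1, c), (e.symm _).2, ?_, ?_, fun v hv h2 => ?_⟩
  · rw [← coe_pow, ← coe_pow, ← map_pow, ← map_pow]; simp [c4, Prod.mk_one_one]
  · rw [← coe_pow, ← coe_pow, ← map_pow, ← map_pow]; simp [c4, Prod.mk_one_one]
  have h3 : e ⟨v, hv⟩ ^ 2 = 1 := by rw [← map_pow, ← map_one e]; exact congrArg e (Subtype.ext h2)
  have h4 : v = e.symm ((e ⟨v, hv⟩).1, (e ⟨v, hv⟩).2) := by simp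
  rw [← coe_pow, ← coe_pow, ← coe_mul, ← map_pow, ← map_pow, ← map_mul]
  rcases key _ (congrArg Prod.fst h3) with h5 | h5 <;> rcases key _ (congrArg Prod.snd h3) with h6 | h6 <;>
    rw [h5, h6] at h4 <;> simp [h4, Prod.mk_one_one]

theorem card_le_four_of_ag {P H E : Subgroup G} (hP : IsPGroup 2 P) (h : AGSub 2 P H) (hc : H ≤ 𝒞(H)) {z v u : G}
    (hz : z ∈ 𝒞(P)) (hu : u ∈ H) (hv : v = u ^ 2) (hV : ∀ w ∈ H, w ^ 2 = 1 → w = 1 ∨ w = z ∨ w = v ∨ w = v * z)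
    (hv2 : v ^ 2 = 1) (hz2 : z ^ 2 = 1) (hE : E ≤ P) (hEc : E ≤ 𝒞(E)) (hE2 : ∀ e ∈ E, e ^ 2 = 1) : Nat.card E ≤ 4 := by
  classical
  have hvH : v ∈ H := hv ▸ pow_mem hu 2
  have hH : ∀ g ∈ P, v * g = g * v → g ∈ H := fun g hg hgv => ag_mem_of_fix_invol hP h hc hg fun w hw hw2 => by
    have := comm_of_mem hz hg
    rcases hV w hw hw2 with rfl | rfl | rfl | rfl
    · simp
    · exact this.symm
    · exact hgv
    · rw [mul_assoc, ← this, ← mul_assoc, hgv, mul_assoc]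
  have hcj : ∀ r ∈ P, r * v * r⁻¹ ∈ H → r * v * r⁻¹ = v ∨ r * v * r⁻¹ = v * z := fun r hr h1 => by
    rcases hV _ h1 (by rw [conj_pow, hv2]; simp) with e | e | e | e
    · left; rw [e]; simpa [eq_comm, mul_inv_eq_one] using e
    · left
      have : v = z := by
        calc v = r⁻¹ * (r * v * r⁻¹) * r := by group
          _ = z := by rw [e, mul_assoc, ← comm_of_mem hz hr]; group
      rw [e, this]
    · exact .inl e
    · exact .inr e
  have hmul : ∀ r ∈ P, ∀ s ∈ P, r * v * r⁻¹ = v * z → s * v * s⁻¹ = v * z → r * s ∈ H := fun r hr s hs e1 e2 =>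
    hH _ (mul_mem hr hs) (by
      have := comm_of_mem hz hr
      calc v * (r * s) = v * z * z * (r * s) := by rw [mul_assoc v, ← sq, hz2, mul_one]
        _ = r * v * r⁻¹ * (z * r) * s := by rw [e1]; group
        _ = r * (v * z) * s := by rw [← this]; group
        _ = _ := by rw [← e2]; group)
  have hT : P ≤ 𝒩(H) := by
    by_contra hlt
    obtain ⟨r, hr, hrT⟩ := SetLike.exists_of_lt (lt_inf_normalizer_pGroup hP (H := P ⊓ 𝒩(H))
      (lt_of_le_of_ne inf_le_left fun e => hlt (e ▸ inf_le_right)))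
    have h1 := conj_mem hr.2 (show u ∈ P ⊓ 𝒩(H) from ⟨h.le hu, le_normalizer hu⟩)
    have h2 : r * v * r⁻¹ ∈ H := by
      rw [hv, ← conj_pow]
      rcases hcj _ h1.1 (conj_mem h1.2 hvH) with e | e
      · exact pow_mem (hH _ h1.1 (mul_inv_eq_iff_eq_mul.1 e).symm) 2
      · rw [sq]; exact hmul _ h1.1 _ h1.1 e e
    refine hrT ⟨hr.1, 𝒩(H).inv_mem_iff.1 (mem_norm_of_cj_le ?_)⟩
    rintro _ ⟨k, hk, rfl⟩
    refine hH _ (mul_mem (mul_mem (inv_mem hr.1) (h.le hk)) (inv_mem (inv_mem hr.1))) ?_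
    have := comm_of_mem (hc hk) h2
    change v * (r⁻¹ * k * r⁻¹⁻¹) = r⁻¹ * k * r⁻¹⁻¹ * v
    calc _ = r⁻¹ * (r * v * r⁻¹ * k) * r := by group
      _ = _ := by rw [this]; group
  have hfin : ∀ a b c d : G, (∀ e ∈ E, e = a ∨ e = b ∨ e = c ∨ e = d) → Nat.card E ≤ 4 := fun a b c d h4 => by
    refine (Nat.card_le_card_of_injective (fun e : E => (⟨e, by simpa using h4 e e.2⟩ : ({a, b, c, d} : Finset G)))
      fun _ _ e => Subtype.ext (Subtype.mk.inj e)).trans ?_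
    rw [Nat.card_eq_fintype_card, Fintype.card_coe]
    exact Finset.card_le_four
  by_cases hEH : E ≤ H
  · exact hfin _ _ _ _ fun e he => hV e (hEH he) (hE2 e he)
  obtain ⟨e, he, heH⟩ := SetLike.not_le_iff_exists.1 hEH
  have k1 : ∀ g ∈ E, g ∉ H → g * v * g⁻¹ = v * z := fun g hg hgH =>
    (hcj g (hE hg) (conj_mem (hT (hE hg)) hvH)).resolve_left fun e => hgH (hH g (hE hg) (mul_inv_eq_iff_eq_mul.1 e).symm)
  have k2 : ∀ g ∈ E, g ∈ H → g = 1 ∨ g = z := fun g hg hgH => by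
    have h5 := comm_of_mem (hEc he) hg
    have h6 := comm_of_mem hz (hE he)
    rcases hV g hgH (hE2 g hg) with e | e | e | e
    · exact .inl e
    · exact .inr e
    · exact absurd (hH _ (hE he) (e ▸ h5)) heH
    · refine absurd (hH _ (hE he) (mul_right_cancel (b := z) ?_)) heH
      rw [mul_assoc, h6, ← mul_assoc, ← e, h5, e, mul_assoc]
  refine hfin 1 z e⁻¹ (e⁻¹ * z) fun g hg => ?_
  by_cases hgH : g ∈ H
  · exact (k2 g hg hgH).imp id .inl
  · rcases k2 _ (mul_mem he hg) (hmul _ (hE he) _ (hE hg) (k1 _ he heH) (k1 _ hg hgH)) with e1 | e1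
    · exact .inr (.inr (.inl (eq_inv_of_mul_eq_one_right e1)))
    · exact .inr (.inr (.inr (by rw [← e1, inv_mul_cancel_left])))

omit [Finite G] in
theorem mc_of_cyclic_index_two {C : Subgroup G} (hC : IsCyclic C) (h : C.index = 2) : IsMetacyclic G :=
  haveI := normal_of_index_eq_two h
  ⟨C, this, hC, isCyclic_of_prime_card (p := 2) h⟩

theorem card_le_four_of_ag_mc {P H E : Subgroup G} (hP : IsPGroup 2 P) (h : AGSub 2 P H) (hm : IsMetacyclic H)
    {α : MulAut H} (h1 : Odd (orderOf α)) (h2 : α ≠ 1) (hE : E ≤ P) (hEc : E ≤ 𝒞(E)) (hE2 : ∀ e ∈ E, e ^ 2 = 1) :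
    Nat.card E ≤ 4 := by
  by_contra h4
  obtain ⟨n, hn⟩ := IsPGroup.iff_card.1 hP
  have hn3 : 3 ≤ n := by
    by_contra h5
    have h6 := card_le_of_le hE
    have h7 : 2 ^ n ≤ 2 ^ 2 := Nat.pow_le_pow_right two_pos (by omega)
    omega
  have hcl : Group.nilpotencyClass P ≠ n - 1 := fun e => by
    obtain ⟨C, hC, hi⟩ := Cfsg.Agent.S0113.result n hn3 hn e
    exact h4 (Nat.le_of_dvd (by norm_num) (mc_card_dvd (n := 2) (mc_of_injective (mc_of_cyclic_index_two hC hi)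
      (inclusion hE) (inclusion_injective _)) fun x => Subtype.ext (hE2 x x.2)))
  have hcent : centralizer (H.subgroupOf P : Set P) ≤ H.subgroupOf P := fun g hg =>
    h.cent ⟨g.2, fun k hk => congrArg Subtype.val (hg ⟨k, h.le hk⟩ hk)⟩
  have hcard := Nat.card_congr (subgroupOfEquivOfLe h.le).toEquiv
  rcases metacyclic_two_of_odd_aut h.isPGroup hm h1 h2 with ⟨⟨e⟩⟩ | ⟨k, hk, ⟨e⟩⟩
  · refine hcl (Cfsg.Agent.S4143.result n hn (H.subgroupOf P) ?_ (fun hc => ?_) hcent)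
    · rw [hcard, Nat.card_congr e.toEquiv, Nat.card_eq_fintype_card, QuaternionGroup.card]; rfl
    · have e' := (subgroupOfEquivOfLe h.le).trans e
      have := congrArg e' (hc.is_comm.comm (e'.symm (.a 1)) (e'.symm (.xa 0)))
      simp only [map_mul, MulEquiv.apply_symm_apply] at this
      exact absurd this (by decide)
  have hc : H ≤ 𝒞(H) := fun a ha b hb =>
    congrArg Subtype.val (e.injective (a₁ := ⟨b, hb⟩ * ⟨a, ha⟩) (a₂ := ⟨a, ha⟩ * ⟨b, hb⟩) (by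
      rw [map_mul, map_mul, mul_comm]))
  obtain rfl | ⟨k, rfl⟩ : k = 1 ∨ ∃ m, k = m + 2 := by
    rcases k with _ | _ | k
    exacts [absurd hk (by norm_num), .inl rfl, .inr ⟨k, rfl⟩]
  · refine hcl (Cfsg.Agent.S0112.result n hn (H.subgroupOf P) ?_ (le_antisymm hcent fun g hg k hk =>
      Subtype.ext (hc hg k hk)))
    rw [hcard, Nat.card_congr e.toEquiv]; simp
  obtain ⟨a, ha, b, hb, a4, b4, hV⟩ := four_of_homocyclic e
  haveI := hP.isNilpotent
  haveI : Nontrivial P := Finite.one_lt_card_iff_nontrivial.1 (by have := card_le_of_le hE; omega)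
  obtain ⟨p, z, hp, hz, ho⟩ := exists_mem_orderOf_prime (inf_center_ne_bot (N := (⊤ : Subgroup P)) top_ne_bot)
  obtain ⟨m, hm'⟩ := (IsPGroup.iff_orderOf.1 hP) z
  obtain rfl : p = 2 := (Nat.prime_dvd_prime_iff_eq hp Nat.prime_two).1 (hp.dvd_of_dvd_pow (by rw [← hm', ho]))
  have hzc : (z : G) ∈ 𝒞(P) := fun g hg => congrArg Subtype.val (mem_center_iff.1 hz.2 ⟨g, hg⟩)
  have hz2 : (z : G) ^ 2 = 1 := by rw [← coe_pow, ← ho, pow_orderOf_eq_one, coe_one]
  have hab : a ^ 2 * b ^ 2 = b ^ 2 * a ^ 2 := comm_of_mem (hc (pow_mem hb 2)) (pow_mem ha 2)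
  rcases hV z (h.cent ⟨z.2, cent_mono h.le hzc⟩) hz2 with e1 | e1 | e1 | e1
  · rw [show z = 1 from Subtype.ext e1] at ho; simp at ho
  · refine h4 (card_le_four_of_ag hP h hc hzc hb rfl (fun w hw hw2 => ?_) b4 hz2 hE hEc hE2)
    rw [e1, ← hab]; exact hV w hw hw2
  · refine h4 (card_le_four_of_ag hP h hc hzc ha rfl (fun w hw hw2 => ?_) a4 hz2 hE hEc hE2)
    rw [e1]; have := hV w hw hw2; tauto
  · refine h4 (card_le_four_of_ag hP h hc hzc ha rfl (fun w hw hw2 => ?_) a4 hz2 hE hEc hE2)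
    rw [e1, ← mul_assoc, ← sq, a4, one_mul]; have := hV w hw hw2; tauto

/-- A perfect group with bicyclic Sylow 2-subgroups has 2-rank at most two. -/
theorem pRankLE_of_bic (hG : commutator G = ⊤) (P : Sylow 2 G) {x y : P} (hb : Bic x y) : PRankLE 2 2 G := by
  intro A hA hA2
  by_contra h4
  obtain ⟨g₀, hg₀⟩ := exists_conj_le_sylow P (U := A) fun a => ⟨1, Subtype.ext (hA2 a a.2)⟩
  have hP := P.isPGroup'
  obtain ⟨E, hE, hEc, hE2, hE4⟩ : ∃ E : Subgroup G, E ≤ P ∧ E ≤ 𝒞(E) ∧ (∀ e ∈ E, e ^ 2 = 1) ∧ ¬ Nat.card E ≤ 4 := by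
    refine ⟨cj g₀ A, hg₀, ?_, ?_, by rwa [card_cj]⟩
    · rintro _ ⟨a, ha, rfl⟩ _ ⟨b, hb, rfl⟩
      rw [← map_mul, ← map_mul]
      exact congrArg _ (congrArg Subtype.val (hA.is_comm.comm ⟨b, hb⟩ ⟨a, ha⟩))
    · rintro _ ⟨a, ha, rfl⟩
      rw [← map_pow, hA2 a ha, map_one]
  have hne : E.subgroupOf P ≠ ⊤ := fun e => by
    have h1 : ∀ g : P, g ^ 2 = 1 := fun g => Subtype.ext (hE2 g (subgroupOf_eq_top.1 e g.2))
    haveI : (zpowers x).Normal := ⟨fun n hn g => by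
      rw [show g * n * g⁻¹ = n from Subtype.ext (by
        simp [comm_of_mem (hEc (subgroupOf_eq_top.1 e n.2)) (subgroupOf_eq_top.1 e g.2)])]
      exact hn⟩
    exact hE4 ((card_le_of_le hE).trans (Nat.le_of_dvd (by norm_num) (mc_card_dvd (n := 2) (mc_of_gen hb.sup) h1)))
  obtain ⟨M, -, hEM, hM⟩ := exists_normal_index_eq_ge hP hne
  have hMm : ¬ IsMetacyclic M := fun hm => hE4 (Nat.le_of_dvd (by norm_num) (mc_card_dvd (n := 2)
    (mc_of_injective hm ((inclusion hEM).comp (subgroupOfEquivOfLe hE).symm.toMonoidHom)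
      ((inclusion_injective hEM).comp (subgroupOfEquivOfLe hE).symm.injective)) fun e => Subtype.ext (hE2 e e.2)))
  let Φ : G → G → Prop := fun a b => ∃ (ha : a ∈ (P : Subgroup G)) (hb : b ∈ (P : Subgroup G)),
    ((⟨a, ha⟩ : P) ∈ M ↔ (⟨b, hb⟩ : P) ∈ M)
  have hmove : ∀ i k, AGMove 2 (P : Subgroup G) i k → ∀ a ∈ i.1, Φ a (k⁻¹ * a * k) := fun i k hk a ha => by
    have hkN := hk.2.2.1.2.1 (res_le _ hk.2.2.2)
    refine ⟨hk.1.le ha, hk.1.le (conj_mem' hkN ha), ?_⟩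
    by_cases hle : i.1.subgroupOf P ≤ M
    · exact ⟨fun _ => hle (conj_mem' hkN ha), fun _ => hle ha⟩
    obtain ⟨M', -, hM1, hM2⟩ := exists_normal_index_eq_ge hP (H := i.1.subgroupOf P) fun e =>
      hk.2.1.1.not_ge (subgroupOf_eq_top.1 e)
    have hm' : IsMetacyclic M' := by_contra fun h => hle (hb.eq_of_not_mc hP hM2 hM h hMm ▸ hM1)
    have hm : IsMetacyclic i.1 := mc_of_injective hm' ((inclusion hM1).comp
      (subgroupOfEquivOfLe hk.1.le).symm.toMonoidHom) ((inclusion_injective hM1).comp (MulEquiv.injective _))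
    have hkC : k ∈ 𝒞(i.1) := res_le_of (L := i.2) (fun t ht ho => by
      by_contra h
      refine hE4 (card_le_four_of_ag_mc hP hk.1 hm (α := i.1.normalizerMonoidHom ⟨t, hk.2.2.1.2.1 ht⟩) ?_
        (fun e => h (mem_centralizer_of_normalizerMonoidHom_eq_one e)) hE hEc hE2)
      exact Nat.coprime_two_right.1 (ho.coprime_dvd_left (orderOf_normalizerMonoidHom_dvd ⟨t, _⟩))) hk.2.2.2
    simp only [mul_assoc, comm_of_mem hkC ha, inv_mul_cancel_left]
  have hchain : ∀ (B : Set G) (k : G), MChain Prod.fst (AGMove 2 (P : Subgroup G)) B k →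
      ∀ a ∈ B, a ∈ (P : Subgroup G) → Φ a (k⁻¹ * a * k) := fun B k hk => by
    induction hk with
    | nil B => exact fun a _ ha => ⟨ha, by simpa using ha, by simp⟩
    | cons B i t k hM hA _ ih =>
      intro a ha _
      obtain ⟨h1, h2, h3⟩ := hmove i t hM a (hA ha)
      obtain ⟨_, h5, h6⟩ := ih _ ⟨a, ha, rfl⟩ h2
      exact ⟨h1, by simpa [mul_assoc] using h5, h3.trans (by simpa [mul_assoc] using h6)⟩
  have hnorm : ∀ k ∈ 𝒩((P : Subgroup G)), ∀ a ∈ (P : Subgroup G), Φ a (k⁻¹ * a * k) := fun k hk a ha => by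
    let α := (P : Subgroup G).normalizerMonoidHom ⟨k⁻¹, inv_mem hk⟩
    have h1 : M.comap α.toMonoidHom = M := hb.eq_of_not_mc hP
      ((index_comap_of_surjective (f := α.toMonoidHom) M α.surjective).trans hM) hM (fun h => hMm (mc_of_surjective h
        (α.toMonoidHom.subgroupComap M) (α.toMonoidHom.subgroupComap_surjective_of_surjective M α.surjective))) hMm
    refine ⟨ha, conj_mem' hk ha, ?_⟩
    rw [← h1, mem_comap, h1]
    exact iff_of_eq (congrArg (· ∈ M) (Subtype.ext (show k⁻¹ * a * k⁻¹⁻¹ = k⁻¹ * a * k by rw [inv_inv])))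
  have hfoc : (P : Subgroup G).focalSubgroup ≤ M.map (P : Subgroup G).subtype := by
    rw [CL.Transfer.focalSubgroup_le_iff]
    intro a ha g hg
    obtain ⟨c, hc, t, ht, k, hk, e⟩ := ag_fusion P {a} (Set.singleton_subset_iff.2 ha) g⁻¹ (by
      rw [Set.image_singleton, inv_inv]; exact Set.singleton_subset_iff.2 hg)
    obtain ⟨_, h2, h3⟩ := hchain _ _ hk a rfl ha
    obtain ⟨_, h5, h6⟩ := hnorm t ht _ h2
    have e1 : g * a * g⁻¹ = t⁻¹ * (k⁻¹ * a * k) * t := by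
      rw [← inv_inv g, e, inv_inv]
      calc _ = t⁻¹ * (k⁻¹ * (c⁻¹ * (a * c)) * k) * t := by group
        _ = _ := by rw [hc a rfl]; group
    refine ⟨⟨a, ha⟩⁻¹ * ⟨_, h5⟩, ?_, by simp [e1]⟩
    rw [SetLike.mem_coe, mul_mem_iff_of_index_two hM, inv_mem_iff]
    exact h3.trans h6
  rw [← CL.Transfer.commutator_inf_eq_focal_of_hall _ P.card_coprime_index, hG, top_inf_eq,
    ← subgroupOf_eq_top, subgroupOf, comap_map_eq_self_of_injective (subtype_injective _)] at hfoc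
  simp [hfoc] at hM

end CL.Inv
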