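/-
Groups all of whose proper subgroups have average character degree at most two.
-/
import Cfsg.Agent.Inv.CorAcd1
import Cfsg.Agent.Even.NGrp.Tri
import Cfsg.Agent.Inv.SL2Cover
import Cfsg.Agent.Cls.SL2Octa
import Cfsg.Agent.Cls.SL2Sylow2
import Cfsg.Agent.Odd.Lift
import Cfsg.Agent.Fgs.ClassCount
import Cfsg.Agent.S2086
import Cfsg.Statements.S4753

set_option autoImplicit false

universe u

namespace CL.InvA.Acd

open Cfsg CL.Char CL.Grp CL.NGrp CL.SL2 Subgroup Function Equiv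
open scoped MatrixGroups

variable {G : Type*} [Group G] [Finite G]

/-- No proper subgroup is bad. -/
def P (G : Type*) [Group G] [Finite G] : Prop := ∀ H : Subgroup G, H ≠ ⊤ → ¬ Bad H

theorem P.solv (h : P G) {H : Subgroup G} (hH : H ≠ ⊤) : Group.IsSolvable H := by_contra fun e => by
  obtain ⟨K, hK⟩ := exists_bad H e
  exact h (K.map H.subtype) (ne_top_of_le_ne_top hH (map_subtype_le K))
    (hK.of_surj (K.equivMapOfInjective _ H.subtype_injective).symm.toMonoidHom (MulEquiv.surjective _))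

theorem P.quot {Q : Type*} [Group Q] [Finite Q] (h : P G) (f : G →* Q) (hf : Surjective f) : P Q := fun K hK e =>
  h _ (fun e' => hK (comap_injective hf (e'.trans (comap_top f).symm))) (e.of_surj _ (f.subgroupComap_surjective_of_surjective K hf))

theorem P.equiv {Q : Type*} [Group Q] [Finite Q] (h : P G) (e : G ≃* Q) : P Q := h.quot e.toMonoidHom e.surjective

theorem P.perfect (h : P G) (hG : ¬ Group.IsSolvable G) : Group.IsPerfect G := ⟨by_contra fun e => hG (by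
  have := h.solv e
  have := Group.isSolvable_of_comm (Normal.quotient_commutative_iff_commutator_le.2 (le_refl (commutator G))).1.1
  exact Group.isSolvable_of_ker_le_range (commutator G).subtype (QuotientGroup.mk' (commutator G)) (by simp))⟩

theorem P.not_bad (h : P G) (hG : ¬ Group.IsSolvable G) {H : Subgroup G} (hH : Group.IsSolvable H) : ¬ Bad H :=
  h H (by rintro rfl; exact hG (solv_of_equiv topEquiv.symm hH))

theorem P.frob (h : P G) (hG : ¬ Group.IsSolvable G) {W : Subgroup G} [IsMulCommutative W] {c : G}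
    (hc : c ∈ normalizer (W : Set G)) (hW : W ≠ ⊥) (hF : ∀ g ∈ zpowers c, ∀ w ∈ W, w ≠ 1 → g * w = w * g → g = 1) :
    ∃ m ≠ 0, m * orderOf c + 1 = Nat.card W ∧ m * (orderOf c - 2) ≤ orderOf c := by
  obtain ⟨m, h1, h2, h3, -⟩ := frob_amb hc hW hF
  exact ⟨m, h1, h2, h3 (h.not_bad hG (solv_sup_of_le_normalizer (Group.isSolvable_of_comm mul_comm') (solv_zpowers c) (zpowers_le.2 hc)))⟩

section Simple

variable {F : Type*} [Field F] [Fintype F]

theorem not_solv_psl (hq : 4 ≤ Fintype.card F) : ¬ Group.IsSolvable PSL(2, F) :=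
  let ⟨⟨_, _, _, h, _⟩, _⟩ := triData_psl hq; h.not_isSolvable'

theorem not_P_psl (ho : Odd (Fintype.card F)) (hq : 11 ≤ Fintype.card F) : ¬ P PSL(2, F) := fun h => by
  classical
  obtain ⟨p, hp, _, h2⟩ := CL.Inv.exists_odd_charP ho
  have := Fact.mk hp
  obtain ⟨l, hl⟩ := IsCyclic.exists_ofOrder_eq_natCard (α := Fˣ)
  obtain ⟨n, hn⟩ := ho
  have h3 : orderOf ((CL.GL2.diagSL l : SL(2, F)) : PSL(2, F)) = n := orderOf_psl_mk_of_even (Ring.two_ne_zero (by
    rintro e; rw [ringChar.eq F p] at e; simp [e] at h2)) (by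
    rw [orderOf_injective _ diagSL_injective, hl, Nat.card_units, Nat.card_eq_fintype_card, hn, Nat.add_sub_cancel])
  have h4 : ∀ g ∈ zpowers ((CL.GL2.diagSL l : SL(2, F)) : PSL(2, F)), g • (pinf : P1 F) = pinf ∧ g • (pt 0 : P1 F) = pt 0 := by
    rintro _ ⟨i, rfl⟩
    simp only [← QuotientGroup.mk_zpow, ← map_zpow, psl_mk_smul, diagSL_smul_pinf, diagSL_smul_pt_zero, and_self]
  have := (uhyp_psl (F := F) p).isMulCommutative_Q pinf
  obtain ⟨m, h5, h6, h7⟩ := h.frob (not_solv_psl (by omega)) (W := (uhyp_psl p).Q pinf)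
    (((uhyp_psl p).normalizer_Q (Q_psl_ne_bot p _)).ge (h4 _ (mem_zpowers _)).1) (Q_psl_ne_bot p _) fun g hg w hw hw1 e =>
      (map_eq_one_iff _ Matrix.ProjectiveSpecialLinearGroup.toPGL_injective).1 (pgl_eq_one_of_fix_three (z := w • pt 0) (pt_ne_pinf 0).symm
        (fun e' => pt_ne_pinf 0 (smul_left_cancel w (e'.symm.trans hw.1.symm)))
        (fun e' => pt_ne_pinf 0 ((uhyp_psl p).eq_of_fix hw1 hw.2 e'.symm hw.1)) (psl_smul g _ ▸ (h4 g hg).1) (psl_smul g _ ▸ (h4 g hg).2)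
        (by rw [← psl_smul, ← mul_smul, e, mul_smul, (h4 g hg).2]))
  rw [h3] at h6 h7
  rw [card_Q_psl, Nat.card_eq_fintype_card, hn, add_left_inj, mul_left_inj' (by omega)] at h6
  subst h6
  omega

/-- An element of order three normalizing a subgroup of order thirteen. -/
def c33 : SL(3, ZMod 3) := ⟨!![0, 0, 2; 2, 1, 2; 0, 1, 2], by decide⟩

theorem not_P_SL33 : ¬ P SL(3, ZMod 3) := fun h => by
  classical
  have h1 : orderOf c33 = 3 := orderOf_eq_prime (by decide +kernel) (by decide +kernel)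
  obtain ⟨m, -, h2, h3⟩ := h.frob (let ⟨⟨_, _, _, h, _⟩, _⟩ := triData_SL33; h.not_isSolvable') (W := zpowers (l33a * l33b)) (c := c33)
    (mem_normalizer_zpowers ⟨3, by rw [eq_mul_inv_iff_mul_eq]; decide +kernel⟩) (zpowers_ne_bot.2 (by decide +kernel)) (by
      simp only [mem_zpowers_iff_mem_range_orderOf, h1, orderOf_l33ab, Finset.forall_mem_image]
      decide +kernel)
  rw [h1, Nat.card_zpowers, orderOf_l33ab] at *
  omega

theorem not_P_sz {m : ℕ} (hm : 1 ≤ m) (hG : IsSz G m) : ¬ P G := fun h => by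
  obtain ⟨F, _, _, hq, ⟨M⟩⟩ := hG.exists_model hm
  obtain ⟨z, -, hz, -, h1, -⟩ := M.exists_tori hm hq
  obtain ⟨t, ht, h4⟩ := hz.exists_orderOf_four hm hq
  have hC := hz.isTorus hm hq
  have : IsMulCommutative (centralizer {z} : Subgroup G) := ⟨⟨fun a b => Subtype.ext (hC.comm a.2 b.2)⟩⟩
  have h5 := CL.Chev.Sz.eight_le_pow hm
  obtain ⟨k, -, h2, h3⟩ := h.frob (let ⟨⟨_, _, _, h, _⟩, _⟩ := triData_sz M; h.not_isSolvable') ht (fun e => by simp [e] at h1)
    fun g hg w hw hw1 e => hC.eq_one_of_pow_four (by_contra fun e' => hw1 (M.torus_eq_one_of_comm hm hq hC e' hw e))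
      (orderOf_dvd_iff_pow_eq_one.1 (h4 ▸ orderOf_dvd_of_mem_zpowers hg))
  rw [h4, h1] at *
  have := Nat.two_pow_pos (m + 1)
  omega

theorem bad_48 (f : G →* Perm (Fin 4)) (hf : Surjective f) (hk : Nat.card f.ker = 2) (hc : f.ker ≤ commutator G) : Bad G := by
  by_contra h
  have h1 := card_le h
  have h2 : (commutator G).index ≤ 2 := by
    rw [← comap_map_eq_self hc, index_comap_of_surjective _ hf, map_commutator_eq, MonoidHom.range_eq_top.2 hf, ← alternatingGroup.index_eq_two (α := Fin 4)]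
    refine Nat.le_of_dvd (by simp) (index_dvd_of_le fun g hg => ?_)
    obtain ⟨a, b, rfl⟩ := (by decide +kernel : ∀ g : Perm (Fin 4), Perm.sign g = 1 → ∃ a b, g = a * b * a⁻¹ * b⁻¹) g hg
    exact commutator_mem_commutator (mem_top a) (mem_top b)
  have h3 := (CL.Fgs.card_conjClasses_le_mul f.ker).trans (Nat.mul_le_mul (CL.Fgs.card_conjClasses_le_card _)
    (Nat.card_le_card_of_surjective _ (ConjClasses.map_surjective (f := (QuotientGroup.quotientKerEquivOfSurjective f hf).symm.toMonoidHom)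
      (MulEquiv.surjective _))))
  rw [Nat.card_eq_fintype_card (α := ConjClasses (Perm _)),
    (by decide +kernel : Fintype.card (ConjClasses (Perm (Fin 4))) = 5), hk, ← card_irr_eq_card_conjClasses] at h3
  rw [← f.ker.index_mul_card, hk, index_ker, MonoidHom.range_eq_top.2 hf, card_top, Nat.card_perm] at h1
  have := Nat.pow_le_pow_left h2 2
  simp only [Nat.card_eq_fintype_card (α := Fin 4), Fintype.card_fin, Nat.factorial] at h1
  omega

instance fact7 : Fact (Nat.Prime 7) := ⟨by norm_num⟩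

theorem not_P_SL27 : ¬ P SL(2, ZMod 7) := fun h => by
  obtain ⟨ψ, hψ⟩ := exists_perm_four (F := ZMod 7) (by decide) ⟨3, by decide⟩
  let π := QuotientGroup.mk' (center SL(2, ZMod 7))
  let f := (MonoidHom.ofInjective hψ).symm.toMonoidHom.comp (π.subgroupComap ψ.range)
  have hf : Surjective f := (MonoidHom.ofInjective hψ).symm.surjective.comp
    (π.subgroupComap_surjective_of_surjective _ (QuotientGroup.mk'_surjective _))
  have h1 : f.ker = (center _).subgroupOf _ := Subgroup.ext fun x =>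
    (map_eq_one_iff _ (MonoidHom.ofInjective hψ).symm.injective).trans (Subtype.ext_iff.trans (QuotientGroup.eq_one_iff x.1))
  refine h _ (fun e => ?_) (bad_48 f hf ?_ fun x hx => ?_)
  · have h2 := card_psl_mul (F := ZMod 7)
    rw [← card_top, ← comap_injective (QuotientGroup.mk'_surjective _) (e.trans (comap_top π).symm),
      ← Nat.card_congr (MonoidHom.ofInjective hψ).toEquiv, Nat.card_perm] at h2
    simp [Nat.factorial] at h2
  · rw [h1, Nat.card_congr (subgroupOfEquivOfLe ((QuotientGroup.ker_mk' _).ge.trans (ker_le_comap π _))).toEquiv,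
      CL.Inv.card_center_SL2_odd (by simp; decide)]
  obtain ⟨a, ha⟩ := hf (swap 0 1 * swap 2 3)
  obtain ⟨b, hb⟩ := hf (swap 0 1 * swap 1 2)
  obtain ⟨t, ht⟩ := exists_prime_orderOf_dvd_card' (G := commutator (ψ.range.comap π)) 2 ((show 2 ∣ _ from by
    rw [map_commutatorElement, ha, hb, orderOf_eq_prime (p := 2) (by decide) (by decide)]).trans ((orderOf_map_dvd f _).trans
      (orderOf_dvd_natCard _ (commutator_mem_commutator (mem_top a) (mem_top b)))))
  have h2 := (sl_eq_of_mul_self (by decide) (show t.1.1 * t.1.1 = 1 from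
    congrArg (·.1.1) ((sq t).symm.trans (orderOf_dvd_iff_pow_eq_one.1 ht.dvd)))).resolve_left fun e => by
      simp [show t = 1 from Subtype.ext (Subtype.ext e)] at ht
  rcases sl_mem_center_iff.1 (mem_subgroupOf.1 (h1 ▸ hx)) with e | e
  · exact (show x = 1 from Subtype.ext e) ▸ one_mem _
  · exact (show x = t from Subtype.ext (e.trans h2.symm)) ▸ t.2

theorem card_ker_dvd [Group.IsPerfect G] (h5 : 5 ≤ Fintype.card F) (h9 : Fintype.card F ≠ 9) {ρ : G →* PSL(2, F)} (hρ : Surjective ρ)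
    (hc : ρ.ker ≤ center G) : Nat.card ρ.ker ∣ Nat.gcd 2 (Fintype.card F - 1) :=
  (CL.Schur.HasSM.card_ker_dvd (Cfsg.Agent.S2086.result (F := F) rfl 2 le_rfl (by omega) (by simp; omega)) ρ
    ⟨hρ, hc, fun _ _ => Group.IsPerfect.mem_commutator⟩).trans (Nat.card_zmod _).dvd

theorem equiv_SL2 [Group.IsPerfect G] (ho : Odd (Fintype.card F)) {ρ : G →* PSL(2, F)} (hρ : Surjective ρ) (h : Nat.card ρ.ker = 2) :
    Nonempty (G ≃* SL(2, F)) := CL.Inv.nonempty_equiv_SL2_of_cover ho ρ hρ h fun H hH => by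
  have := normal_of_index_eq_two hH
  have := isCyclic_of_prime_card (α := G ⧸ H) hH
  have h1 := Normal.quotient_commutative_iff_commutator_le.1 (IsCyclic.isMulCommutative (α := G ⧸ H))
  simp [top_unique (Group.IsPerfect.commutator_eq_top.ge.trans h1)] at hH

theorem ker_seven [Group.IsPerfect G] (h : P G) {ρ : G →* PSL(2, ZMod 7)} (hρ : Surjective ρ) (hc : ρ.ker ≤ center G) : ρ.ker = ⊥ :=
  card_eq_one.1 (((Nat.dvd_prime Nat.prime_two).1 ((card_ker_dvd (by simp) (by simp) hρ hc).trans (Nat.gcd_dvd_left _ _))).resolve_right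
    fun e => (equiv_SL2 (by simp; decide) hρ e).elim fun e => not_P_SL27 (h.equiv e))

theorem ker_two [Group.IsPerfect G] {p : ℕ} (hp : 2 ≤ p) (hF : Fintype.card F = 2 ^ p) {ρ : G →* PSL(2, F)} (hρ : Surjective ρ)
    (hc : ρ.ker ≤ center G) : ρ.ker = ⊥ ∨ Nat.card ρ.ker = 2 ∧ Nonempty (G ≃* SL(2, ZMod 5)) := by
  rcases hp.eq_or_lt with rfl | hp
  · have := Fact.mk Nat.prime_five
    obtain ⟨a⟩ := CL.Cls.nonempty_PSL2_four hF
    obtain ⟨b⟩ := CL.Cls.nonempty_PSL2_five (F := ZMod 5) (by simp)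
    have h1 := (a.trans b.symm).surjective.comp hρ
    have h2 := MonoidHom.ker_mulEquiv_comp ρ (a.trans b.symm)
    exact ((Nat.dvd_prime Nat.prime_two).1 ((card_ker_dvd (by simp) (by simp) (ρ := .comp _ ρ) h1 (h2 ▸ hc)).trans (Nat.gcd_dvd_left _ _))).imp
      (fun e => card_eq_one.1 (h2 ▸ e)) fun e => ⟨h2 ▸ e, equiv_SL2 (by simp; decide) (ρ := .comp _ ρ) h1 e⟩
  · have h1 := Nat.pow_le_pow_right two_pos hp
    have h2 : 2 ∣ Fintype.card F := hF ▸ dvd_pow_self 2 (by omega)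
    exact .inl (card_eq_one.1 (Nat.dvd_one.1 ((card_ker_dvd (by omega) (by omega) hρ hc).trans
      (Nat.Coprime.gcd_eq_one (Nat.prime_two.coprime_iff_not_dvd.2 (by omega))).dvd)))

end Simple

section Module

variable {L : Type*} [Group L] {π : G →* L} {V : Subgroup G} [V.Normal] [IsMulCommutative V]

theorem exists_sec (hπ : Surjective π) (D : Subgroup L) (h : (Nat.card π.ker).Coprime (Nat.card D)) :
    ∃ s : D →* G, (∀ d, π (s d) = d) ∧ ∀ d, orderOf (s d) = orderOf d.1 := by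
  obtain ⟨s, hs⟩ := CL.Odd.exists_section_of_coprime _ (π.subgroupComap_surjective_of_surjective D hπ) (by
    rwa [show (π.subgroupComap D).ker = π.ker.subgroupOf _ from Subgroup.ext fun _ => Subtype.ext_iff,
      Nat.card_congr (subgroupOfEquivOfLe (ker_le_comap π D)).toEquiv])
  have h1 : ∀ d, π (s d) = d := fun d => congrArg Subtype.val (hs d)
  exact ⟨(D.comap π).subtype.comp s, h1, fun d => (orderOf_injective ((D.comap π).subtype.comp s)
    (fun a b e => Subtype.ext ((h1 a).symm.trans ((congrArg π e).trans (h1 b)))) d).trans (orderOf_coe d).symm⟩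

omit [Finite G] [V.Normal] in
theorem isMulCommutative_of_le {W : Subgroup G} (h : W ≤ V) : IsMulCommutative W :=
  ⟨⟨fun a b => Subtype.ext (setLike_mul_comm (h a.2) (h b.2))⟩⟩

omit [Finite G] [V.Normal] [IsMulCommutative V] in
theorem comm_ne_bot (hC : centralizer V ≤ π.ker) {c : G} (hc : π c ≠ 1) : ⁅V, zpowers c⁆ ≠ ⊥ := fun e =>
  hc (hC (le_centralizer_iff.1 (commutator_eq_bot_iff_le_centralizer.1 e) (mem_zpowers c)))

theorem P.cyc (h : P G) (hG : ¬ Group.IsSolvable G) (hπ : Surjective π) (hV : V ≤ π.ker) (hC : centralizer V ≤ π.ker) {r : ℕ}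
    (hr : r.Prime) (hr' : IsPGroup r V) {x : L} {s k : ℕ} (hs : s.Prime) (hx : orderOf x = s ^ (k + 1)) (hco : s.Coprime (Nat.card π.ker)) :
    ∃ a m, m ≠ 0 ∧ m * s ^ (k + 1) + 1 = r ^ a ∧ m * (s ^ (k + 1) - 2) ≤ s ^ (k + 1) := by
  obtain ⟨σ, h1, h2⟩ := exists_sec hπ (zpowers x) (by rw [Nat.card_zpowers, hx]; exact hco.symm.pow_right _)
  have h3 := (h2 ⟨x, mem_zpowers x⟩).trans hx
  have := Fact.mk hr
  have h4 := commutator_le_left V (zpowers (σ ⟨x, mem_zpowers x⟩ ^ s ^ k))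
  have := isMulCommutative_of_le h4
  obtain ⟨m, h5, h6, h7⟩ := h.frob hG (le_normalizer_commutator' le_normalizer_of_normal (le_normalizer_of_isMulCommutative
    (zpowers_le.2 (npow_mem_zpowers _ _))) (mem_zpowers _)) (comm_ne_bot hC (by
      rw [map_pow, h1, Ne, ← orderOf_dvd_iff_pow_eq_one, hx, Nat.pow_dvd_pow_iff_le_right hs.one_lt]; omega))
    (frob_module hs h3 (hco.coprime_dvd_right (card_dvd_of_le hV)))
  obtain ⟨a, ha⟩ := IsPGroup.iff_card.1 (hr'.to_le h4)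
  exact ⟨a, m, h5, h3 ▸ h6.trans ha, h3 ▸ h7⟩

/-- An element of order seven. -/
def c27 : SL(2, ZMod 7) := ⟨!![1, 1; 0, 1], by decide⟩

/-- An element of order three normalizing it. -/
def t27 : SL(2, ZMod 7) := ⟨!![4, 0; 0, 2], by decide⟩

theorem P.seven (h : P G) (hG : ¬ Group.IsSolvable G) {π : G →* PSL(2, ZMod 7)} (hπ : Surjective π) (hV : V = π.ker)
    (hC : centralizer V ≤ π.ker) (hr : IsPGroup 2 V) : False := by
  have h1 : orderOf (c27 : PSL(2, ZMod 7)) = 7 := (orderOf_psl_mk_of_odd (by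
    rw [orderOf_eq_prime (p := 7) (by decide +kernel) (by decide +kernel)]; decide)).trans (orderOf_eq_prime (by decide +kernel) (by decide +kernel))
  have h2 : (t27 : PSL(2, ZMod 7)) ^ 3 = 1 := congrArg QuotientGroup.mk (by decide +kernel : t27 ^ 3 = 1)
  have h3 : (t27 : PSL(2, ZMod 7)) * c27 * (t27 : PSL(2, ZMod 7))⁻¹ = c27 ^ 2 :=
    congrArg QuotientGroup.mk (mul_inv_eq_iff_eq_mul.2 (by decide +kernel) : t27 * c27 * t27⁻¹ = c27 ^ 2)
  obtain ⟨a, ha⟩ := IsPGroup.iff_card.1 hr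
  obtain ⟨σ, h4, h5⟩ := exists_sec hπ (zpowers ↑t27 ⊔ zpowers ↑c27) (by
    rw [← hV, ha]
    refine .pow_left _ (.coprime_dvd_right ((card_sup_dvd (zpowers_le.2 (mem_normalizer_zpowers (h3 ▸ npow_mem_zpowers _ _)))).trans
      (mul_dvd_mul ((Nat.card_zpowers _).dvd.trans (orderOf_dvd_of_pow_eq_one h2)) ((Nat.card_zpowers _).trans h1).dvd)) (by norm_num)))
  set c := σ ⟨_, mem_sup_right (mem_zpowers _)⟩
  set t := σ ⟨_, mem_sup_left (mem_zpowers _)⟩
  have h6 : orderOf c = 7 := (h5 _).trans h1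
  have h7 : t * c * t⁻¹ = c ^ 2 := by rw [← map_inv, ← map_mul, ← map_mul, ← map_pow]; exact congrArg σ (Subtype.ext h3)
  have h8 := mem_normalizer_zpowers (h7 ▸ npow_mem_zpowers c 2)
  have h9 : (Nat.card (zpowers c)).Coprime (Nat.card V) := by rw [Nat.card_zpowers, h6, ha]; exact .pow_right _ (by norm_num)
  have := isMulCommutative_of_le (commutator_le_left V (zpowers c))
  have h10 := le_normalizer_commutator' (H := V) le_normalizer_of_normal (le_normalizer (H := zpowers c))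
  have h11 := le_normalizer_commutator' (H := V) le_normalizer_of_normal (zpowers_le.2 h8)
  refine h.not_bad hG ?_ (bad_seven (h10 (mem_zpowers c)) (comm_ne_bot hC (by rw [h4]; exact fun e => absurd (h1.symm.trans (orderOf_eq_one_iff.2 e)) (by decide)))
    (by simpa using frob_module (V := V) (k := 0) fact7.out h6 (by rwa [Nat.card_zpowers, h6] at h9)) h6 (h11 (mem_zpowers t)) h8 h7
    (by rw [← map_pow, ← σ.map_one]; exact congrArg σ (Subtype.ext h2)) (commutator_commutator_eq' le_normalizer_of_normal h9).ge)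
  rw [sup_comm]
  exact solv_sup_of_le_normalizer (solv_sup_of_le_normalizer (Group.isSolvable_of_comm mul_comm') (solv_zpowers c) h10) (solv_zpowers t)
    (le_normalizer_sup' h11 (zpowers_le.2 h8))

end Module

theorem le_two_of_dvd {a p : ℕ} (h : 2 ^ a - 1 ∣ 2 ^ p + 1) : a ≤ 2 := by
  by_contra! ha
  have h1 : 2 ^ p ≡ 2 ^ (p % a) [MOD 2 ^ a - 1] := by
    conv_lhs => rw [← Nat.div_add_mod p a, pow_add, pow_mul]
    simpa using (((Nat.modEq_iff_dvd' Nat.one_le_two_pow).2 dvd_rfl).symm.pow (p / a)).mul_right (2 ^ (p % a))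
  have h2 := Nat.le_of_dvd (by positivity) ((Nat.modEq_zero_iff_dvd).1 ((h1.add_right 1).symm.trans (Nat.modEq_zero_iff_dvd.2 h)))
  obtain ⟨b, rfl⟩ := Nat.exists_eq_add_of_lt ha
  have h3 := Nat.pow_le_pow_right two_pos (Nat.le_of_lt_add_one (Nat.mod_lt p (by omega : 0 < 2 + b + 1)))
  have h4 := Nat.pow_le_pow_right two_pos (by omega : 2 ≤ 2 + b)
  rw [pow_succ] at h2
  omega

theorem arith_two {p r : ℕ} (hp : 2 ≤ p) (hr : r.Prime) : ∃ s k, s.Prime ∧ s ≠ 2 ∧ s ≠ r ∧ (s ^ (k + 1) ∣ 2 ^ p + 1 ∨ s ^ (k + 1) ∣ 2 ^ p - 1) ∧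
    ∀ a m, m ≠ 0 → m * s ^ (k + 1) + 1 = r ^ a → ¬ m * (s ^ (k + 1) - 2) ≤ s ^ (k + 1) := by
  have h0 := Nat.pow_le_pow_right two_pos hp
  have h1 : 2 ∣ 2 ^ p := dvd_pow_self 2 (by omega)
  have h2 : ∀ {n m a : ℕ}, 5 ≤ n → ¬ 2 ∣ n → m ≠ 0 → m * n + 1 = r ^ a → m * (n - 2) ≤ n → r = 2 ∧ n = 2 ^ a - 1 := fun {n m a} h5 h3 hm e h => by
    obtain rfl : m = 1 := by_contra fun e => by have := Nat.mul_le_mul_right (n - 2) (by omega : 2 ≤ m); omega
    obtain rfl := (Nat.prime_dvd_prime_iff_eq Nat.prime_two hr).1 (Nat.prime_two.dvd_of_dvd_pow (e ▸ by omega : 2 ∣ r ^ a))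
    exact ⟨rfl, by omega⟩
  obtain ⟨s, k, hs, h3, h4⟩ : ∃ s k, s.Prime ∧ s ^ (k + 1) ∣ 2 ^ p + 1 ∧ 5 ≤ s ^ (k + 1) := by
    by_contra! h
    have h3 := Nat.eq_prime_pow_of_unique_prime_dvd (n := 2 ^ p + 1) (p := 3) (by omega) fun {s} hs hd => by
      have := h s 0 hs (by simpa using hd)
      have := hs.two_le
      simp only [zero_add, pow_one] at *
      interval_cases s <;> first | rfl | omega | exact absurd hs (by decide)
    obtain ⟨j, hj⟩ := Nat.exists_eq_succ_of_ne_zero (n := (2 ^ p + 1).primeFactorsList.length) fun e => by simp [e] at h3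
    have := h 3 j Nat.prime_three (by rw [h3, hj])
    rw [hj] at h3; omega
  have h5 : s ≠ 2 := by rintro rfl; have := (dvd_pow_self 2 k.succ_ne_zero).trans h3; omega
  by_cases h6 : s = r
  · obtain ⟨s', hs', h7⟩ := Nat.exists_prime_and_dvd (n := 2 ^ p - 1) (by omega)
    have h8 := (dvd_pow_self s k.succ_ne_zero).trans h3
    have h9 : s' ≠ 2 := by rintro rfl; omega
    subst h6
    refine ⟨s', 0, hs', h9, fun e => h5 ((Nat.prime_dvd_prime_iff_eq hs Nat.prime_two).1 ?_), .inr (by simpa using h7), fun a m hm e h => ?_⟩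
    · exact (Nat.dvd_sub h8 (e ▸ h7)).trans (dvd_of_eq (by omega))
    rw [zero_add, pow_one] at e h
    rcases lt_or_ge s' 5 with h10 | h10
    · have := hs'.two_le
      obtain rfl : s' = 3 := by interval_cases s' <;> first | rfl | omega | exact absurd hs' (by decide)
      have h11 : ¬ 2 ∣ s ^ a := fun e => h5 ((Nat.prime_dvd_prime_iff_eq Nat.prime_two hs).1 (Nat.prime_two.dvd_of_dvd_pow e)).symm
      obtain rfl := (Nat.prime_dvd_prime_iff_eq fact7.out hs).1 (fact7.out.dvd_of_dvd_pow (by omega : 7 ∣ s ^ a))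
      exact absurd (le_two_of_dvd (a := 3) h8) (by decide)
    · exact h5 (h2 h10 (fun e => h9 ((Nat.prime_dvd_prime_iff_eq Nat.prime_two hs').1 e).symm) hm e h).1
  · refine ⟨s, k, hs, h5, h6, .inl h3, fun a m hm e h => ?_⟩
    obtain ⟨-, h7⟩ := h2 h4 (fun e => by have := e.trans h3; omega) hm e h
    have := Nat.pow_le_pow_right two_pos (le_two_of_dvd (h7 ▸ h3))
    omega

/-- Central extensions of `L₂(2^p)` and `L₂(7)`. -/
def Cent (G : Type*) [Group G] : Prop := ∃ (F : Type) (_ : Field F) (_ : Fintype F) (ρ : G →* PSL(2, F)), Surjective ρ ∧ ρ.ker ≤ center G ∧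
  ((∃ p, p.Prime ∧ Fintype.card F = 2 ^ p) ∨ Fintype.card F = 7)

omit [Finite G] in
theorem Cent.cases (h : Cent G) : (∃ (F : Type) (_ : Field F) (_ : Fintype F) (ρ : G →* PSL(2, F)), Surjective ρ ∧ ρ.ker ≤ center G ∧
    ∃ p, p.Prime ∧ Fintype.card F = 2 ^ p) ∨ ∃ ρ : G →* PSL(2, ZMod 7), Surjective ρ ∧ ρ.ker ≤ center G := by
  obtain ⟨F, _, _, ρ, h1, h2, h3 | h3⟩ := h
  · exact .inl ⟨F, _, _, ρ, h1, h2, h3⟩
  · obtain ⟨e⟩ := CL.SLn.nonempty_psl_equiv_of_card_eq (ι := Fin 2) (K := F) (L := ZMod 7) (by simp [h3])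
    exact .inr ⟨.comp e ρ, e.surjective.comp h1, (MonoidHom.ker_mulEquiv_comp ρ e).le.trans h2⟩

theorem P.cent_simple (hM : MinSimpleThm.{u}) {G : Type u} [Group G] [Finite G] (h : P G) (hG : ¬ Group.IsSolvable G) (hs : IsSimpleGroup G) :
    Cent G := by
  have h1 : ∀ {q}, IsL2 G q → ((∃ p, p.Prime ∧ q = 2 ^ p) ∨ q = 7) → Cent G := by
    rintro _ ⟨F, _, _, rfl, ⟨e⟩⟩ h
    exact ⟨F, _, _, e, e.surjective, (e.toMonoidHom.ker_eq_bot_iff.2 e.injective).le.trans bot_le, h⟩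
  have h2 : ∀ {q}, IsL2 G q → Odd q → ¬ 11 ≤ q := by
    rintro _ ⟨F, _, _, rfl, ⟨e⟩⟩ ho hq
    exact not_P_psl ho hq (h.equiv e)
  rcases hM G ⟨hs, fun e => hG (Group.isSolvable_of_comm e.1.1), fun _ => h.solv⟩ with
    ⟨p, hp, h3⟩ | ⟨p, hp, h3, h4⟩ | ⟨p, hp, h3, h4, h5⟩ | h3 | ⟨m, hm, h3⟩
  · exact h1 h3 (.inl ⟨p, hp, rfl⟩)
  · exact (h2 h4 (Odd.pow (by decide)) (le_trans (by norm_num) (Nat.pow_le_pow_right three_pos (hp.two_le.lt_of_ne' h3)))).elim
  · have := h2 h5 (hp.odd_of_ne_two (by omega))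
    exact h1 h5 (.inr (by obtain ⟨k, hk⟩ := hp.odd_of_ne_two (by omega); omega))
  · exact h3.nonempty_equiv_three.elim fun e => (not_P_SL33 (h.equiv e)).elim
  · exact (not_P_sz (one_le_of_prime hm) h3 h).elim

theorem P.central (h : P G) (hG : ¬ Group.IsSolvable G) {V : Subgroup G} [V.Normal] (hV : IsMinNormal V) (hV' : V ≠ ⊤) (hc : Cent (G ⧸ V)) :
    V ≤ center G := by
  by_contra h0
  have := hV.isMulCommutative_of_isSolvable (h.solv hV')
  obtain ⟨r, hr, hr', -⟩ := hV.exists_isPGroup (h.solv hV')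
  have := Fact.mk hr
  obtain ⟨b, hb⟩ := IsPGroup.iff_card.1 hr'
  have := h.perfect hG
  have h1 := h.solv (H := centralizer V) fun e => h0 (centralizer_eq_top_iff_subset.1 e)
  have h2 : ∀ {F : Type} [Field F] [Fintype F] {ρ : G ⧸ V →* PSL(2, F)}, Surjective ρ → 4 ≤ Fintype.card F →
      Surjective (ρ.comp (QuotientGroup.mk' V)) ∧ V ≤ (ρ.comp (QuotientGroup.mk' V)).ker ∧ centralizer V ≤ (ρ.comp (QuotientGroup.mk' V)).ker ∧
        Nat.card (ρ.comp (QuotientGroup.mk' V)).ker = r ^ b * Nat.card ρ.ker := fun {F _ _ ρ} hρ hF => by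
    have h2 := hρ.comp (QuotientGroup.mk'_surjective V)
    have := CL.SLn.isSimpleGroup_PSL_fin (F := F) 2 le_rfl fun _ => hF
    exact ⟨h2, fun x hx => by simp [(QuotientGroup.eq_one_iff x).2 hx], (Subgroup.map_eq_bot_iff _).1 ((Normal.map inferInstance _ h2).eq_bot_or_eq_top.resolve_right
      fun e => not_solv_psl hF (solv_of_equiv topEquiv.symm (e ▸ solv_map _ h1))), (QuotientGroup.card_preimage_mk V (ρ.ker : Set (G ⧸ V))).trans (hb ▸ rfl)⟩
  rcases hc.cases with ⟨F, _, _, ρ, h3, h4, p, hp, hF⟩ | ⟨ρ, h3, h4⟩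
  · obtain ⟨h5, h6, h7, h8⟩ := h2 h3 (hF ▸ four_le_two_pow hp.two_le)
    obtain ⟨s, k, hs, h9, h10, h11, h12⟩ := arith_two hp.two_le hr
    have h13 : (2 : F) = 0 := by
      have := FiniteField.cast_card_eq_zero F
      rw [hF, Nat.cast_pow] at this
      exact_mod_cast pow_eq_zero_iff hp.ne_zero |>.1 this
    obtain ⟨x, hx⟩ : ∃ x : PSL(2, F), s ^ (k + 1) ∣ orderOf x := by
      rw [← hF] at h11
      rcases h11 with h11 | h11
      · obtain ⟨t, ht⟩ := exists_sl_orderOf_add_one (F := F); exact ⟨t, by rwa [orderOf_psl_mk_of_two_eq_zero h13, ht]⟩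
      · obtain ⟨t, ht⟩ := exists_sl_orderOf_sub_one (F := F); exact ⟨t, by rwa [orderOf_psl_mk_of_two_eq_zero h13, ht]⟩
    obtain ⟨a, m, h14, h15, h16⟩ := h.cyc hG h5 h6 h7 hr hr' hs (orderOf_pow_orderOf_div (orderOf_pos x).ne' hx) (by
      rw [h8]
      refine .mul_right (((Nat.coprime_primes hs hr).2 h10).pow_right _) ?_
      rcases ker_two hp.two_le hF h3 h4 with e | ⟨e, -⟩
      · simp [e]
      · rw [e]; exact (Nat.coprime_primes hs Nat.prime_two).2 h9)
    exact h12 a m h14 h15 h16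
  obtain ⟨h5, h6, h7, h8⟩ := h2 h3 (by simp)
  rw [ker_seven (h.quot _ (QuotientGroup.mk'_surjective V)) h3 h4, card_bot, mul_one] at h8
  by_cases h9 : r = 2
  · exact h.seven hG h5 (eq_of_le_of_card_ge h6 (h8.trans hb.symm).le) h7 (h9 ▸ hr')
  have h10 : ∀ a, ¬ 2 ∣ r ^ a := fun a e => h9 ((Nat.prime_dvd_prime_iff_eq Nat.prime_two hr).1 (Nat.prime_two.dvd_of_dvd_pow e)).symm
  by_cases h11 : r = 7
  · obtain ⟨t, ht⟩ := exists_sl_orderOf_add_one (F := ZMod 7)
    obtain ⟨a, m, h14, h15, h16⟩ := h.cyc hG h5 h6 h7 hr hr' (k := 1) Nat.prime_two (orderOf_psl_mk_of_even (by decide) (ht.trans (by simp)))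
      (h8 ▸ Nat.prime_two.coprime_iff_not_dvd.2 (h10 b))
    subst h11
    have := dvd_pow_self 7 (show a ≠ 0 by rintro rfl; omega)
    omega
  · obtain ⟨a, m, h14, h15, h16⟩ := h.cyc hG h5 h6 h7 hr hr' (k := 0) fact7.out (orderOf_upT 7)
      (h8 ▸ ((Nat.coprime_primes fact7.out hr).2 (Ne.symm h11)).pow_right _)
    have := h10 a
    omega

theorem P.cent (hM : MinSimpleThm.{u}) (G : Type u) [Group G] [Finite G] : P G → ¬ Group.IsSolvable G → Cent G := by
  refine induction_on_card (P := fun G _ _ => P G → ¬ Group.IsSolvable G → Cent G) (fun G _ _ ih h hG => ?_) G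
  have : Nontrivial G := not_subsingleton_iff_nontrivial.1 fun _ => hG inferInstance
  obtain ⟨V, hV⟩ := exists_isMinNormal G
  have := hV.normal
  by_cases h1 : V = ⊤
  · exact h.cent_simple hM hG ⟨fun N hN => or_iff_not_imp_left.2 fun e => (hV.eq_of_le e (h1 ▸ le_top)).trans h1⟩
  have h2 := ih (G ⧸ V) (card_quotient_lt hV.ne_bot) (h.quot _ (QuotientGroup.mk'_surjective V)) fun _ => hG (by
    have := h.solv h1
    exact Group.isSolvable_of_ker_le_range V.subtype (QuotientGroup.mk' V) (by simp))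
  have h3 := h.central hG hV h1 h2
  obtain ⟨F, _, _, ρ, h4, h5, h6⟩ := h2
  have := h.perfect hG
  refine ⟨F, _, _, ρ.comp (QuotientGroup.mk' V), h4.comp (QuotientGroup.mk'_surjective V), fun z hz => (QuotientGroup.eq_one_iff z).1
    (mem_bot.1 (Group.IsPerfect.center_quotient_center_eq_bot G ▸ mem_center_iff.2 fun g => ?_)), h6⟩
  obtain ⟨g, rfl⟩ := QuotientGroup.mk_surjective g
  exact QuotientGroup.eq.2 (h3 (QuotientGroup.eq.1 (mem_center_iff.1 (h5 hz) g)))

end CL.InvA.Acd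

namespace CL.InvA

open Acd

theorem s4753_of (hM : CL.NGrp.MinSimpleThm.{u}) : type_of% @Cfsg.CfsgFrozen.S4753.{u} := fun {G} _ _ hS => by
  refine or_iff_not_imp_left.2 fun hG => ?_
  have h : P G := fun H hH => not_bad_of_le (hS H hH)
  have := h.perfect hG
  rcases (h.cent hM G hG).cases with ⟨F, _, _, ρ, h3, h4, p, hp, hF⟩ | ⟨ρ, h3, h4⟩
  · exact .inr ((ker_two hp.two_le hF h3 h4).imp
      (fun e => ⟨F, _, _, p, hp, hF, ⟨.ofBijective ρ ⟨ρ.ker_eq_bot_iff.1 e, h3⟩⟩⟩) And.right)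
  · exact .inl ⟨.ofBijective ρ ⟨ρ.ker_eq_bot_iff.1 (ker_seven h h3 h4), h3⟩⟩

end CL.InvA
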