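/-
Generators of `L_2(19)`, `L_3(4)`, `L_4(3)`, `U_3(4)`.
Generated by tools/pg.
-/
import Cfsg.Agent.Inv.E7mPA0
import Cfsg.Agent.Spor.PGCtx
import Cfsg.Agent.Spor.StdL219
import Cfsg.Agent.Spor.StdL34
import Cfsg.Agent.Spor.StdL43
import Cfsg.Agent.Spor.StdU34

set_option autoImplicit false
set_option maxRecDepth 200000
set_option Elab.async false
set_option linter.unusedVariables false

namespace CL.E7m.PA.L219
open CL.PG

noncomputable def xa5 : Net := (.cons 10 (nat_lit 0xc1)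
 (.cons 5 (nat_lit 0x4c19)
 (.cons 1 (nat_lit 0x480)
 (.cons 1 (nat_lit 0x40940)
 (.cons 1 (nat_lit 0x294a4)
 (.cons 1 (nat_lit 0x1294a)
 (.cons 1 (nat_lit 0x214a1)
 (.cons 5 (nat_lit 0x18)
 (.cons 10 (nat_lit 0x33e)
 .nil)))))))))
noncomputable def xa6 : Net := (.cons 10 (nat_lit 0x256)
 (.cons 5 (nat_lit 0x6c19)
 (.cons 1 (nat_lit 0x28404)
 (.cons 1 (nat_lit 0x1080a)
 (.cons 1 (nat_lit 0x28484)
 (.cons 5 (nat_lit 0x1018)
 (.cons 10 (nat_lit 0xac)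
 .nil)))))))
noncomputable def xa7 : Net := (.cons 10 (nat_lit 0x38e)
 (.cons 5 (nat_lit 0x3004)
 (.cons 1 (nat_lit 0x40048)
 (.cons 1 (nat_lit 0x204a4)
 (.cons 1 (nat_lit 0x1094a)
 (.cons 1 (nat_lit 0x28004)
 (.cons 5 (nat_lit 0x6018)
 (.cons 10 (nat_lit 0x3fc)
 .nil))))))))
noncomputable def xa8 : Net := (.cons 10 (nat_lit 0x282)
 (.cons 5 (nat_lit 0x701c)
 (.cons 1 (nat_lit 0x400)
 (.cons 1 (nat_lit 0x52840)
 (.cons 1 (nat_lit 0x210a4)
 (.cons 1 (nat_lit 0x5284a)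
 (.cons 1 (nat_lit 0x204a4)
 (.cons 5 (nat_lit 0x280a)
 (.cons 10 (nat_lit 0x18c)
 .nil)))))))))
noncomputable def xa9 : Net := (.cons 10 (nat_lit 0x154)
 (.cons 5 (nat_lit 0x2816)
 (.cons 1 (nat_lit 0x40008)
 (.cons 1 (nat_lit 0x28024)
 (.cons 1 (nat_lit 0x10842)
 (.cons 1 (nat_lit 0x214a4)
 (.cons 5 (nat_lit 0x7816)
 (.cons 10 (nat_lit 0x3c0)
 .nil))))))))
noncomputable def xws : List (List ℕ) :=
  [W (nat_lit 0x9024090180a01401),
  W (nat_lit 0x240902409018070040a),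
  W (nat_lit 0x340b0380c),
  W (nat_lit 0xe02c0d0340c0340d0300d0300d),
  W (nat_lit 0x1004012)]
noncomputable def xns : List Net := [CL.Std.L219.a0, CL.Std.L219.a1, CL.Std.L219.a2, CL.Std.L219.a3, CL.Std.L219.a4, xa5, xa6, xa7, xa8, xa9]
noncomputable def xD : List (ℕ × List ℕ) := app CL.Std.L219.D (mkDefs xws 5)
noncomputable def xchk : List (List ℕ × List ℕ) → Bool := CL.Std.L219.P.relsB xns
noncomputable def xH_v0 : Lev :=
  ⟨0, 20, sg (W (nat_lit 0xd0340b0340b0340b)), [[14], [16]], 5, 2⟩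
noncomputable def xH_v1 : Lev :=
  ⟨1, 19, sg (W (nat_lit 0x1103c0f03c1103c0f0440f)), [[18]], 7, 1⟩
noncomputable def xH_v2 : Lev :=
  ⟨2, 9, sg (W (nat_lit 0x4c1304c1304c1304c13)), [], 8, 0⟩
noncomputable def xH_vs3 : List Lev :=
  []
noncomputable def xH_vs2 : List Lev :=
  xH_v2 :: xH_vs3
noncomputable def xH_vs1 : List Lev :=
  xH_v1 :: xH_vs2
noncomputable def xH_vs : List Lev :=
  xH_v0 :: xH_vs1

theorem xzc0 : CL.Std.L219.P.chainB xns xD xH_vs [[10], [12]] = true := by decide +kernel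
theorem xzo1 : movB CL.Std.L219.P.n CL.Std.L219.P.N xns [10, 12] 0 = true := by decide +kernel
theorem xzo2 : movB CL.Std.L219.P.n CL.Std.L219.P.N xns [12] 0 = true := by decide +kernel
theorem xzr3 : xchk (R255 10 12) = true := by decide +kernel
theorem xzm4 : leB xD [[10], [12]] [[0], [2]] = true := by decide +kernel
theorem xze5 : extB CL.Std.L219.ns xns 5 xws CL.Std.L219.D = true := by decide +kernel
theorem xzn6 : CL.Std.L219.P.netsB xns (mkDefs xws 5) = true := by decide +kernel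

section
variable {G X : Type*} [Group G] [MulAction G X] {e : ℕ → X} {gs : List G}

theorem xlen {k} (c : Ctx CL.Std.L219.P e gs CL.Std.L219.ns CL.Std.L219.D k) : gs.length = 5 := c.len xze5

theorem xctx0 {k} (c : Ctx CL.Std.L219.P e gs CL.Std.L219.ns CL.Std.L219.D k) : Ctx CL.Std.L219.P e (ext gs xws) xns xD chk0 :=
  c.ext rfl xze5 xzn6

theorem xctx {k} (c : Ctx CL.Std.L219.P e gs CL.Std.L219.ns CL.Std.L219.D k) {H : Subgroup G} (hF : Faithful e CL.Std.L219.P.n H) (hH : ∀ g ∈ gs, g ∈ H) :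
    Ctx CL.Std.L219.P e (ext gs xws) xns xD xchk :=
  (xctx0 c).withB hF (mem_of_mem_ext hH _)

theorem xH_c : CL.Std.L219.P.chainB xns xD xH_vs [[10], [12]] = true :=
  xzc0

theorem xH_o : prodL xH_vs 1 = 3420 := by decide +kernel

theorem xH_lb (c : Ctx CL.Std.L219.P e gs xns xD xchk) :
    LB (subW gs [[10], [12]]) 3420 :=
  c.lb xH_c xH_o

theorem xpre (c : Ctx CL.Std.L219.P e gs xns xD xchk) (ub : UB (subW gs [[0], [2]]) 3420) :
    T255 (subW gs [[0], [2]]) :=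
  t255_of ub (xH_lb c) (c.le xzm4) (c.rels _ xzr3) (c.ne_one xzo2) (c.ne_one xzo1)

theorem main : T255 (subW CL.Std.L219.gs1 [[0], [2]]) := by
  have := xpre (xctx CL.Std.L219.c1 (faithful_eF _) fun _ _ => trivial) (by
    rw [subW_ext (xlen CL.Std.L219.c1) _ (by decide +kernel)]; exact CL.Std.L219.ub)
  rwa [subW_ext (xlen CL.Std.L219.c1) _ (by decide +kernel)] at this

end
end CL.E7m.PA.L219

namespace CL.E7m.PA.L34
open CL.PG

noncomputable def xa11 : Net := (.cons 12 (nat_lit 0x5b2)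
 (.cons 6 (nat_lit 0x14034)
 (.cons 3 (nat_lit 0x2085)
 (.cons 1 (nat_lit 0x49)
 (.cons 1 (nat_lit 0x80092)
 (.cons 1 (nat_lit 0x1049)
 (.cons 3 (nat_lit 0x2000)
 (.cons 6 (nat_lit 0x14034)
 (.cons 12 (nat_lit 0x590)
 .nil)))))))))
noncomputable def xa12 : Net := (.cons 12 (nat_lit 0x592)
 (.cons 6 (nat_lit 0x14033)
 (.cons 3 (nat_lit 0x810c0)
 (.cons 1 (nat_lit 0x208)
 (.cons 1 (nat_lit 0x92490)
 (.cons 1 (nat_lit 0x49208)
 (.cons 3 (nat_lit 0x4)
 (.cons 6 (nat_lit 0x4012)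
 (.cons 12 (nat_lit 0x5e4)
 .nil)))))))))
noncomputable def xa13 : Net := (.cons 12 (nat_lit 0xffe)
 (.cons 6 (nat_lit 0xe004)
 (.cons 3 (nat_lit 0x1c0002)
 (.cons 1 (nat_lit 0x8008)
 (.cons 1 (nat_lit 0x412092)
 (.cons 1 (nat_lit 0x249048)
 (.cons 3 (nat_lit 0x104006)
 (.cons 6 (nat_lit 0x2e006)
 (.cons 12 (nat_lit 0xe00)
 .nil)))))))))
noncomputable def xa14 : Net := (.cons 12 (nat_lit 0x2ca)
 (.cons 6 (nat_lit 0x2b014)
 (.cons 3 (nat_lit 0x46006)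
 (.cons 1 (nat_lit 0x8040)
 (.cons 1 (nat_lit 0x90490)
 (.cons 1 (nat_lit 0x49048)
 (.cons 3 (nat_lit 0x104100)
 (.cons 6 (nat_lit 0x28030)
 (.cons 12 (nat_lit 0x34c)
 .nil)))))))))
noncomputable def xa15 : Net := (.cons 12 (nat_lit 0x7e0)
 (.cons 6 (nat_lit 0x33020)
 (.cons 3 (nat_lit 0x143104)
 (.cons 1 (nat_lit 0x48)
 (.cons 1 (nat_lit 0x400090)
 (.cons 1 (nat_lit 0x49040)
 (.cons 3 (nat_lit 0x80004)
 (.cons 6 (nat_lit 0x26020)
 (.cons 12 (nat_lit 0x600)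
 .nil)))))))))
noncomputable def xa16 : Net := (.cons 12 (nat_lit 0x200)
 (.cons 6 (nat_lit 0xc030)
 (.cons 3 (nat_lit 0x107100)
 (.cons 1 (nat_lit 0x200000)
 (.cons 1 (nat_lit 0x400010)
 (.cons 1 (nat_lit 0x240040)
 (.cons 3 (nat_lit 0x100000)
 (.cons 6 (nat_lit 0xc030)
 (.cons 12 (nat_lit 0x200)
 .nil)))))))))
noncomputable def xa17 : Net := (.cons 12 (nat_lit 0xc20)
 (.cons 6 (nat_lit 0x33020)
 (.cons 3 (nat_lit 0x105004)
 (.cons 1 (nat_lit 0x8208)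
 (.cons 1 (nat_lit 0x410490)
 (.cons 1 (nat_lit 0x9240)
 (.cons 3 (nat_lit 0x102004)
 (.cons 6 (nat_lit 0x26020)
 (.cons 12 (nat_lit 0xdc0)
 .nil)))))))))
noncomputable def xa18 : Net := (.cons 12 (nat_lit 0x110)
 (.cons 6 (nat_lit 0xd00c)
 (.cons 3 (nat_lit 0x82082)
 (.cons 1 (nat_lit 0x41008)
 (.cons 1 (nat_lit 0x92412)
 (.cons 1 (nat_lit 0x241048)
 (.cons 3 (nat_lit 0x82082)
 (.cons 6 (nat_lit 0x800c)
 (.cons 12 (nat_lit 0x110)
 .nil)))))))))
noncomputable def xa19 : Net := (.cons 12 (nat_lit 0x200)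
 (.cons 6 (nat_lit 0xc030)
 (.cons 3 (nat_lit 0x107100)
 (.cons 1 (nat_lit 0x200000)
 (.cons 1 (nat_lit 0x400010)
 (.cons 1 (nat_lit 0x240040)
 (.cons 3 (nat_lit 0x100000)
 (.cons 6 (nat_lit 0xc030)
 (.cons 12 (nat_lit 0x200)
 .nil)))))))))
noncomputable def xa20 : Net := (.cons 12 (nat_lit 0x170)
 (.cons 6 (nat_lit 0xb010)
 (.cons 3 (nat_lit 0x1041c0)
 (.cons 1 (nat_lit 0x200000)
 (.cons 1 (nat_lit 0x400010)
 (.cons 1 (nat_lit 0x241000)
 (.cons 3 (nat_lit 0x100000)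
 (.cons 6 (nat_lit 0x8010)
 (.cons 12 (nat_lit 0x170)
 .nil)))))))))
noncomputable def xa21 : Net := (.cons 12 (nat_lit 0x1d0)
 (.cons 6 (nat_lit 0xe000)
 (.cons 3 (nat_lit 0x461c0)
 (.cons 1 (nat_lit 0x1240)
 (.cons 1 (nat_lit 0x92490)
 (.cons 1 (nat_lit 0x1240)
 (.cons 3 (nat_lit 0x6000)
 (.cons 6 (nat_lit 0x8000)
 (.cons 12 (nat_lit 0x1d0)
 .nil)))))))))
noncomputable def xws : List (List ℕ) :=
  [W (nat_lit 0x1104c150240700806),
  W (nat_lit 0x4c090140d0080c),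
  W (nat_lit 0x180681a0601a05c1a0681806418),
  W (nat_lit 0x681706818),
  W (nat_lit 0x1b06c1e),
  W (nat_lit 0x701e0781c0781e),
  W (nat_lit 0x701d0741c),
  W (nat_lit 0x2308820),
  W (nat_lit 0x220901f0901f),
  W (nat_lit 0x240841f),
  W (nat_lit 0x8023)]
noncomputable def xns : List Net := [CL.Std.L34.a0, CL.Std.L34.a1, CL.Std.L34.a2, CL.Std.L34.a3, CL.Std.L34.a4, CL.Std.L34.a5, CL.Std.L34.a6, CL.Std.L34.a7, CL.Std.L34.a8, CL.Std.L34.a9, CL.Std.L34.a10, xa11, xa12, xa13, xa14, xa15, xa16, xa17, xa18, xa19, xa20, xa21]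
noncomputable def xD : List (ℕ × List ℕ) := app CL.Std.L34.D (mkDefs xws 11)
noncomputable def xchk : List (List ℕ × List ℕ) → Bool := CL.Std.L34.P.relsB xns
noncomputable def xH_v0 : Lev :=
  ⟨0, 21, sg (W (nat_lit 0x5c1906419064170641706417)), [[26], [28]], 11, 2⟩
noncomputable def xH_v1 : Lev :=
  ⟨1, 20, sg (W (nat_lit 0x1b06c1b0741b0741b)), [[30], [32], [34]], 13, 3⟩
noncomputable def xH_v2 : Lev :=
  ⟨2, 3, sg (W (nat_lit 0x7c1f)), [[36], [38], [40], [42]], 16, 4⟩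
noncomputable def xH_v3 : Lev :=
  ⟨5, 16, sg (W (nat_lit 0xac2909c25)), [], 20, 0⟩
noncomputable def xH_vs4 : List Lev :=
  []
noncomputable def xH_vs3 : List Lev :=
  xH_v3 :: xH_vs4
noncomputable def xH_vs2 : List Lev :=
  xH_v2 :: xH_vs3
noncomputable def xH_vs1 : List Lev :=
  xH_v1 :: xH_vs2
noncomputable def xH_vs : List Lev :=
  xH_v0 :: xH_vs1

theorem xzc0 : CL.Std.L34.P.chainB xns xD xH_vs [[22], [24]] = true := by decide +kernel
theorem xzo1 : movB CL.Std.L34.P.n CL.Std.L34.P.N xns [22, 24] 0 = true := by decide +kernel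
theorem xzo2 : movB CL.Std.L34.P.n CL.Std.L34.P.N xns [24] 0 = true := by decide +kernel
theorem xzr3 : xchk (R255 22 24) = true := by decide +kernel
theorem xzm4 : leB xD [[22], [24]] [[0], [2]] = true := by decide +kernel
theorem xze5 : extB CL.Std.L34.ns xns 11 xws CL.Std.L34.D = true := by decide +kernel
theorem xzn6 : CL.Std.L34.P.netsB xns (mkDefs xws 11) = true := by decide +kernel

section
variable {G X : Type*} [Group G] [MulAction G X] {e : ℕ → X} {gs : List G}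

theorem xlen {k} (c : Ctx CL.Std.L34.P e gs CL.Std.L34.ns CL.Std.L34.D k) : gs.length = 11 := c.len xze5

theorem xctx0 {k} (c : Ctx CL.Std.L34.P e gs CL.Std.L34.ns CL.Std.L34.D k) : Ctx CL.Std.L34.P e (ext gs xws) xns xD chk0 :=
  c.ext rfl xze5 xzn6

theorem xctx {k} (c : Ctx CL.Std.L34.P e gs CL.Std.L34.ns CL.Std.L34.D k) {H : Subgroup G} (hF : Faithful e CL.Std.L34.P.n H) (hH : ∀ g ∈ gs, g ∈ H) :
    Ctx CL.Std.L34.P e (ext gs xws) xns xD xchk :=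
  (xctx0 c).withB hF (mem_of_mem_ext hH _)

theorem xH_c : CL.Std.L34.P.chainB xns xD xH_vs [[22], [24]] = true :=
  xzc0

theorem xH_o : prodL xH_vs 1 = 20160 := by decide +kernel

theorem xH_lb (c : Ctx CL.Std.L34.P e gs xns xD xchk) :
    LB (subW gs [[22], [24]]) 20160 :=
  c.lb xH_c xH_o

theorem xpre (c : Ctx CL.Std.L34.P e gs xns xD xchk) (ub : UB (subW gs [[0], [2]]) 20160) :
    T255 (subW gs [[0], [2]]) :=
  t255_of ub (xH_lb c) (c.le xzm4) (c.rels _ xzr3) (c.ne_one xzo2) (c.ne_one xzo1)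

theorem main : T255 (subW CL.Std.L34.gs1 [[0], [2]]) := by
  have := xpre (xctx CL.Std.L34.c1 (faithful_eF _) fun _ _ => trivial) (by
    rw [subW_ext (xlen CL.Std.L34.c1) _ (by decide +kernel)]; exact CL.Std.L34.ub)
  rwa [subW_ext (xlen CL.Std.L34.c1) _ (by decide +kernel)] at this

end
end CL.E7m.PA.L34

namespace CL.E7m.PA.L43
open CL.PG

noncomputable def xa14 : Net := (.cons 20 (nat_lit 0xc008)
 (.cons 10 (nat_lit 0x32900380)
 (.cons 5 (nat_lit 0x741600006)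
 (.cons 1 (nat_lit 0x2040100000)
 (.cons 1 (nat_lit 0x5280200148)
 (.cons 1 (nat_lit 0x29004000a4)
 (.cons 1 (nat_lit 0x5290842142)
 (.cons 1 (nat_lit 0x401000a0)
 (.cons 5 (nat_lit 0x601000018)
 (.cons 10 (nat_lit 0x1a400380)
 (.cons 20 (nat_lit 0x84020)
 .nil)))))))))))
noncomputable def xa15 : Net := (.cons 20 (nat_lit 0x96793)
 (.cons 10 (nat_lit 0x1900244)
 (.cons 5 (nat_lit 0x381f02c1e)
 (.cons 1 (nat_lit 0x8000020)
 (.cons 1 (nat_lit 0x401400004a)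
 (.cons 1 (nat_lit 0x290a401485)
 (.cons 1 (nat_lit 0x1084250902)
 (.cons 1 (nat_lit 0x940008005)
 (.cons 5 (nat_lit 0x20160201c)
 (.cons 10 (nat_lit 0x308000b2)
 (.cons 20 (nat_lit 0xb9f14)
 .nil)))))))))))
noncomputable def xa16 : Net := (.cons 20 (nat_lit 0x5156c)
 (.cons 10 (nat_lit 0x363000d0)
 (.cons 5 (nat_lit 0x281402010)
 (.cons 1 (nat_lit 0x800000000)
 (.cons 1 (nat_lit 0x5084052000)
 (.cons 1 (nat_lit 0x2148129404)
 (.cons 1 (nat_lit 0x5090a50802)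
 (.cons 1 (nat_lit 0x21014a4)
 (.cons 5 (nat_lit 0x380000006)
 (.cons 10 (nat_lit 0x3b6001d8)
 (.cons 20 (nat_lit 0x4d452)
 .nil)))))))))))
noncomputable def xa17 : Net := (.cons 20 (nat_lit 0x8)
 (.cons 10 (nat_lit 0x1500290)
 (.cons 5 (nat_lit 0x641f00c00)
 (.cons 1 (nat_lit 0x2008000)
 (.cons 1 (nat_lit 0x4214050002)
 (.cons 1 (nat_lit 0x2148429024)
 (.cons 1 (nat_lit 0x129485084a)
 (.cons 1 (nat_lit 0x2808521084)
 (.cons 5 (nat_lit 0x10100101a)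
 (.cons 10 (nat_lit 0x2400006c)
 (.cons 20 (nat_lit 0xf00e0)
 .nil)))))))))))
noncomputable def xa18 : Net := (.cons 20 (nat_lit 0xfe000)
 (.cons 10 (nat_lit 0x1ea00070)
 (.cons 5 (nat_lit 0x400001c08)
 (.cons 1 (nat_lit 0x100020000)
 (.cons 1 (nat_lit 0x5294052140)
 (.cons 1 (nat_lit 0x29481290a0)
 (.cons 1 (nat_lit 0x1294212948)
 (.cons 1 (nat_lit 0x942520084)
 (.cons 5 (nat_lit 0x401c00004)
 (.cons 10 (nat_lit 0x22200380)
 (.cons 20 (nat_lit 0xfe000)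
 .nil)))))))))))
noncomputable def xa19 : Net := (.cons 20 (nat_lit 0xa3ae0)
 (.cons 10 (nat_lit 0x1ad00010)
 (.cons 5 (nat_lit 0x5c1f03810)
 (.cons 1 (nat_lit 0x8400)
 (.cons 1 (nat_lit 0x52800)
 (.cons 1 (nat_lit 0x142021000)
 (.cons 1 (nat_lit 0x84a52940)
 (.cons 1 (nat_lit 0x214a009000)
 (.cons 5 (nat_lit 0x100800000)
 (.cons 10 (nat_lit 0x13600200)
 (.cons 20 (nat_lit 0x848f0)
 .nil)))))))))))
noncomputable def xa20 : Net := (.cons 20 (nat_lit 0xa9d48)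
 (.cons 10 (nat_lit 0x5f002e6)
 (.cons 5 (nat_lit 0x2c1d01c00)
 (.cons 1 (nat_lit 0x42008000)
 (.cons 1 (nat_lit 0x94050800)
 (.cons 1 (nat_lit 0x1080210a4)
 (.cons 1 (nat_lit 0x294a5214a)
 (.cons 1 (nat_lit 0x148108024)
 (.cons 5 (nat_lit 0x700407802)
 (.cons 10 (nat_lit 0x800066)
 (.cons 20 (nat_lit 0x62b98)
 .nil)))))))))))
noncomputable def xa21 : Net := (.cons 20 (nat_lit 0xfd7f2)
 (.cons 10 (nat_lit 0x215003f8)
 (.cons 5 (nat_lit 0x400c01016)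
 (.cons 1 (nat_lit 0x2840000000)
 (.cons 1 (nat_lit 0x5090802102)
 (.cons 1 (nat_lit 0x290a501484)
 (.cons 1 (nat_lit 0x529420284a)
 (.cons 1 (nat_lit 0x28425000a4)
 (.cons 5 (nat_lit 0x80100c)
 (.cons 10 (nat_lit 0x2800008)
 (.cons 20 (nat_lit 0xfcc02)
 .nil)))))))))))
noncomputable def xa22 : Net := (.cons 20 (nat_lit 0x826de)
 (.cons 10 (nat_lit 0x2a9003ea)
 (.cons 5 (nat_lit 0x700c0541e)
 (.cons 1 (nat_lit 0x8000)
 (.cons 1 (nat_lit 0x280050148)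
 (.cons 1 (nat_lit 0x94a1200a4)
 (.cons 1 (nat_lit 0x1084252142)
 (.cons 1 (nat_lit 0x108129404)
 (.cons 5 (nat_lit 0x700c01800)
 (.cons 10 (nat_lit 0x10800160)
 (.cons 20 (nat_lit 0xbecbe)
 .nil)))))))))))
noncomputable def xa23 : Net := (.cons 20 (nat_lit 0xfc000)
 (.cons 10 (nat_lit 0x3fc003f0)
 (.cons 5 (nat_lit 0x81905004)
 (.cons 1 (nat_lit 0x5000a0)
 (.cons 1 (nat_lit 0x14a02940)
 (.cons 1 (nat_lit 0x280a5014a4)
 (.cons 1 (nat_lit 0x5214a02948)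
 (.cons 1 (nat_lit 0x284a0280a4)
 (.cons 5 (nat_lit 0x80605004)
 (.cons 10 (nat_lit 0x3fc003f0)
 (.cons 20 (nat_lit 0xfc000)
 .nil)))))))))))
noncomputable def xa24 : Net := (.cons 20 (nat_lit 0xc0a0)
 (.cons 10 (nat_lit 0x24d00020)
 (.cons 5 (nat_lit 0x140804000)
 (.cons 1 (nat_lit 0x280000000)
 (.cons 1 (nat_lit 0x940428000)
 (.cons 1 (nat_lit 0x1280250000)
 (.cons 1 (nat_lit 0x800428000)
 (.cons 5 (nat_lit 0x804000)
 (.cons 10 (nat_lit 0x11000080)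
 (.cons 20 (nat_lit 0x9e0a0)
 .nil))))))))))
noncomputable def xa25 : Net := (.cons 20 (nat_lit 0x39588)
 (.cons 10 (nat_lit 0x3ca00180)
 (.cons 5 (nat_lit 0x481104408)
 (.cons 1 (nat_lit 0x800000000)
 (.cons 1 (nat_lit 0x5004010000)
 (.cons 1 (nat_lit 0x2008521400)
 (.cons 1 (nat_lit 0x5014a52800)
 (.cons 1 (nat_lit 0x800501480)
 (.cons 5 (nat_lit 0x1405000)
 (.cons 10 (nat_lit 0x3c800180)
 (.cons 20 (nat_lit 0x39588)
 .nil)))))))))))
noncomputable def xa26 : Net := (.cons 20 (nat_lit 0xfe000)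
 (.cons 10 (nat_lit 0x24b00000)
 (.cons 5 (nat_lit 0x81102000)
 (.cons 1 (nat_lit 0x2000000)
 (.cons 1 (nat_lit 0x4284840000)
 (.cons 1 (nat_lit 0x294a520000)
 (.cons 1 (nat_lit 0x5094210000)
 (.cons 1 (nat_lit 0x204a020000)
 (.cons 5 (nat_lit 0x501a02000)
 (.cons 10 (nat_lit 0x1b600000)
 .nil))))))))))
noncomputable def xa27 : Net := (.cons 20 (nat_lit 0x52c2c)
 (.cons 10 (nat_lit 0xc000d8)
 (.cons 5 (nat_lit 0x600c02400)
 (.cons 1 (nat_lit 0x108000)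
 (.cons 1 (nat_lit 0x4010210000)
 (.cons 1 (nat_lit 0x2808521024)
 (.cons 1 (nat_lit 0x5214a50848)
 (.cons 1 (nat_lit 0x8109400)
 (.cons 5 (nat_lit 0x201600000)
 (.cons 10 (nat_lit 0x3cc000d8)
 (.cons 20 (nat_lit 0x52c2c)
 .nil)))))))))))
noncomputable def xws : List (List ℕ) :=
  [W (nat_lit 0x681b03410054060340f),
  W (nat_lit 0x5c1c03c170200a00810),
  W (nat_lit 0x1d0801d080200801d080200781e07c1f07820),
  W (nat_lit 0x20080200801d080200801d08020078200741f078200801e0802007820),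
  W (nat_lit 0x230842408423),
  W (nat_lit 0x842109021),
  W (nat_lit 0x28094280a026),
  W (nat_lit 0x250a026),
  W (nat_lit 0x2c0a42c),
  W (nat_lit 0xa82c0a82a0b02a),
  W (nat_lit 0xa82a0b02c0a42b0a42c0b029),
  W (nat_lit 0xc82f0c82e),
  W (nat_lit 0xc8320bc2e),
  W (nat_lit 0xc4310b82e)]
noncomputable def xns : List Net := [CL.Std.L43.a0, CL.Std.L43.a1, CL.Std.L43.a2, CL.Std.L43.a3, CL.Std.L43.a4, CL.Std.L43.a5, CL.Std.L43.a6, CL.Std.L43.a7, CL.Std.L43.a8, CL.Std.L43.a9, CL.Std.L43.a10, CL.Std.L43.a11, CL.Std.L43.a12, CL.Std.L43.a13, xa14, xa15, xa16, xa17, xa18, xa19, xa20, xa21, xa22, xa23, xa24, xa25, xa26, xa27]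
noncomputable def xD : List (ℕ × List ℕ) := app CL.Std.L43.D (mkDefs xws 14)
noncomputable def xchk : List (List ℕ × List ℕ) → Bool := CL.Std.L43.P.relsB xns
noncomputable def xH_v0 : Lev :=
  ⟨0, 40, sg (W (nat_lit 0x741f07c1d07c1d07c1f07c1d07c1d07c1f0741f07c1f)), [[32], [34]], 14, 2⟩
noncomputable def xH_v1 : Lev :=
  ⟨1, 39, sg (W (nat_lit 0x84230842308c2108c2108c21)), [[36], [38]], 16, 2⟩
noncomputable def xH_v2 : Lev :=
  ⟨2, 2, sg [36], [[40], [42]], 18, 2⟩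
noncomputable def xH_v3 : Lev :=
  ⟨4, 36, sg (W (nat_lit 0x290ac290ac290ac290ac29)), [[44], [46], [48]], 20, 3⟩
noncomputable def xH_v4 : Lev :=
  ⟨5, 2, sg [44], [[50], [52], [54]], 23, 3⟩
noncomputable def xH_v5 : Lev :=
  ⟨13, 27, sg (W (nat_lit 0xdc350cc370d433)), [], 26, 0⟩
noncomputable def xH_vs6 : List Lev :=
  []
noncomputable def xH_vs5 : List Lev :=
  xH_v5 :: xH_vs6
noncomputable def xH_vs4 : List Lev :=
  xH_v4 :: xH_vs5
noncomputable def xH_vs3 : List Lev :=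
  xH_v3 :: xH_vs4
noncomputable def xH_vs2 : List Lev :=
  xH_v2 :: xH_vs3
noncomputable def xH_vs1 : List Lev :=
  xH_v1 :: xH_vs2
noncomputable def xH_vs : List Lev :=
  xH_v0 :: xH_vs1

theorem xzc0 : CL.Std.L43.P.chainB xns xD xH_vs [[28], [30]] = true := by decide +kernel
theorem xzo1 : movB CL.Std.L43.P.n CL.Std.L43.P.N xns [28, 30] 0 = true := by decide +kernel
theorem xzo2 : movB CL.Std.L43.P.n CL.Std.L43.P.N xns [30] 0 = true := by decide +kernel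
theorem xzr3 : xchk (R255 28 30) = true := by decide +kernel
theorem xzm4 : leB xD [[28], [30]] [[0], [2]] = true := by decide +kernel
theorem xze5 : extB CL.Std.L43.ns xns 14 xws CL.Std.L43.D = true := by decide +kernel
theorem xzn6 : CL.Std.L43.P.netsB xns (mkDefs xws 14) = true := by decide +kernel

section
variable {G X : Type*} [Group G] [MulAction G X] {e : ℕ → X} {gs : List G}

theorem xlen {k} (c : Ctx CL.Std.L43.P e gs CL.Std.L43.ns CL.Std.L43.D k) : gs.length = 14 := c.len xze5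

theorem xctx0 {k} (c : Ctx CL.Std.L43.P e gs CL.Std.L43.ns CL.Std.L43.D k) : Ctx CL.Std.L43.P e (ext gs xws) xns xD chk0 :=
  c.ext rfl xze5 xzn6

theorem xctx {k} (c : Ctx CL.Std.L43.P e gs CL.Std.L43.ns CL.Std.L43.D k) {H : Subgroup G} (hF : Faithful e CL.Std.L43.P.n H) (hH : ∀ g ∈ gs, g ∈ H) :
    Ctx CL.Std.L43.P e (ext gs xws) xns xD xchk :=
  (xctx0 c).withB hF (mem_of_mem_ext hH _)

theorem xH_c : CL.Std.L43.P.chainB xns xD xH_vs [[28], [30]] = true :=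
  xzc0

theorem xH_o : prodL xH_vs 1 = 6065280 := by decide +kernel

theorem xH_lb (c : Ctx CL.Std.L43.P e gs xns xD xchk) :
    LB (subW gs [[28], [30]]) 6065280 :=
  c.lb xH_c xH_o

theorem xpre (c : Ctx CL.Std.L43.P e gs xns xD xchk) (ub : UB (subW gs [[0], [2]]) 6065280) :
    T255 (subW gs [[0], [2]]) :=
  t255_of ub (xH_lb c) (c.le xzm4) (c.rels _ xzr3) (c.ne_one xzo2) (c.ne_one xzo1)

theorem main : T255 (subW CL.Std.L43.gs1 [[0], [2]]) := by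
  have := xpre (xctx CL.Std.L43.c1 (faithful_eF _) fun _ _ => trivial) (by
    rw [subW_ext (xlen CL.Std.L43.c1) _ (by decide +kernel)]; exact CL.Std.L43.ub)
  rwa [subW_ext (xlen CL.Std.L43.c1) _ (by decide +kernel)] at this

end
end CL.E7m.PA.L43

namespace CL.E7m.PA.U34
open CL.PG

noncomputable def xa6 : Net := (.cons 40 (nat_lit 0x160084ef04)
 (.cons 20 (nat_lit 0x1a0d20000061ea8)
 (.cons 10 (nat_lit 0x100010c0030300169)
 (.cons 5 (nat_lit 0x200c07804000090040f)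
 (.cons 1 (nat_lit 0x4040000100401)
 (.cons 1 (nat_lit 0x5280a401021090a)
 (.cons 1 (nat_lit 0x28080210a52808421084)
 (.cons 1 (nat_lit 0x100405294a100485214a)
 (.cons 1 (nat_lit 0x28081004a42842009024)
 (.cons 5 (nat_lit 0x200804804000160401e)
 (.cons 10 (nat_lit 0x10c0010000116)
 (.cons 20 (nat_lit 0xa0d20000089d08)
 (.cons 40 (nat_lit 0x160084ef04)
 .nil)))))))))))))
noncomputable def xa7 : Net := (.cons 40 (nat_lit 0x69833d6374)
 (.cons 20 (nat_lit 0xb8543000000cff3)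
 (.cons 10 (nat_lit 0x5c0003a0009c00357)
 (.cons 5 (nat_lit 0x600c050160240b05006)
 (.cons 1 (nat_lit 0x80010802000400)
 (.cons 1 (nat_lit 0x428005000a101480080a)
 (.cons 1 (nat_lit 0x21404210842048521084)
 (.cons 1 (nat_lit 0x508425090a409421210a)
 (.cons 1 (nat_lit 0x21424290a50802421081)
 (.cons 5 (nat_lit 0x700c040020681007006)
 (.cons 10 (nat_lit 0x15800026002ae00346)
 (.cons 20 (nat_lit 0xd157c000009ec64)
 (.cons 40 (nat_lit 0x6983a65082)
 .nil)))))))))))))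
noncomputable def xa8 : Net := (.cons 40 (nat_lit 0x21def68210)
 (.cons 20 (nat_lit 0xc246100000bd4f0)
 (.cons 10 (nat_lit 0x304001a40035200048)
 (.cons 5 (nat_lit 0x380c018060600e04802)
 (.cons 1 (nat_lit 0x42400000)
 (.cons 1 (nat_lit 0x140028001294a00000)
 (.cons 1 (nat_lit 0x4a4014202948500084)
 (.cons 1 (nat_lit 0x1094a028401294a00048)
 (.cons 1 (nat_lit 0x404280240042408085)
 (.cons 5 (nat_lit 0x180c018040600a00802)
 (.cons 10 (nat_lit 0x304001a40035200040)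
 (.cons 20 (nat_lit 0xc246000000bd4f0)
 (.cons 40 (nat_lit 0x21de768000)
 .nil)))))))))))))
noncomputable def xa9 : Net := (.cons 40 (nat_lit 0x15d34212)
 (.cons 20 (nat_lit 0xad89f0000088307)
 (.cons 10 (nat_lit 0x2520021e0029200115)
 (.cons 5 (nat_lit 0x30080581501c16)
 (.cons 1 (nat_lit 0x4000000400400)
 (.cons 1 (nat_lit 0x800028000080a1280a)
 (.cons 1 (nat_lit 0x90002108501405214a4)
 (.cons 1 (nat_lit 0x1210242842029024284a)
 (.cons 1 (nat_lit 0x9005000850948528480)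
 (.cons 5 (nat_lit 0x1814070080781005012)
 (.cons 10 (nat_lit 0x2d00025e00102001c6)
 (.cons 20 (nat_lit 0xad89600000f47b6)
 (.cons 40 (nat_lit 0x15701b02)
 .nil)))))))))))))
noncomputable def xa10 : Net := (.cons 40 (nat_lit 0xb89adf3424)
 (.cons 20 (nat_lit 0x6d6ec00000a1ff1)
 (.cons 10 (nat_lit 0x3fb002560019b0003b)
 (.cons 5 (nat_lit 0x3c0307001000170081a)
 (.cons 1 (nat_lit 0x20000000000040400400)
 (.cons 1 (nat_lit 0x50040000400280a02800)
 (.cons 1 (nat_lit 0x280812808401425010a4)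
 (.cons 1 (nat_lit 0x12942501020294202848)
 (.cons 1 (nat_lit 0x284200802421004014a5)
 (.cons 5 (nat_lit 0x281407000060060201a)
 (.cons 10 (nat_lit 0x38c002740031600072)
 (.cons 20 (nat_lit 0xcdec800000a1da8)
 (.cons 40 (nat_lit 0xb89bb759c6)
 .nil)))))))))))))
noncomputable def xa11 : Net := (.cons 40 (nat_lit 0x1589cf36e4)
 (.cons 20 (nat_lit 0xd92a0000009c710)
 (.cons 10 (nat_lit 0x2c20001d0031000044)
 (.cons 5 (nat_lit 0x50110080a0181a06404)
 (.cons 1 (nat_lit 0x8000004000002100000)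
 (.cons 1 (nat_lit 0x509400080a0084a02800)
 (.cons 1 (nat_lit 0x21081010042948529485)
 (.cons 1 (nat_lit 0x5214a0284a1094a10902)
 (.cons 1 (nat_lit 0x29001010042902501481)
 (.cons 5 (nat_lit 0x5010000080180807818)
 (.cons 10 (nat_lit 0x2e0000880013000160)
 (.cons 20 (nat_lit 0xc92200000014058)
 (.cons 40 (nat_lit 0x1589090308)
 .nil)))))))))))))
noncomputable def xa12 : Net := (.cons 40 (nat_lit 0xae0736654a)
 (.cons 20 (nat_lit 0x1e117000002a2b4)
 (.cons 10 (nat_lit 0x28a003a8000dc002c2)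
 (.cons 5 (nat_lit 0x2804054110301a02810)
 (.cons 1 (nat_lit 0x2840408080200000940)
 (.cons 1 (nat_lit 0x29081290050102421084)
 (.cons 1 (nat_lit 0x129025214a0284a42948)
 (.cons 1 (nat_lit 0x20021090202142121000)
 (.cons 5 (nat_lit 0x2818010080001406010)
 (.cons 10 (nat_lit 0x2a20018200070001c0)
 (.cons 20 (nat_lit 0x96128000003a432)
 (.cons 40 (nat_lit 0xae076c6162)
 .nil))))))))))))
noncomputable def xa13 : Net := (.cons 40 (nat_lit 0x3b86865f2e)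
 (.cons 20 (nat_lit 0xc180000000b2f82)
 (.cons 10 (nat_lit 0xb60002b0038600176)
 (.cons 5 (nat_lit 0x2807048160500802c00)
 (.cons 1 (nat_lit 0x80000000100420)
 (.cons 1 (nat_lit 0x2000500004000200940)
 (.cons 1 (nat_lit 0x29001294042140401080)
 (.cons 1 (nat_lit 0x10842509481280a02948)
 (.cons 1 (nat_lit 0x280050900400000094a0)
 (.cons 5 (nat_lit 0x4000058080600002014)
 (.cons 10 (nat_lit 0xbe000e80031400066)
 (.cons 20 (nat_lit 0xc004a000007691c)
 (.cons 40 (nat_lit 0x3b862b16a6)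
 .nil)))))))))))))
noncomputable def xa14 : Net := (.cons 40 (nat_lit 0x40210d7fde)
 (.cons 20 (nat_lit 0x1cadd0000045cea)
 (.cons 10 (nat_lit 0x24200135002a5000bc)
 (.cons 5 (nat_lit 0x81c060000101500406)
 (.cons 1 (nat_lit 0x8000000000000100000)
 (.cons 1 (nat_lit 0x5000042000020025214a)
 (.cons 1 (nat_lit 0x20000294010148521084)
 (.cons 1 (nat_lit 0x50102129021290a5294a)
 (.cons 1 (nat_lit 0x810940528421014a4)
 (.cons 5 (nat_lit 0x481e000000101000000)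
 (.cons 10 (nat_lit 0x2000013000228002d2)
 (.cons 20 (nat_lit 0x5c8dc0000068844)
 (.cons 40 (nat_lit 0x40201273de)
 .nil)))))))))))))
noncomputable def xa15 : Net := (.cons 40 (nat_lit 0x45315d5f50)
 (.cons 20 (nat_lit 0x9b3fc00000e0fb2)
 (.cons 10 (nat_lit 0x10c00086001d600042)
 (.cons 5 (nat_lit 0x15020160440c05812)
 (.cons 1 (nat_lit 0x20000004010002000020)
 (.cons 1 (nat_lit 0x50002008020204000040)
 (.cons 1 (nat_lit 0x28024010040148000480)
 (.cons 1 (nat_lit 0x5204a029484094002900)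
 (.cons 1 (nat_lit 0x29004000052942501480)
 (.cons 5 (nat_lit 0x40140201a0100600012)
 (.cons 10 (nat_lit 0x4c000940019e00042)
 (.cons 20 (nat_lit 0x9f1f200000d2b22)
 (.cons 40 (nat_lit 0x453060dcf0)
 .nil)))))))))))))
noncomputable def xws : List (List ℕ) :=
  [W (nat_lit 0x2c0a0140b02c0102c04),
  W (nat_lit 0x70280700c01),
  W (nat_lit 0x2c0b0200c0040b),
  W (nat_lit 0x901c0600c09),
  W (nat_lit 0xa0140b0140300c0a),
  W (nat_lit 0x30060180800c05),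
  W (nat_lit 0xf0381003810038100340f038100380f03810),
  W (nat_lit 0x3c0d03c0d0400d03c0e0400e03c0e03c0f0340f0340f03810034100400e03c0e0400e),
  W (nat_lit 0x1b06c1a0701a0681b0681c),
  W (nat_lit 0x1d0741d)]
noncomputable def xns : List Net := [CL.Std.U34.a0, CL.Std.U34.a1, CL.Std.U34.a2, CL.Std.U34.a3, CL.Std.U34.a4, CL.Std.U34.a5, xa6, xa7, xa8, xa9, xa10, xa11, xa12, xa13, xa14, xa15]
noncomputable def xD : List (ℕ × List ℕ) := app CL.Std.U34.D (mkDefs xws 6)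
noncomputable def xchk : List (List ℕ × List ℕ) → Bool := CL.Std.U34.P.relsB xns
noncomputable def xH_v0 : Lev :=
  ⟨0, 65, sg (W (nat_lit 0x340f03c0d03c0d03c0d03c0d03c0d03c0d)), [[24], [26]], 10, 2⟩
noncomputable def xH_v1 : Lev :=
  ⟨1, 64, sg (W (nat_lit 0x1906c1906c1906c1906c1906c19)), [[28]], 12, 1⟩
noncomputable def xH_v2 : Lev :=
  ⟨2, 3, sg (W (nat_lit 0x741d)), [[30]], 13, 1⟩
noncomputable def xH_v3 : Lev :=
  ⟨5, 5, sg (W (nat_lit 0x7c1f07c1f)), [], 14, 0⟩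
noncomputable def xH_vs4 : List Lev :=
  []
noncomputable def xH_vs3 : List Lev :=
  xH_v3 :: xH_vs4
noncomputable def xH_vs2 : List Lev :=
  xH_v2 :: xH_vs3
noncomputable def xH_vs1 : List Lev :=
  xH_v1 :: xH_vs2
noncomputable def xH_vs : List Lev :=
  xH_v0 :: xH_vs1

theorem xzc0 : CL.Std.U34.P.chainB xns xD xH_vs [[12], [14]] = true := by decide +kernel
theorem xzo1 : movB CL.Std.U34.P.n CL.Std.U34.P.N xns [18, 20, 20, 20, 20] 0 = true := by decide +kernel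
theorem xzo2 : movB CL.Std.U34.P.n CL.Std.U34.P.N xns [18, 20, 20, 20] 0 = true := by decide +kernel
theorem xzo3 : movB CL.Std.U34.P.n CL.Std.U34.P.N xns [18, 20, 20] 0 = true := by decide +kernel
theorem xzo4 : movB CL.Std.U34.P.n CL.Std.U34.P.N xns [18, 20] 0 = true := by decide +kernel
theorem xzo5 : movB CL.Std.U34.P.n CL.Std.U34.P.N xns [18] 0 = true := by decide +kernel
theorem xzo6 : movB CL.Std.U34.P.n CL.Std.U34.P.N xns [20] 0 = true := by decide +kernel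
theorem xzo7 : movB CL.Std.U34.P.n CL.Std.U34.P.N xns [14] 0 = true := by decide +kernel
theorem xzo8 : movB CL.Std.U34.P.n CL.Std.U34.P.N xns [12, 14] 0 = true := by decide +kernel
theorem xzr9 : xchk (R34 12 14 16 18 20 22) = true := by decide +kernel
theorem xzm10 : leB xD [[12], [14], [16], [18], [20], [22]] [[0], [2]] = true := by decide +kernel
theorem xze11 : extB CL.Std.U34.ns xns 6 xws CL.Std.U34.D = true := by decide +kernel
theorem xzn12 : CL.Std.U34.P.netsB xns (mkDefs xws 6) = true := by decide +kernel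

section
variable {G X : Type*} [Group G] [MulAction G X] {e : ℕ → X} {gs : List G}

theorem xlen {k} (c : Ctx CL.Std.U34.P e gs CL.Std.U34.ns CL.Std.U34.D k) : gs.length = 6 := c.len xze11

theorem xctx0 {k} (c : Ctx CL.Std.U34.P e gs CL.Std.U34.ns CL.Std.U34.D k) : Ctx CL.Std.U34.P e (ext gs xws) xns xD chk0 :=
  c.ext rfl xze11 xzn12

theorem xctx {k} (c : Ctx CL.Std.U34.P e gs CL.Std.U34.ns CL.Std.U34.D k) {H : Subgroup G} (hF : Faithful e CL.Std.U34.P.n H) (hH : ∀ g ∈ gs, g ∈ H) :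
    Ctx CL.Std.U34.P e (ext gs xws) xns xD xchk :=
  (xctx0 c).withB hF (mem_of_mem_ext hH _)

theorem xH_c : CL.Std.U34.P.chainB xns xD xH_vs [[12], [14]] = true :=
  xzc0

theorem xH_o : prodL xH_vs 1 = 62400 := by decide +kernel

theorem xH_lb (c : Ctx CL.Std.U34.P e gs xns xD xchk) :
    LB (subW gs [[12], [14]]) 62400 :=
  c.lb xH_c xH_o

theorem xpre (c : Ctx CL.Std.U34.P e gs xns xD xchk) (ub : UB (subW gs [[0], [2]]) 62400) :
    CU34 (subW gs [[0], [2]]) :=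
  cu34_of ub (xH_lb c) (c.le xzm10) (c.rels _ xzr9) (c.ne_one xzo8) (c.ne_one xzo7) (c.ne_one xzo6)
    (c.ne_one xzo5) (c.ne_one xzo4) (c.ne_one xzo3) (c.ne_one xzo2) (c.ne_one xzo1)

theorem main : CU34 (subW CL.Std.U34.gs1 [[0], [2]]) := by
  have := xpre (xctx CL.Std.U34.c1 (faithful_eF _) fun _ _ => trivial) (by
    rw [subW_ext (xlen CL.Std.U34.c1) _ (by decide +kernel)]; exact CL.Std.U34.ub)
  rwa [subW_ext (xlen CL.Std.U34.c1) _ (by decide +kernel)] at this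

end
end CL.E7m.PA.U34

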