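/-
Subgroups of `E₈(3)`: the numerical data of the adjoint module (interface).
-/
import Cfsg.Agent.Base

set_option autoImplicit false

namespace CL.E8s

open Module

section Gen

theorem sum_comp_hom {A B R : Type*} [Group A] [Fintype A] [Group B] [Fintype B] [AddCommMonoid R]
    (f : A →* B) (hf : Function.Surjective f) (F : B → R) :
    ∑ a, F (f a) = Nat.card f.ker • ∑ b, F b := by
  classical
  rw [← Finset.sum_fiberwise_of_maps_to (s := Finset.univ) (t := Finset.univ) (g := f)
    (fun _ _ => Finset.mem_univ _), Finset.smul_sum]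
  refine Finset.sum_congr rfl fun b _ => ?_
  rw [Finset.sum_congr rfl (g := fun _ => F b) fun a ha => by rw [(Finset.mem_filter.1 ha).2],
    Finset.sum_const]
  congr 1
  rw [MonoidHom.card_fiber_eq_of_mem_range f (x := b) (y := 1) (hf b) ⟨1, map_one f⟩,
    Nat.card_eq_fintype_card, Fintype.card_subtype]
  congr 1
  ext x
  simp [MonoidHom.mem_ker]

theorem card_eq_ker_mul {A B : Type*} [Group A] [Fintype A] [Group B] [Fintype B]
    (f : A →* B) (hf : Function.Surjective f) :
    Fintype.card A = Nat.card f.ker * Fintype.card B := by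
  simpa using sum_comp_hom f hf fun _ => (1 : ℕ)

/-- A list containing `1`, closed under right multiplication by the generators, is the subgroup. -/
theorem mem_closure_iff_list {G : Type*} [Group G] [Finite G] (S : Set G) (l : List G)
    (h1 : (1 : G) ∈ l) (hm : ∀ g ∈ l, ∀ s ∈ S, g * s ∈ l)
    (hl : ∀ g ∈ l, g ∈ Subgroup.closure S) (g : G) : g ∈ Subgroup.closure S ↔ g ∈ l := by
  refine ⟨fun hg => ?_, hl g⟩
  induction hg using Subgroup.closure_induction_right with
  | one => exact h1
  | mul_right x _ y hy ih => exact hm x ih y hy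
  | mul_inv_cancel x _ y hy ih =>
    have : ∀ n : ℕ, x * y ^ n ∈ l := fun n => by
      induction n with
      | zero => simpa using ih
      | succ n ih' => rw [pow_succ, ← mul_assoc]; exact hm _ ih' y hy
    have h2 : y⁻¹ = y ^ (orderOf y - 1) := by
      rw [inv_eq_iff_mul_eq_one, ← pow_succ', Nat.sub_add_cancel (orderOf_pos y), pow_orderOf_eq_one]
    rw [h2]; exact this _

end Gen

variable {k G V : Type*} [Field k] [Group G] [AddCommGroup V] [Module k V]

/-- The vectors fixed by a subgroup. -/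
def fixS (σ : Representation k G V) (K : Subgroup G) : Submodule k V where
  carrier := {v | ∀ g ∈ K, σ g v = v}
  add_mem' ha hb g hg := by rw [map_add, ha g hg, hb g hg]
  zero_mem' g _ := map_zero _
  smul_mem' c v hv g hg := by rw [map_smul, hv g hg]

theorem mem_fixS {σ : Representation k G V} {K : Subgroup G} {v : V} :
    v ∈ fixS σ K ↔ ∀ g ∈ K, σ g v = v := Iff.rfl

theorem fixS_anti (σ : Representation k G V) {K L : Subgroup G} (h : K ≤ L) :
    fixS σ L ≤ fixS σ K := fun _ hv g hg => hv g (h hg)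

theorem mem_fixS_closure {σ : Representation k G V} {S : Set G} {v : V} :
    v ∈ fixS σ (Subgroup.closure S) ↔ ∀ g ∈ S, σ g v = v := by
  refine ⟨fun h g hg => h g (Subgroup.subset_closure hg), fun h g hg => ?_⟩
  induction hg using Subgroup.closure_induction with
  | mem x hx => exact h x hx
  | one => simp
  | mul x y _ _ hx hy => rw [map_mul, End.mul_apply, hy, hx]
  | inv x _ hx =>
    conv_lhs => rw [← hx]
    rw [← End.mul_apply, ← map_mul, inv_mul_cancel, map_one, End.one_apply]

theorem mem_fixS_zpowers {σ : Representation k G V} {g : G} {v : V} :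
    v ∈ fixS σ (Subgroup.zpowers g) ↔ σ g v = v := by
  rw [Subgroup.zpowers_eq_closure, mem_fixS_closure]; simp

theorem fixS_comp {H : Type*} [Group H] (σ : Representation k G V) (φ : H →* G) (K : Subgroup H) :
    fixS (σ.comp φ) K = fixS σ (K.map φ) := by
  ext v
  simp only [mem_fixS, Subgroup.mem_map]
  exact ⟨by rintro h _ ⟨g, hg, rfl⟩; exact h g hg, fun h g hg => h _ ⟨g, hg, rfl⟩⟩

/-- Dimension of the fixed space of an endomorphism. -/
noncomputable def fx (x : End k V) : ℕ := finrank k (LinearMap.ker (x - 1))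

theorem fixS_zpowers (σ : Representation k G V) (g : G) :
    fixS σ (Subgroup.zpowers g) = LinearMap.ker (σ g - 1) := by
  ext v; rw [mem_fixS_zpowers]; simp [sub_eq_zero]

/-- Orders `1, 2, 4, 8, 5, 11, 31`. -/
def Sm {A : Type*} [Monoid A] (x : A) : Prop := x ^ 8 = 1 ∨ x ^ 5 = 1 ∨ x ^ 11 = 1 ∨ x ^ 31 = 1

/-- The possible pairs (trace of the square, trace) for elements of order `4` of `E₈(3)`. -/
def tab4 : List (ℤ × ℤ) :=
  [(24, 132), (24, 28), (24, -4), (24, 4), (-8, 0), (-8, 8), (-8, 64)]

/-- The possible pairs (trace of the square, trace) for elements of order `8` of `E₈(3)`. -/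
def tab8 : List (ℤ × ℤ) :=
  [(132, 26), (132, -6), (28, -2), (28, 14), (28, 78), (4, 2), (4, 6), (4, -2), (-4, 2), (-4, 34),
    (0, 0), (0, 4), (0, 16), (8, 0), (64, -4), (64, 12), (64, 44)]

/-- `t` is the (integer valued) Brauer character of the `248`-dimensional module `σ` on the elements
acting with order `1, 2, 4, 8, 5, 11, 31`, with the values that occur in `E₈(3)`. -/
structure Good (σ : Representation k G V) (t : G → ℤ) : Prop where
  dim : finrank k V = 248
  gen : ∀ (g h : G) (i j : ℕ), σ h = σ g ^ i → σ g = σ h ^ j → t h = t g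
  conj : ∀ g h : G, t (h * g * h⁻¹) = t g
  one : t 1 = 248
  sum : ∀ (K : Subgroup G) [Fintype K], ¬ 3 ∣ Fintype.card K → (∀ g ∈ K, Sm (σ g)) →
    ∑ g : K, t g = Fintype.card K * (finrank k (fixS σ K) : ℤ)
  two : ∀ g, σ g ^ 2 = 1 → σ g ≠ 1 → t g = 24 ∨ t g = -8
  four : ∀ g, σ g ^ 4 = 1 → σ g ^ 2 ≠ 1 → (t (g ^ 2), t g) ∈ tab4
  eight : ∀ g, σ g ^ 8 = 1 → σ g ^ 4 ≠ 1 → (t (g ^ 2), t g) ∈ tab8
  five : ∀ g, σ g ^ 5 = 1 → σ g ≠ 1 → t g = -2 ∨ t g = 23
  eleven : ∀ g, σ g ^ 11 = 1 → σ g ≠ 1 → t g = 6
  thirtyone : ∀ g, σ g ^ 31 = 1 → σ g ≠ 1 → t g = 0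

namespace Good

variable {σ : Representation k G V} {t : G → ℤ}

theorem congr (h : Good σ t) {g g' : G} (e : σ g = σ g') : t g = t g' :=
  h.gen g' g 1 1 (by rw [pow_one, e]) (by rw [pow_one, e])

theorem of_one (h : Good σ t) {g : G} (e : σ g = 1) : t g = 248 := by
  rw [← h.one]; exact h.congr (by rw [e, map_one])

theorem fin (h : Good σ t) : FiniteDimensional k V :=
  Module.finite_of_finrank_pos (by rw [h.dim]; norm_num)

/-- If `a * c = c * b * z` with `z` in the kernel then `t a = t b`. -/
theorem of_conj (h : Good σ t) {a b c z : G} (hz : σ z = 1) (e : a * c = c * b * z) :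
    t a = t b := by
  rw [← h.conj b c]
  refine h.congr ?_
  rw [show a = c * b * z * c⁻¹ by rw [← e, mul_inv_cancel_right]]
  simp only [map_mul, hz, mul_one]

theorem comp (h : Good σ t) {H : Type*} [Group H] (φ : H →* G) :
    Good (σ.comp φ : Representation k H V) (fun x => t (φ x)) where
  dim := h.dim
  gen g g' i j := h.gen (φ g) (φ g') i j
  conj g g' := by simpa using h.conj (φ g) (φ g')
  one := by simpa using h.one
  sum K _ h3 hs := by
    classical
    have hf := φ.subgroupMap_surjective K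
    have : Finite (K.map φ) := Finite.of_surjective _ hf
    have := Fintype.ofFinite (K.map φ)
    have hc := card_eq_ker_mul _ hf
    have h1 := h.sum (K.map φ) (fun h' => h3 (hc ▸ Dvd.dvd.mul_left h' _))
      (by rintro _ ⟨g, hg, rfl⟩; exact hs g hg)
    have h2 := sum_comp_hom _ hf fun b : K.map φ => t b
    rw [fixS_comp, hc, Nat.cast_mul, mul_assoc, ← h1, ← nsmul_eq_mul, ← h2]
    rfl
  two g := h.two (φ g)
  four g := by simpa using h.four (φ g)
  eight g := by simpa using h.eight (φ g)
  five g := h.five (φ g)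
  eleven g := h.eleven (φ g)
  thirtyone g := h.thirtyone (φ g)

/-- The sum formula for a subgroup given as a list. -/
theorem sum_list (h : Good σ t) (K : Subgroup G) (l : List G) (hn : l.Nodup)
    (hK : ∀ g, g ∈ K ↔ g ∈ l) (h3 : ¬ 3 ∣ l.length) (hs : ∀ g ∈ l, Sm (σ g)) :
    (l.map t).sum = l.length * (finrank k (fixS σ K) : ℤ) := by
  classical
  have hK' : ∀ g, g ∈ l.toFinset ↔ g ∈ K := fun g => by rw [List.mem_toFinset, hK]
  letI : Fintype K := Fintype.subtype l.toFinset hK'
  have hc : Fintype.card K = l.length := by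
    rw [Fintype.card_of_subtype _ hK', List.toFinset_card_of_nodup hn]
  rw [← hc, ← h.sum K (hc ▸ h3) fun g hg => hs g ((hK g).1 hg),
    ← Finset.sum_subtype l.toFinset hK' t, List.sum_toFinset _ hn]

end Good

end CL.E8s
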