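/-
Subgroups of `E₈(3)`: semisimple elements, their eigenvalues on the adjoint module, toral Sylow subgroups.
-/
import Cfsg.Agent.Chev.AltSec11
import Cfsg.Agent.Chev.AlgSyl
import Cfsg.Agent.S1065
import Cfsg.Agent.Inv.E8s0

set_option autoImplicit false

namespace CL.E8s

open Cfsg Cfsg.Lie CL.Chev CL.Chev.Cert CL.AltEx CL.Chev.Alg Module Polynomial Matrix

theorem zpow_congr {M : Type*} [Group M] {ζ : M} {s : ℕ} (hζ : orderOf ζ = s) {a b : ℤ} (h : (s : ℤ) ∣ a - b) :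
    ζ ^ a = ζ ^ b := by
  rwa [← orderOf_dvd_sub_iff_zpow_eq_zpow, hζ]

section Abs

variable {ι Φ : Type} [Fintype ι] [DecidableEq ι] {R : RS ι Φ} {Ω : Type*} [Field Ω] {G : Type*} [Group G]
  {S : StSys R Ω G} {A : S.FrobSys} {F G₀ : Type*} [Field F] [Fintype F] [Group G₀] {S₀ : StSys R F G₀}
  (P : A.Split S₀)

/-- `g` is conjugate in the algebraic group to the torus element with coordinates `c`. -/
def TorA (g : G₀) (c : ι → Ωˣ) : Prop := IsConj (A.hMul.torus c) (P.ψ g)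

variable {P} {g : G₀} {c : ι → Ωˣ}

theorem TorA.pow (h : TorA P g c) (n : ℕ) : TorA P (g ^ n) (c ^ n) := by
  rw [TorA, map_pow, map_pow]; exact IsConj.pow n h

theorem TorA.conj (h : TorA P g c) {g' : G₀} (e : IsConj g g') : TorA P g' c := IsConj.trans h (P.ψ.map_isConj e)

theorem TorA.orderOf_eq (h : TorA P g c) (hk : Function.Injective A.hMul.torus) : orderOf c = orderOf g := by
  obtain ⟨k, e⟩ := isConj_iff.1 h
  rw [← orderOf_injective _ P.inj, ← e, ← orderOf_injective _ hk c]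
  exact ((MulAut.conj k).orderOf_eq _).symm

variable [Finite Φ] [IsAlgClosed Ω] [Uncountable Ω]

theorem TorA.of_isConj {w : Equiv.Perm Φ} (h : IsConj (P.ψ g) (A.emb w c)) : TorA P g c :=
  (isConj_iff.2 ⟨_, (A.emb_apply w c).symm⟩).trans h.symm

omit [IsAlgClosed Ω] [Uncountable Ω] in
theorem TorA.tAct (h : TorA P g c) {w : Equiv.Perm Φ} (hw : w ∈ R.W) : TorA P g (R.tAct w c) :=
  IsConj.trans (isConj_iff.2 ⟨_, A.hMul.conj_torus_of_induces (StSys.NW_induces (S.nW_mem_NW hw)) c⟩).symm h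

variable (P) (hk : Function.Injective A.hMul.torus)
include hk

theorem exists_alcoveA (hA : A.toAlgSys.Std) {s : ℕ} (hs : s.Coprime (Fintype.card F)) (h : g ^ s = 1) {ζ : Ωˣ}
    (hζ : orderOf ζ = s) : ∃ y, Alc R s y ∧ TorA P g (fun i => ζ ^ y i) ∧
      ∃ w ∈ R.W, R.tAct w (fun i => ζ ^ y i) = (fun i => ζ ^ y i) ^ Fintype.card F := by
  have h0 : s ≠ 0 := by rintro rfl; simp [Fintype.one_lt_card.ne'] at hs
  obtain ⟨w, hw, c, h1, k, h2⟩ := P.exists_conj_emb hA hk (n := s) hs h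
  have h3 : TorA P g c := (TorA.of_isConj (w := w) (by rw [h2])).conj (isConj_iff.2 ⟨k, rfl⟩).symm
  obtain ⟨y, rfl⟩ := exists_exp hζ h0 (c := c) (by
    rw [← orderOf_dvd_iff_pow_eq_one, h3.orderOf_eq hk, orderOf_dvd_iff_pow_eq_one, h])
  obtain ⟨v, hv, y', h4, h5⟩ := exists_alc (R := R) y (Nat.pos_of_ne_zero h0)
  have h6 : (fun i => ζ ^ y' i) = R.tAct v fun i => ζ ^ y i := funext fun k => by
    rw [RS.tAct_zpow]; exact zpow_congr hζ (h5 k)
  refine ⟨y', h4, h6 ▸ h3.tAct hv, v * (w⁻¹ * v⁻¹), mul_mem hv (mul_mem (inv_mem hw) (inv_mem hv)), ?_⟩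
  rw [h6, RS.tAct_mul (R.W_le_aut hv), RS.tAct_mul (R.W_le_aut (inv_mem hw)), RS.tAct_inv_tAct (R.W_le_aut hv),
    ← map_pow]
  congr 1
  conv_lhs => rw [← h1, map_pow, RS.tAct_inv_tAct (R.W_le_aut hw)]

theorem exists_sylowA [Finite G₀] {r a m n : ℕ} (hr : r.Prime) (hn : n = r ^ a)
    (hG : ¬ r ^ (a * m + 1) ∣ Nat.card G₀) {w : Equiv.Perm Φ} (hw : w ∈ R.W) (Y : Fin m → ι → ℤ)
    (hY : ∀ j k, (n : ℤ) ∣ (Y j ᵥ* R.wM w) k * Fintype.card F - Y j k) (κ : Fin m → ι)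
    (hκ : ∀ j j', Y j (κ j') = if j = j' then 1 else 0) {ζ : Ωˣ} (hζ : orderOf ζ = n) (hg : g ^ n = 1) :
    ∃ b : Fin m → ℕ, (∀ j, b j < n) ∧ ∃ c, c = (fun i => ζ ^ (∑ j, (b j : ℤ) • Y j) i) ∧
      R.tAct w c ^ Fintype.card F = c ∧ IsConj (P.ψ g) (A.emb w c) := by
  have := Fact.mk hr
  have h0 : NeZero n := ⟨by rw [hn]; exact pow_ne_zero _ hr.ne_zero⟩
  let c : Multiplicative (Fin m → ZMod n) →* (ι → Ωˣ) := MonoidHom.mk'
    (fun b i => ζ ^ (∑ j, ((b.toAdd j).val : ℤ) • Y j) i) fun b b' => funext fun i => by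
      rw [Pi.mul_apply, ← _root_.zpow_add]
      refine zpow_congr hζ ((ZMod.intCast_zmod_eq_zero_iff_dvd _ n).1 ?_)
      simp only [Finset.sum_apply, Pi.smul_apply, smul_eq_mul]
      simp [add_mul, Finset.sum_add_distrib]
  have hc : ∀ b, c b = fun i => ζ ^ (∑ j, ((b.toAdd j).val : ℤ) • Y j) i := fun _ => rfl
  have h1 : ∀ b, R.tAct w (c b) ^ Fintype.card F = c b := fun b => funext fun k => by
    rw [hc, RS.tAct_zpow, Pi.pow_apply, ← zpow_natCast, ← _root_.zpow_mul]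
    refine zpow_congr hζ ?_
    rw [Matrix.sum_vecMul, Finset.sum_apply, Finset.sum_apply, Finset.sum_mul, ← Finset.sum_sub_distrib]
    refine Finset.dvd_sum fun j _ => ?_
    rw [Matrix.smul_vecMul, Pi.smul_apply, Pi.smul_apply, smul_eq_mul, smul_eq_mul, mul_assoc, ← mul_sub]
    exact (hY j k).mul_left _
  obtain ⟨φ, hφ, h2⟩ := P.exists_torus_hom (e := 1) (m := n)
    (fun z hz => by rw [pow_one]; exact hk (hz.trans (map_one _).symm)) (Nat.coprime_one_right _) hw c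
    ((injective_iff_map_eq_one _).2 fun b hb => Multiplicative.toAdd.injective (funext fun j => by
      have h4 := congrFun hb (κ j)
      rw [hc, Pi.one_apply, ← orderOf_dvd_iff_zpow_eq_one, hζ, ← ZMod.intCast_zmod_eq_zero_iff_dvd] at h4
      simp only [Finset.sum_apply, Pi.smul_apply, smul_eq_mul] at h4
      simpa [hκ] using h4)) h1
    fun b => Multiplicative.toAdd.injective (funext fun j => by simp)
  have h4 : Nat.card φ.range = r ^ (a * m) := by
    rw [← Nat.card_congr (MonoidHom.ofInjective hφ).toEquiv, Nat.card_congr Multiplicative.toAdd, Nat.card_fun,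
      Nat.card_zmod, hn, pow_mul, Nat.card_eq_fintype_card, Fintype.card_fin]
  let Q₀ : Sylow r G₀ := (IsPGroup.of_card h4).toSylow fun e => hG (by
    rw [← φ.range.card_mul_index, h4, pow_succ]; exact Nat.mul_dvd_mul_left _ e)
  obtain ⟨Q, hQ⟩ := (show IsPGroup r (Subgroup.zpowers g) from fun x => ⟨a, by
    obtain ⟨_, i, rfl⟩ := x
    exact Subtype.ext (by
      change (g ^ i) ^ r ^ a = 1
      rw [← hn, ← zpow_natCast, ← _root_.zpow_mul, mul_comm, _root_.zpow_mul, zpow_natCast, hg,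
        _root_.one_zpow])⟩).exists_le_sylow
  obtain ⟨k, hk⟩ := MulAction.exists_smul_eq G₀ Q Q₀
  obtain ⟨b, hb⟩ : k * g * k⁻¹ ∈ φ.range := by
    change k * g * k⁻¹ ∈ Q₀
    rw [← hk]
    exact ⟨g, hQ (Subgroup.mem_zpowers g), rfl⟩
  exact ⟨fun j => (b.toAdd j).val, fun j => ZMod.val_lt _, c b, rfl, h1 b,
    h2 b ▸ hb ▸ P.ψ.map_isConj (isConj_iff.2 ⟨k, rfl⟩)⟩

theorem exists_of_regularA (hA : A.toAlgSys.Std) {m : ℕ} (h3 : (orderOf g).Coprime (Fintype.card F))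
    {w : Equiv.Perm Φ} (hw : w ∈ R.W) (hc : R.tAct w c ^ Fintype.card F = c) (hr : ∀ r, R.chi Ωˣ r c ≠ 1)
    (h : IsConj (P.ψ (g ^ m)) (A.emb w c)) :
    ∃ d : ι → Ωˣ, R.tAct w d ^ Fintype.card F = d ∧ orderOf d = orderOf g := by
  obtain ⟨v, hv, d, h1, h2, -⟩ := P.exists_tor_of_conj hk hA hw hc (J := ∅) (fun r h' => absurd h' (hr r)) h3 h
  have : v = 1 := by simpa [RS.WJ] using hv
  exact ⟨d, by rwa [this, one_mul] at h1, h2⟩

end Abs

section Real

variable {D : ChevalleyDatum} {E : Real D} {Ω : Type*} [Field Ω] {A : (E.Sg Ω).FrobSys} {F : Type*} [Field F]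
  [Fintype F] {P : A.Split (E.Sg F)}

theorem val_psiA (g : D.group F) : ((P.ψ g : GL D.Idx Ω) : Matrix D.Idx D.Idx Ω) =
    ((g : GL D.Idx F) : Matrix D.Idx D.Idx F).map P.f := by
  have := (E.Sg F).hom_ext_top P.top (a := (D.group Ω).subtype.comp P.ψ)
    (b := (GeneralLinearGroup.map P.f).comp (D.group F).subtype)
    (fun i t => (congrArg Subtype.val (P.ψ_x _ t)).trans (E.map_x _ _ t).symm)
    (fun i t => (congrArg Subtype.val (P.ψ_x _ t)).trans (E.map_x _ _ t).symm)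
  exact congrArg Units.val (DFunLike.congr_fun this g)

theorem val_torA (hM : (E.Sg Ω).HMul) (c : Fin D.rank → Ωˣ) : ((hM.torus c : GL D.Idx Ω) : Matrix D.Idx D.Idx Ω) =
    diagonal (Sum.elim (fun _ => 1) fun s => (E.R.chi Ωˣ s c : Ω)) := by
  induction c using Pi.mulSingle_induction with
  | one => simp
  | mul a b ha hb =>
    rw [map_mul, Subgroup.coe_mul, Units.val_mul, ha, hb, diagonal_mul_diagonal]
    congr; ext (i | i) <;> simp
  | mulSingle i t =>
    rw [hM.torus_mulSingle]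
    refine ((E.h_val _ _).trans (E.hMat_eq _ t.ne_zero)).trans ?_
    simp [RS.chi_mulSingle]

variable {g : D.group F} {c : Fin D.rank → Ωˣ}

theorem TorA.roots (h : TorA P g c) : (adj D Ω (P.ψ g)).charpoly.roots =
    Multiset.replicate D.rank 1 + Finset.univ.val.map fun r => (E.R.chi Ωˣ r c : Ω) := by
  obtain ⟨k, hk⟩ := isConj_iff.1 h
  have h1 : (adj D Ω (P.ψ g)).charpoly = ((P.ψ g : GL D.Idx Ω) : Matrix D.Idx D.Idx Ω).charpoly :=
    Matrix.charpoly_toLin' _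
  rw [h1, ← hk, Subgroup.coe_mul, Subgroup.coe_mul, Units.val_mul, Units.val_mul, Subgroup.coe_inv,
    Matrix.coe_units_inv, Matrix.charpoly_units_conj, val_torA, Matrix.charpoly_diagonal,
    Finset.prod_eq_multiset_prod, ← Function.comp_def (fun a => X - C a), ← Multiset.map_map,
    roots_multiset_prod_X_sub_C, ← Finset.univ_disjSum_univ, Finset.val_disjSum, Multiset.disjSum, Multiset.map_add,
    Multiset.map_map, Multiset.map_map]
  congr 1
  simp [Function.comp_def]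

theorem TorA.fx_eq (h : TorA P g c) : fx (adj D Ω (P.ψ g)) = D.rank + cz E.R E.R.root c := by
  have h1 := finrank_eigen_conj (adj D Ω) h 1
  rw [finrank_adj E A.hMul c, End.eigenspace_def, one_smul] at h1
  exact h1

end Real

/-- The universal domain. -/
abbrev Om : Type := Univ (ZMod 3)
/-- The group `E₈(3)`. -/
abbrev G3 : Type := chevE8.group (ZMod 3)
/-- The root system. -/
noncomputable abbrev R8 : RS (Fin 8) (Fin 240) := realE8.R

/-- The Frobenius setting. -/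
structure Cx where
  Fr : (realE8.Sg Om).FrobSys
  Sp : Fr.Split (realE8.Sg (ZMod 3))

theorem nonempty_cx : Nonempty Cx :=
  let ⟨A, ⟨P⟩⟩ := realE8.exists_split (algebraMap (ZMod 3) Om); ⟨⟨A, P⟩⟩

/-- A fixed setting. -/
noncomputable def cx : Cx := Classical.choice nonempty_cx
/-- The adjoint module over the universal domain. -/
noncomputable def rho : Representation Om G3 (chevE8.Idx → Om) := (adj chevE8 Om).comp cx.Sp.ψ

instance charP_Om : CharP Om 3 := charP_of_injective_ringHom cx.Sp.f.injective 3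

theorem tor_inj : Function.Injective cx.Fr.hMul.torus := (injective_iff_map_eq_one _).2 fun z hz => by
  have h := ((realE8.full Om).hMul.torus_eq_one_iff (realE8.full _).faithful.uFaithful (realE8.full _).adjoint
    realE8.cartanM_eq z).1 hz
  have := pow_eq_one_of_matPow (P := iE8) (e := 1) (by decide +kernel) h
  exact (pow_one z).symm.trans this

theorem card_G3 : Nat.card G3 = 3 ^ 120 * (3 ^ 2 - 1) * (3 ^ 8 - 1) * (3 ^ 12 - 1) * (3 ^ 14 - 1) * (3 ^ 18 - 1) *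
    (3 ^ 20 - 1) * (3 ^ 24 - 1) * (3 ^ 30 - 1) := Cfsg.Agent.S1065.result (F := ZMod 3) rfl

theorem exists_ord {n : ℕ} (hn : n.Coprime 3) : ∃ ζ : Omˣ, orderOf ζ = n :=
  exists_orderOf_units (by
    rw [Ne, CharP.cast_eq_zero_iff Om 3]; exact (Nat.Prime.coprime_iff_not_dvd Nat.prime_three).1 hn.symm)

/-- `g` is conjugate in the algebraic group to the torus element with coordinates `c`. -/
def Tor (g : G3) (c : Fin 8 → Omˣ) : Prop := TorA cx.Sp g c

namespace Tor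

variable {g : G3} {c : Fin 8 → Omˣ}

theorem pow (h : Tor g c) (n : ℕ) : Tor (g ^ n) (c ^ n) := TorA.pow h n
theorem conj (h : Tor g c) {g' : G3} (e : IsConj g g') : Tor g' c := TorA.conj h e
theorem orderOf_eq (h : Tor g c) : orderOf c = orderOf g := TorA.orderOf_eq h tor_inj

theorem roots (h : Tor g c) : (rho g).charpoly.roots =
    Multiset.replicate 8 1 + Finset.univ.val.map fun r : Fin 240 => (R8.chi Omˣ r c : Om) := TorA.roots h

theorem fx_eq (h : Tor g c) : fx (rho g) = 8 + cz R8 (fun (j : Fin 240) (i : Fin 8) => auxE8.rt j i) c :=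
  root_E8 ▸ TorA.fx_eq h

end Tor

/-- The normal form of a semisimple element. -/
theorem exists_alcove {g : G3} {s : ℕ} (hs : s.Coprime 3) (h : g ^ s = 1) {ζ : Omˣ} (hζ : orderOf ζ = s) :
    ∃ y, Alc R8 s y ∧ Tor g (fun i => ζ ^ y i) ∧
      ∃ w ∈ R8.W, R8.tAct w (fun i => ζ ^ y i) = (fun i => ζ ^ y i) ^ 3 :=
  exists_alcoveA cx.Sp tor_inj (realE8.std _) hs h hζ

/-- The matrix of a word in the simple reflections. -/
def wm (wd : List ℕ) (i k : ℕ) : ℤ := auxE8.co (auxE8.wact wd (auxE8.sim i)) k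

theorem exists_wM {wd : List ℕ} (h : ∀ i ∈ wd, i < 8) :
    ∃ w ∈ R8.W, R8.wM w = Matrix.of fun i k : Fin 8 => wm wd i k := by
  obtain ⟨w, hw, e⟩ := tabE8.exists_wact realE8 h
  refine ⟨w, hw, Matrix.ext fun i k => ?_⟩
  rw [Matrix.of_apply, wm, ← tabE8.simple realE8 i, ← e]
  exact tabE8.coroot realE8 _ k

/-- A toral Sylow subgroup `(ℤ/n)^m`. If the element is regular, the elements above it satisfy the polynomial
identities of the Weyl group element. -/
theorem exists_sylow {r a m n : ℕ} (hr : r.Prime) (hn : n = r ^ a) (hG : ¬ r ^ (a * m + 1) ∣ Nat.card G3)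
    {wd : List ℕ} (hw : ∀ i ∈ wd, i < 8) (Y : Fin m → Fin 8 → ℤ)
    (hY : ∀ j (k : Fin 8), (n : ℤ) ∣ (∑ i, Y j i * wm wd i k) * 3 - Y j k) (κ : Fin m → Fin 8)
    (hκ : ∀ j j', Y j (κ j') = if j = j' then 1 else 0) {ζ : Omˣ} (hζ : orderOf ζ = n) {g : G3} {l : ℕ}
    (hg : (g ^ l) ^ n = 1) :
    ∃ b : Fin m → ℕ, (∀ j, b j < n) ∧ Tor (g ^ l) (fun i => ζ ^ (∑ j, (b j : ℤ) • Y j) i) ∧
      ∀ p : List ℤ, annOK 8 (wm wd) p = true → (orderOf g).Coprime 3 →
        (∀ s, ¬ (n : ℤ) ∣ R8.evr (∑ j, (b j : ℤ) • Y j) s) → (orderOf g : ℤ) ∣ 1 + 3 * lval p 3 := by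
  obtain ⟨w, h1, h2⟩ := exists_wM hw
  obtain ⟨b, h3, c, rfl, h4, h5⟩ := exists_sylowA cx.Sp tor_inj hr hn hG h1 Y
    (fun j k => (congrArg (fun M => (n : ℤ) ∣ (Y j ᵥ* M) k * 3 - Y j k) h2).mpr (hY j k)) κ hκ hζ hg
  refine ⟨b, h3, TorA.of_isConj h5, fun p hp h6 h7 => ?_⟩
  obtain ⟨d, h8, h9⟩ := exists_of_regularA cx.Sp tor_inj (realE8.std _) h6 h1 h4 (fun s hs => h7 s (by
    rw [← hζ, orderOf_dvd_iff_zpow_eq_one]; exact (R8.chi_zpow s ζ _).symm.trans hs)) h5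
  have := annOK_sound hp (c := d) (q := 3) (h2 ▸ h8)
  rw [← h9]
  exact orderOf_dvd_iff_zpow_eq_one.2 this

end CL.E8s
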