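/-
Subgroups of `E₈(3)`: evaluation of functions on spectra.
-/
import Cfsg.Agent.Inv.E8sB1

set_option autoImplicit false

namespace CL.E8s

open Cfsg Cfsg.Lie CL.Chev CL.Chev.Cert CL.AltEx CL.Chev.Alg Module Polynomial Matrix Finset

open scoped Classical in
/-- The function with value `φ e` at `ζ ^ e`. -/
noncomputable def lg {Ω : Type*} [Field Ω] (ζ : Ωˣ) (n : ℕ) (φ : ℕ → ℕ) (z : Ω) : ℕ :=
  ∑ e ∈ range n, if z = (ζ ^ e : Ωˣ) then φ e else 0

theorem lg_zpow {Ω : Type*} [Field Ω] {ζ : Ωˣ} {n : ℕ} (hζ : orderOf ζ = n) (hn : 0 < n) (φ : ℕ → ℕ) {m : ℤ} {e : ℕ}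
    (h : (n : ℤ) ∣ m - e) : lg ζ n φ (ζ ^ m : Ωˣ) = φ (e % n) := by
  have h1 : ζ ^ m = ζ ^ (e % n) := by rw [zpow_congr hζ h, zpow_natCast, ← hζ, pow_mod_orderOf]
  rw [lg, h1, sum_eq_single_of_mem (e % n) (mem_range.2 (Nat.mod_lt _ hn)), if_pos rfl]
  intro b hb hne
  exact if_neg fun h' => hne (pow_injOn_Iio_orderOf (hζ.symm ▸ mem_range.1 hb : b < orderOf ζ)
    (hζ.symm ▸ Nat.mod_lt _ hn : e % n < orderOf ζ) (Units.ext h').symm)

theorem lg_one {Ω : Type*} [Field Ω] {ζ : Ωˣ} {n : ℕ} (hζ : orderOf ζ = n) (hn : 0 < n) (φ : ℕ → ℕ) :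
    lg ζ n φ 1 = φ 0 := by
  simpa using lg_zpow hζ hn φ (m := 0) (e := 0) (by simp)

/-- The sum of `φ` over the root values of the point `(a, b)`. -/
def sm (φ : ℕ → ℕ) (n a b : ℕ) (L : List (ℕ × ℕ)) : ℕ :=
  List.rec 0 (fun p _ ih => Nat.add (φ (Nat.mod (Nat.add (Nat.mul a p.1) (Nat.mul b p.2)) n)) ih) L

theorem sm_listTo (φ : ℕ → ℕ) (n a b m : ℕ) (u v : ℕ → ℕ) :
    sm φ n a b (listTo m fun r => (u r, v r)) = ∑ r : Fin m, φ ((a * u r + b * v r) % n) := by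
  rw [Fin.sum_univ_eq_sum_range fun r => φ ((a * u r + b * v r) % n)]
  induction m with
  | zero => rfl
  | succ m ih => rw [sum_range_succ_comm, ← ih]; rfl

/-- The value of the root `r` on `y`, reduced mod `n`. -/
def rv (n : ℕ) (y : List ℤ) (r : ℕ) : ℕ := ((sumTo 8 fun i => y.getD i 0 * auxE8.ca i r) % n).toNat

/-- The table of root values. -/
def rvL (n : ℕ) (y z : List ℤ) : List (ℕ × ℕ) := listTo 240 fun r => (rv n y r, rv n z r)

/-- A pair of vectors. -/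
def Y2 (y z : List ℤ) : Fin 2 → Fin 8 → ℤ := ![fun i => y.getD i 0, fun i => z.getD i 0]

theorem dvd_evr_rv {n : ℕ} (hn : 0 < n) (y : List ℤ) (r : Fin 240) :
    (n : ℤ) ∣ R8.evr (fun i => y.getD i 0) r - rv n y r := by
  have h1 : R8.evr (fun i => y.getD i 0) r = sumTo 8 fun i => y.getD i 0 * auxE8.ca i r := by
    rw [RS.ev_eq, sumTo_eq, ← Fin.sum_univ_eq_sum_range fun i => y.getD i 0 * auxE8.ca i r]
    exact sum_congr rfl fun i _ => congrArg _ (tabE8.pair_simple realE8 i r)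
  rw [h1, rv, Int.toNat_of_nonneg (Int.emod_nonneg _ (by exact_mod_cast hn.ne'))]
  exact Int.dvd_self_sub_emod

theorem dvd_evr {n : ℕ} (hn : 0 < n) (y z : List ℤ) (b : Fin 2 → ℕ) (r : Fin 240) :
    (n : ℤ) ∣ R8.evr (∑ j, (b j : ℤ) • Y2 y z j) r - (b 0 * rv n y r + b 1 * rv n z r : ℕ) := by
  rw [Fin.sum_univ_two, RS.ev_add, RS.ev_smul, RS.ev_smul]
  have := dvd_add ((dvd_evr_rv hn y r).mul_left (b 0)) ((dvd_evr_rv hn z r).mul_left (b 1))
  refine this.trans (dvd_of_eq ?_)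
  simp only [Y2, cons_val_zero, cons_val_one]
  push_cast; ring

theorem Tor.sum_lg {g : G3} {n : ℕ} (hn : 0 < n) {ζ : Omˣ} (hζ : orderOf ζ = n) {y z : List ℤ} {b : Fin 2 → ℕ}
    (h : Tor g fun i => ζ ^ (∑ j, (b j : ℤ) • Y2 y z j) i) (φ : ℕ → ℕ) :
    ((rho g).charpoly.roots.map (lg ζ n φ)).sum = 8 * φ 0 + sm φ n (b 0) (b 1) (rvL n y z) := by
  rw [h.roots, Multiset.map_add, Multiset.sum_add, Multiset.map_replicate, Multiset.sum_replicate, lg_one hζ hn,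
    Multiset.map_map, rvL, sm_listTo, smul_eq_mul]
  refine congrArg _ ((sum_eq_multiset_sum _ _).symm.trans (sum_congr rfl fun r _ => ?_))
  rw [Function.comp_apply, RS.chi_zpow, lg_zpow hζ hn φ (dvd_evr hn y z b r)]

theorem card_roots_rho {g : G3} {c : Fin 8 → Omˣ} (h : Tor g c) : (rho g).charpoly.roots.card = 248 := by
  rw [h.roots, Multiset.card_add, Multiset.card_replicate, Multiset.card_map, ← card_def, card_univ, Fintype.card_fin]

/-- The test of Lucas. -/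
def luc (f : ℕ) : ℕ → ℕ → Bool := Nat.rec (fun _ i => Nat.beq i 0)
  (fun _ ih k i => Nat.ble (Nat.mod i 3) (Nat.mod k 3) && ih (Nat.div k 3) (Nat.div i 3)) f

theorem luc_iff (f : ℕ) : ∀ k i, k < 3 ^ f → (luc f k i = true ↔ ¬ 3 ∣ k.choose i) := by
  induction f with
  | zero =>
    intro k i hk
    obtain rfl : k = 0 := by simpa using hk
    cases i <;> simp [luc]
  | succ f ih =>
    intro k i hk
    have h1 := (Choose.choose_modEq_choose_mod_mul_choose_div_nat (n := k) (k := i) (p := 3)).dvd_iff dvd_rfl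
    have h2 : ∀ a < 3, ∀ b < 3, (¬ 3 ∣ Nat.choose a b ↔ b ≤ a) := by decide
    rw [h1, Nat.prime_three.dvd_mul, not_or, h2 _ (Nat.mod_lt _ three_pos) _ (Nat.mod_lt _ three_pos),
      ← ih (k / 3) (i / 3) (by omega), ← Nat.ble_eq, ← Bool.and_eq_true]
    rfl

/-- The sum of `φ i` over the `i ≤ k` with `3 ∤ C(k, i)`. -/
def wsum (φ : ℕ → ℕ) (k : ℕ) : ℕ := Nat.rec 0 (fun i ih => Nat.add (cond (luc 6 k i) (φ i) 0) ih) (Nat.succ k)

theorem wsum_eq (φ : ℕ → ℕ) {k : ℕ} (hk : k < 729) :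
    wsum φ k = (((Multiset.range (k + 1)).filter fun i => ¬ 3 ∣ k.choose i).map φ).sum := by
  have : ∀ m, Nat.rec (motive := fun _ => ℕ) 0 (fun i ih => Nat.add (cond (luc 6 k i) (φ i) 0) ih) m =
      (((Multiset.range m).filter fun i => ¬ 3 ∣ k.choose i).map φ).sum := fun m => by
    induction m with
    | zero => rfl
    | succ m ih =>
      rw [Multiset.range_succ, Multiset.filter_cons, Multiset.map_add, Multiset.sum_add, ← ih]
      by_cases h : 3 ∣ k.choose m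
      · rw [if_neg (not_not.2 h)]
        change cond (luc 6 k m) (φ m) 0 + _ = _
        rw [Bool.eq_false_iff.2 fun h' => (luc_iff 6 k m hk).1 h' h]; rfl
      · rw [if_pos h]
        change cond (luc 6 k m) (φ m) 0 + _ = _
        rw [(luc_iff 6 k m hk).2 h]; simp
  exact this (k + 1)

/-- The exponent `k - 2 i` reduced mod `n`. -/
def ex (n k i : ℕ) : ℕ := Nat.mod (Nat.add k (Nat.mul (Nat.mul 2 (Nat.pred n)) i)) n

theorem sum_lg_wts {Ω : Type*} [Field Ω] {ζ : Ωˣ} {n : ℕ} (hζ : orderOf ζ = n) (hn : 0 < n) (φ : ℕ → ℕ) {k : ℕ}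
    (hk : k < 729) : ((((((Multiset.range (k + 1)).filter fun i => ¬ 3 ∣ k.choose i).map
      fun i => (k : ℤ) - 2 * (i : ℕ)).map fun e => ((ζ ^ e : Ωˣ) : Ω)).map (lg ζ n φ)).sum) =
      wsum (fun i => φ (ex n k i)) k := by
  rw [wsum_eq _ hk, Multiset.map_map, Multiset.map_map]
  refine congrArg _ (Multiset.map_congr rfl fun i _ => lg_zpow hζ hn φ ⟨-2 * i, ?_⟩)
  obtain ⟨n, rfl⟩ := Nat.exists_eq_succ_of_ne_zero hn.ne'
  simp only [Nat.pred_succ, Nat.add_eq, Nat.mul_eq]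
  push_cast; ring

/-- A byte of `F`. -/
def dg (F e : ℕ) : ℕ := Nat.mod (Nat.shiftRight F (Nat.mul 8 e)) 256

end CL.E8s
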