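/-
Subgroups of `E₈(3)`: elements of order `121`, `73`, `41`, `31`, `2`.
-/
import Cfsg.Agent.Inv.E8sC1
import Cfsg.Agent.Inv.E8sC2

set_option autoImplicit false

namespace CL.E8s

open Cfsg Cfsg.Lie CL.Chev CL.Chev.Cert CL.AltEx CL.Chev.Alg Module Polynomial Matrix Finset

/-- The weights of the simple module with highest weight `k`. -/
abbrev wt3 (k : ℕ) : Multiset ℤ :=
  ((Multiset.range (k + 1)).filter fun i => ¬ 3 ∣ k.choose i).map fun i => (k : ℤ) - 2 * (i : ℕ)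

/-- The spectrum of `diag(l, l⁻¹)` on a module with composition factors `K`. -/
noncomputable abbrev spc (K : Multiset ℕ) (l : Omˣ) : Multiset Om := K.bind fun k => (wt3 k).map fun e => ((l ^ e : Omˣ) : Om)

theorem sum_spc {K : Multiset ℕ} (hK : ∀ k ∈ K, k < 729) {ζ : Omˣ} {n : ℕ} (hζ : orderOf ζ = n) (hn : 0 < n)
    (φ : ℕ → ℕ) : ((spc K ζ).map (lg ζ n φ)).sum = (K.map fun k => wsum (fun i => φ (ex n k i)) k).sum := by
  rw [spc, Multiset.map_bind, Multiset.sum_bind]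
  exact congrArg _ (Multiset.map_congr rfl fun k hk => sum_lg_wts hζ hn φ (hK k hk))

theorem card_spc {K : Multiset ℕ} (hK : ∀ k ∈ K, k < 729) (ζ : Omˣ) (c : ℕ) :
    (K.map fun k => wsum (fun _ => c) k).sum = (spc K ζ).card * c := by
  rw [spc, Multiset.card_bind, ← Multiset.sum_map_mul_right]
  refine congrArg _ (Multiset.map_congr rfl fun k hk => ?_)
  rw [wsum_eq _ (hK k hk), Multiset.map_const', Multiset.sum_replicate, Function.comp_apply, Multiset.card_map,
    Multiset.card_map, smul_eq_mul]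

theorem wsum_add (φ ψ : ℕ → ℕ) {k : ℕ} (hk : k < 729) : wsum (fun i => φ i + ψ i) k = wsum φ k + wsum ψ k := by
  simp only [wsum_eq _ hk, Multiset.sum_map_add]

theorem chunk {f : ℕ → Bool} {s m a : ℕ} (h : allLt m (fun a => force (Nat.add s a) f) = true) (h1 : s ≤ a)
    (h2 : a < s + m) : f a = true := by
  have := (allLt_iff _ _).1 h (a - s) (by omega)
  rwa [force_eq, Nat.add_eq, Nat.add_sub_cancel' h1] at this

theorem ok121_all {a : ℕ} (h : a < 121) : ok121 a = true := by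
  by_cases h0 : a < 11; · exact chunk ok121_0 (by omega) (by omega)
  by_cases h0 : a < 22; · exact chunk ok121_1 (by omega) (by omega)
  by_cases h0 : a < 33; · exact chunk ok121_2 (by omega) (by omega)
  by_cases h0 : a < 44; · exact chunk ok121_3 (by omega) (by omega)
  by_cases h0 : a < 55; · exact chunk ok121_4 (by omega) (by omega)
  by_cases h0 : a < 66; · exact chunk ok121_5 (by omega) (by omega)
  by_cases h0 : a < 77; · exact chunk ok121_6 (by omega) (by omega)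
  by_cases h0 : a < 88; · exact chunk ok121_7 (by omega) (by omega)
  by_cases h0 : a < 99; · exact chunk ok121_8 (by omega) (by omega)
  by_cases h0 : a < 110; · exact chunk ok121_9 (by omega) (by omega)
  exact chunk ok121_10 (by omega) (by omega)

theorem ok73_all {a : ℕ} (h : a < 73) : ok73 a = true := by
  by_cases h0 : a < 15; · exact chunk ok73_0 (by omega) (by omega)
  by_cases h0 : a < 30; · exact chunk ok73_1 (by omega) (by omega)
  by_cases h0 : a < 45; · exact chunk ok73_2 (by omega) (by omega)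
  by_cases h0 : a < 60; · exact chunk ok73_3 (by omega) (by omega)
  exact chunk ok73_4 (by omega) (by omega)

theorem wt73_all {a : ℕ} (h : a < 365) : wt73 a = true := by
  by_cases h0 : a < 230; · exact (allLt_iff _ _).1 wt73_0 a h0
  by_cases h0 : a < 310; · exact chunk wt73_1 (by omega) (by omega)
  exact chunk wt73_2 (by omega) (by omega)

theorem T121_lt : allLt 14641 (fun i => Nat.blt (dig T121 4 i) 10) = true := by decide +kernel
theorem T73_lt : allLt 5329 (fun i => Nat.blt (dig T73a 4 i) 8 && Nat.blt (dig T73b 4 i) 8) = true := by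
  decide +kernel

theorem exp_eq_one {ζ : Omˣ} {n m : ℕ} (hζ : orderOf ζ = n) {b : Fin 2 → ℕ} (h : ∀ j, n ∣ b j * m)
    (Y : Fin 2 → Fin 8 → ℤ) : (fun i => ζ ^ (∑ j, (b j : ℤ) • Y j) i) ^ m = 1 := funext fun i => by
  rw [Pi.pow_apply, ← zpow_natCast, ← _root_.zpow_mul, Pi.one_apply, ← orderOf_dvd_iff_zpow_eq_one, hζ,
    Finset.sum_apply, sum_mul]
  refine dvd_sum fun j _ => ?_
  rw [Pi.smul_apply, smul_eq_mul, mul_right_comm]
  exact Dvd.dvd.mul_right (by exact_mod_cast h j) _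

theorem no243 {x : G3} (hx : orderOf x = 121) {ζ : Omˣ} (hζ : orderOf ζ = 121) {K : Multiset ℕ}
    (hK : ∀ k ∈ K, k < 243 ∧ Even k) (h : (rho x).charpoly.roots = spc K ζ) : False := by
  obtain ⟨b, hb, h1, -⟩ := exists_sylow (r := 11) (a := 2) (m := 2) (n := 121) (by norm_num) rfl
    (by rw [card_G3]; decide +kernel) (wd := [0, 1, 2, 3, 4, 5, 6, 7, 0, 1, 2, 3, 4, 5, 6, 7, 0, 1, 2, 3, 4, 5, 6, 7,
      0, 1, 2, 3, 4, 5, 6, 7, 0, 1, 2, 3, 4, 5, 6, 7, 0, 1, 2, 3, 4, 5, 6, 7]) (by decide) (Y2 y121 z121)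
    (by decide +kernel) ![0, 1] (by decide +kernel) hζ (g := x) (l := 1) (by rw [pow_one, ← hx, pow_orderOf_eq_one])
  rw [pow_one] at h1
  have hK' : ∀ k ∈ K, k < 729 := fun k hk => (hK k hk).1.trans (by norm_num)
  have h2 := (allLt_iff _ _).1 (ok121_all (hb 0)) _ (hb 1)
  simp only [Bool.or_eq_true, Bool.and_eq_true, Nat.beq_eq, force_eq, Nat.blt_eq, Nat.add_eq, Nat.mul_eq] at h2
  rcases h2 with ⟨h2, h3⟩ | h2
  · have := orderOf_dvd_of_pow_eq_one (exp_eq_one (m := 11) hζ (b := b) (Fin.forall_fin_two.2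
      ⟨Nat.mul_dvd_mul_right (Nat.dvd_of_mod_eq_zero h2) 11, Nat.mul_dvd_mul_right (Nat.dvd_of_mod_eq_zero h3) 11⟩)
      (Y2 y121 z121))
    rw [h1.orderOf_eq, hx] at this
    exact absurd this (by decide)
  have h3 := (allLt_iff _ _).1 T121_lt (121 * b 0 + b 1) (by have := hb 0; have := hb 1; omega)
  rw [Nat.blt_eq] at h3
  generalize hF : F121.getD (dig T121 4 (121 * b 0 + b 1)) 0 = F at h2
  have h4 : F ∈ F121 := by rw [← hF, List.getD_eq_getElem _ _ h3]; exact List.getElem_mem _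
  rw [← rvL121, ← h1.sum_lg (by norm_num) hζ, h, sum_spc hK' hζ (by norm_num)] at h2
  refine absurd h2 (not_lt.2 (le_trans (le_of_eq ?_) (Multiset.sum_map_le_sum_map (fun k => wsum (fun _ => 12) k) _
    fun k hk => ?_)))
  · rw [card_spc hK' ζ, ← h, card_roots_rho h1]
  · obtain ⟨h5, j, rfl⟩ := hK k hk
    have := (allLt_iff _ _).1 (wt121 F h4) j (by omega)
    rwa [force_eq, Nat.ble_eq, Nat.mul_eq, two_mul] at this

theorem rat2 : ratOK 8 240 auxE8.rt th8 2 1 (fun a k => a.all (fun z => beqZ (z % (2 : ℕ)) 0) ||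
    (Nat.beq k 128 || Nat.beq k 112)) = true := by decide +kernel

theorem th8_pos : ∀ i < 8, 0 < th8 i := by decide

theorem cl8 : Cl R8 fun (j : Fin 240) (i : Fin 8) => auxE8.rt j i := root_E8 ▸ cl_root _

theorem evr_eq (y : Fin 8 → ℤ) (r : Fin 240) : R8.evr y r = ∑ i : Fin 8, auxE8.rt r i * R8.evr y (R8.simple i) :=
  (evr_eq_sum R8 y r).trans (sum_congr rfl fun i _ => congrArg (· * _) (tabE8.root realE8 r i))

theorem Tor.eq_one {g : G3} {s : ℕ} {ζ : Omˣ} (hζ : orderOf ζ = s) {y : Fin 8 → ℤ} (h : Tor g fun i => ζ ^ y i)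
    (hy : ∀ i, (s : ℤ) ∣ R8.evr y (R8.simple i)) : g = 1 := by
  rw [← orderOf_eq_one_iff, ← h.orderOf_eq, orderOf_eq_one_iff]
  funext k
  rw [Pi.one_apply, ← orderOf_dvd_iff_zpow_eq_one, hζ]
  have h1 : ∀ i, R8.evr y (R8.simple i) = (y ᵥ* CL.Cox.cE8) i := fun i => by
    rw [RS.ev_eq]
    exact sum_congr rfl fun j _ => congrArg _ ((R8.pair_simple_simple j i).trans
      (congrFun (congrFun (realE8.cartanM_eq.trans datCartan_E8) j) i))
  have h2 : y = (y ᵥ* CL.Cox.cE8) ᵥ* iE8 := by rw [vecMul_vecMul, inv_E8]; simp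
  rw [h2]
  exact dvd_sum (s := univ) fun i _ => Dvd.dvd.mul_right (h1 i ▸ hy i) (iE8 i k)

theorem cz_eq {ι Φ κ M : Type} [Fintype ι] [DecidableEq ι] (R : RS ι Φ) [CommGroup M] [Fintype κ] (L : κ → ι → ℤ)
    (c : ι → M) [DecidablePred fun j => chr R (L j) c = 1] : cz R L c = #{j | chr R (L j) c = 1} := by
  rw [cz]; congr

theorem sum_inv {t : G3} (ht : orderOf t = 2) {ι : Omˣ} (hι : orderOf ι = 4) : ∃ m, (m = 136 ∨ m = 120) ∧ ∀ u v : ℕ,
    ((rho t).charpoly.roots.map (lg ι 4 fun e => cond (Nat.beq e 0) u v)).sum = m * u + (248 - m) * v := by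
  classical
  have hζ : orderOf (ι ^ 2) = 2 := by rw [orderOf_pow_of_dvd two_ne_zero (by rw [hι]; decide), hι]
  obtain ⟨y, h1, h2, -⟩ := exists_alcove (g := t) (s := 2) (by decide) (ht ▸ pow_orderOf_eq_one t) hζ
  obtain ⟨a, h3, h4⟩ := ratOK_sound cl8 th8_pos root_th8 rat2 hζ h1 (one_mem _) (by simp)
  simp only [Bool.or_eq_true, all_listTo, beqZ_iff, Nat.beq_eq] at h4
  rcases h4 with h4 | h4
  · have := h2.eq_one hζ fun i => h3 i ▸ Int.dvd_of_emod_eq_zero (h4 i i.2)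
    rw [this, orderOf_one] at ht
    exact absurd ht (by decide)
  refine ⟨8 + cz R8 (fun (j : Fin 240) (i : Fin 8) => auxE8.rt j i) fun i => (ι ^ 2) ^ y i, by omega, fun u v => ?_⟩
  rw [h2.roots, Multiset.map_add, Multiset.sum_add, Multiset.map_replicate, Multiset.sum_replicate,
    lg_one hι four_pos, Multiset.map_map, ← sum_eq_multiset_sum, sum_congr rfl (g := fun r : Fin 240 =>
      if chr R8 (fun i => auxE8.rt r i) (fun i => (ι ^ 2) ^ y i) = 1 then u else v) fun r _ => ?_, sum_ite,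
    sum_const, sum_const, filter_not, card_sdiff_of_subset (filter_subset _ _), card_univ, Fintype.card_fin, cz_eq]
  · simp only [smul_eq_mul, Nat.beq_refl, cond_true]
    rw [add_mul, Nat.sub_add_eq, add_assoc]
  rw [Function.comp_apply, RS.chi_zpow, chr_zpow, ← evr_eq]
  simp only [← orderOf_dvd_iff_zpow_eq_one, hζ]
  rw [← zpow_natCast, ← _root_.zpow_mul]
  split_ifs with h5
  · exact lg_zpow hι four_pos _ (e := 0) (by omega)
  · exact lg_zpow hι four_pos _ (e := 2) (by omega)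

theorem no729 {g t : G3} (hg : orderOf g = 365) (ht : orderOf t = 2) {ζ ι : Omˣ} (hζ : orderOf ζ = 73)
    (hι : orderOf ι = 4) {K : Multiset ℕ} (hK : ∀ k ∈ K, k < 729 ∧ Even k)
    (h : (rho (g ^ 5)).charpoly.roots = spc K ζ) (h' : (rho t).charpoly.roots = spc K ι) : False := by
  obtain ⟨b, hb, h1, hr⟩ := exists_sylow (r := 73) (a := 1) (m := 2) (n := 73) (by norm_num) rfl
    (by rw [card_G3]; decide +kernel) (wd := [1, 3, 5, 2, 6, 7, 4, 3, 4, 0, 1, 3, 5, 2, 6, 7, 4, 3, 4, 0]) (by decide)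
    (Y2 y73 z73) (by decide +kernel) ![0, 1] (by decide +kernel) hζ (g := g) (l := 5)
    (by rw [← pow_mul, show 5 * 73 = orderOf g from hg.symm, pow_orderOf_eq_one])
  have hK' : ∀ k ∈ K, k < 729 := fun k hk => (hK k hk).1
  have h2 := (allLt_iff _ _).1 (ok73_all (hb 0)) _ (hb 1)
  simp only [Bool.or_eq_true, Bool.and_eq_true, Nat.beq_eq] at h2
  rcases h2 with (⟨h2, h3⟩ | h2) | h2
  · have := orderOf_dvd_of_pow_eq_one (exp_eq_one (m := 1) hζ (b := b) (Fin.forall_fin_two.2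
      ⟨by simp [h2], by simp [h3]⟩) (Y2 y73 z73))
    rw [h1.orderOf_eq, orderOf_pow_of_dvd (by norm_num) (by rw [hg]; decide), hg] at this
    exact absurd this (by decide)
  · have := hr [0, -1, 0, 1] (by decide +kernel) (by rw [hg]; decide) fun s hs => by
      rw [← rvL73, rvL, sm_listTo, sum_eq_zero_iff] at h2
      have h3 := h2 s (mem_univ _)
      have h4 := (Int.dvd_iff_dvd_of_dvd_sub (dvd_evr (n := 73) (by norm_num) y73 z73 b s)).1 hs
      rw [Nat.mod_eq_zero_of_dvd (Int.natCast_dvd_natCast.1 h4)] at h3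
      exact absurd h3 (by decide)
    rw [hg] at this
    exact absurd this (by decide)
  obtain ⟨m, hm, h3⟩ := sum_inv ht hι
  have h4 := (allLt_iff _ _).1 T73_lt (73 * b 0 + b 1) (by have := hb 0; have := hb 1; omega)
  rw [Bool.and_eq_true, Nat.blt_eq, Nat.blt_eq] at h4
  obtain ⟨T, h5, h6⟩ : ∃ T, ck73 T m (b 0) (b 1) = true ∧ dig T 4 (73 * b 0 + b 1) < 8 := by
    rcases hm with rfl | rfl
    exacts [⟨_, h2.1, h4.1⟩, ⟨_, h2.2, h4.2⟩]
  simp only [ck73, force_eq, Nat.blt_eq, Nat.add_eq, Nat.mul_eq, Nat.sub_eq] at h5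
  generalize hF : F73.getD (dig T 4 (73 * b 0 + b 1)) 0 = F at h5
  have h7 : F ∈ F73 := by rw [← hF, List.getD_eq_getElem _ _ h6]; exact List.getElem_mem _
  rw [← rvL73, ← h1.sum_lg (by norm_num) hζ, ← h3, h, h', sum_spc hK' hζ (by norm_num), sum_spc hK' hι four_pos,
    ← Multiset.sum_map_add] at h5
  refine absurd h5 (not_lt.2 (le_trans (le_of_eq ?_) (Multiset.sum_map_le_sum_map (fun k => wsum (fun _ => 6) k) _
    fun k hk => ?_)))
  · rw [card_spc hK' ζ, ← h, card_roots_rho h1]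
  · obtain ⟨h8, j, rfl⟩ := hK k hk
    have := wt73_all (a := j) (by omega)
    rw [wt73, force_eq, forceNL_eq, List.all_eq_true, Nat.mul_eq, two_mul] at this
    have := this F h7
    rw [Nat.ble_eq, lsum_wl, lsum_wl] at this
    exact this.trans (wsum_add _ _ h8).le

theorem no41 {x : G3} (hx : orderOf x = 41) (h : IsConj (x ^ 4) x) : False := by
  obtain ⟨ζ, hζ⟩ := exists_ord (n := 41) (by decide)
  obtain ⟨b, hb, h1, -⟩ := exists_sylow (r := 41) (a := 1) (m := 2) (n := 41) (by norm_num) rfl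
    (by rw [card_G3]; decide +kernel) (wd := [1, 3, 5, 2, 6, 7, 4, 3, 4, 0, 1, 3, 5, 2, 6, 7, 4, 3, 4, 0, 1, 3, 5, 2,
      6, 7, 4, 3, 4, 0]) (by decide) (Y2 y41 z41) (by decide +kernel) ![0, 1] (by decide +kernel) hζ (g := x) (l := 1)
    (by rw [pow_one, ← hx, pow_orderOf_eq_one])
  rw [pow_one] at h1
  have h2 : ok41 (b 0) = true := by
    by_cases h0 : b 0 < 21
    · exact force_eq _ ok41 ▸ (allLt_iff _ _).1 ok41_0 _ h0
    · exact chunk ok41_1 (by omega) (by have := hb 0; omega)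
  replace h2 := (allLt_iff _ _).1 h2 _ (hb 1)
  simp only [Bool.or_eq_true, Bool.and_eq_true, Nat.beq_eq, Bool.not_eq_true'] at h2
  rcases h2 with ⟨h2, h3⟩ | h2
  · have := orderOf_dvd_of_pow_eq_one (exp_eq_one (m := 1) hζ (b := b) (Fin.forall_fin_two.2
      ⟨by simp [h2], by simp [h3]⟩) (Y2 y41 z41))
    rw [h1.orderOf_eq, hx] at this
    exact absurd this (by decide)
  have h3 : Tor x fun i => ζ ^ (∑ j, ((4 * b j : ℕ) : ℤ) • Y2 y41 z41 j) i := by
    refine (congrArg (Tor x) (funext fun i => ?_)).mpr ((h1.pow 4).conj h)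
    rw [Pi.pow_apply, ← zpow_natCast, ← _root_.zpow_mul]
    refine congrArg (ζ ^ ·) ?_
    simp only [Fin.sum_univ_two, Pi.add_apply, Pi.smul_apply, smul_eq_mul]
    push_cast; ring
  have h4 := (h1.sum_lg (by norm_num) hζ (Nat.pow 256)).symm.trans (h3.sum_lg (by norm_num) hζ (Nat.pow 256))
  rw [rvL41] at h4
  exact Nat.ne_of_beq_eq_false h2 (add_left_cancel h4)

theorem fx31 {x : G3} (hx : x ^ 31 = 1) (h : x ≠ 1) : fx (rho x) = 8 := by
  obtain ⟨ζ, hζ⟩ := exists_ord (n := 31) (by decide)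
  obtain ⟨b, hb, h1, -⟩ := exists_sylow (r := 31) (a := 1) (m := 1) (n := 31) (by norm_num) rfl
    (by rw [card_G3]; decide +kernel) (wd := [0, 1, 2, 3, 4, 5, 6, 7]) (by decide)
    (fun _ i => [1, 11, 4, 13, 7, 20, 28, 21].getD i 0) (by decide +kernel) ![0] (by decide +kernel) hζ (g := x)
    (l := 1) (by rwa [pow_one])
  rw [pow_one, Fin.sum_univ_one] at h1
  classical
  rw [h1.fx_eq, cz_eq, card_eq_zero.2 (filter_eq_empty_iff.2 fun r _ hr => ?_)]
  rw [chr_zpow, ← evr_eq, ← orderOf_dvd_iff_zpow_eq_one, hζ, RS.ev_smul] at hr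
  rcases (Int.prime_iff_natAbs_prime.2 (by norm_num) : Prime ((31 : ℕ) : ℤ)).dvd_or_dvd hr with h2 | h2
  · exact h (h1.eq_one hζ fun i => by rw [RS.ev_smul]; exact h2.mul_right _)
  · exact (by decide +kernel : ∀ r : Fin 240, ¬ ((31 : ℕ) : ℤ) ∣ rv 31 [1, 11, 4, 13, 7, 20, 28, 21] r) r
      ((Int.dvd_iff_dvd_of_dvd_sub (dvd_evr_rv (by norm_num) _ r)).1 h2)

end CL.E8s
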