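/-
The sum of a Brauer character over a `p'`-subgroup is the order times the dimension of the fixed space.
-/
import Cfsg.Agent.Blk.IBrDec
import Cfsg.Agent.Blk.Principal
import Cfsg.Agent.Inv.E8s0

set_option autoImplicit false

namespace CL.E8s

open Cfsg CL.Char CL.Blk CL.Blk.Rk Module MonoidAlgebra
open scoped MonoidAlgebra

variable {G : Type*} [Group G] [Finite G] {p : ℕ} {M : Ideal AlgInt}
variable {V : Type*} [AddCommGroup V] [Module (resField M) V] [FiniteDimensional (resField M) V]

theorem idem_avgIdem (L : Subgroup G) : IsIdempotentElem (avgIdem L) := avgIdem_mul_self L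

theorem evalFun_avgIdem (χ : G → ℂ) (L : Subgroup G) [Fintype L] :
    evalFun χ (avgIdem L) = (Nat.card L : ℂ)⁻¹ * ∑ u : L, χ u := by
  simpa [← one_def] using evalFun_single_mul_avgIdem χ L 1

omit [FiniteDimensional (resField M) V] in
/-- The rank of the averaging idempotent is the dimension of the fixed space. -/
theorem rk_avgIdem (hM : IsPModular p M) (σ : Representation (resField M) G V) {L : Subgroup G}
    (hL : ¬ p ∣ Nat.card L) :
    rk (σ.asAlgebraHom (redG M (avgIdem L))) = finrank (resField M) (fixS σ L) := by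
  have := Fintype.ofFinite G
  have := Fintype.ofFinite L
  have := charP_resField hM
  have h0 : (Nat.card L : resField M) ≠ 0 := by rwa [Ne, CharP.cast_eq_zero_iff _ p]
  have h1 : ∀ v, σ.asAlgebraHom (redG M (avgIdem L)) v =
      (Nat.card L : resField M)⁻¹ • ∑ u : L, σ u v := fun v => by
    rw [avgIdem_eq, redG_smul (inv_natCast_mem_valRing hM hL) (sum_mem fun _ _ => single_one_mem_OG _),
      redG_sum _ _ fun _ _ => single_one_mem_OG _, red_inv ((val_natCast_eq_one_iff hM _).2 hL),
      red_natCast]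
    simp [redG_single_one]
  suffices h : LinearMap.range (σ.asAlgebraHom (redG M (avgIdem L))) = fixS σ L by rw [rk, h]
  ext v
  constructor
  · rintro ⟨v, rfl⟩ g hg
    rw [h1, map_smul, map_sum]
    congr 1
    exact Fintype.sum_equiv (Equiv.mulLeft ⟨g, hg⟩) _ _ fun u => by simp
  · intro hv
    refine ⟨v, ?_⟩
    rw [h1, Finset.sum_congr rfl fun (u : L) _ => hv u u.2, Finset.sum_const, Finset.card_univ,
      ← Nat.card_eq_fintype_card, ← Nat.cast_smul_eq_nsmul (resField M), smul_smul, inv_mul_cancel₀ h0,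
      one_smul]

theorem dec_eq_mult (hM : IsPModular p M) (σ : Representation (resField M) G V) {χ : G → ℂ}
    (hχ : IsCharacter G χ) (h : pRegularPart p χ = br p σ) (j : Sim M G) : dec χ j = mult σ j := by
  rw [pReg_eq_sum_dec hM hχ, br_eq_sum hM] at h
  exact_mod_cast (Fintype.linearIndependent_iffₛ.1 (linearIndependent_ibr hM)) _ _ h j

theorem sum_br (hM : IsPModular p M) (σ : Representation (resField M) G V) (L : Subgroup G) [Fintype L]
    (hL : ¬ p ∣ Nat.card L) :
    ∑ g : L, br p σ g = Nat.card L * (finrank (resField M) (fixS σ L) : ℂ) := by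
  have hT : ¬ p ∣ Nat.card (⊤ : Subgroup L) := by rwa [Subgroup.card_top]
  have := Fintype.ofFinite (⊤ : Subgroup L)
  let σ' : Representation (resField M) L V := σ.comp L.subtype
  have hχ := isCharacter_br hM hL σ'
  have h1 := evalFun_idem_eq_sum hχ (avgIdem_mem_OG hM hT) (idem_avgIdem ⊤)
  have h2 := rk_rep_eq_sum σ' (avgIdem_mem_OG hM hT) (idem_avgIdem ⊤)
  simp only [dec_eq_mult hM σ' hχ (pReg_br σ')] at h1
  rw [rk_avgIdem hM σ' hT, fixS_comp, ← MonoidHom.range_eq_map, Subgroup.range_subtype] at h2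
  rw [h2, Nat.cast_sum]
  simp only [Nat.cast_mul]
  rw [← h1, evalFun_avgIdem, Subgroup.card_top, mul_inv_cancel_left₀ (Nat.cast_ne_zero.2 Nat.card_pos.ne'),
    br_comp_of_injective σ L.subtype_injective]
  exact (Fintype.sum_equiv Subgroup.topEquiv.toEquiv _ _ fun _ => rfl).symm

end CL.E8s
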