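/-
Brauer characters and dimensions of fixed spaces of cyclic subgroups.
-/
import Cfsg.Agent.Inv.E8sF

set_option autoImplicit false

namespace CL.E8s

open Cfsg CL.Char CL.Blk CL.Blk.Rk Module Finset

theorem sum_range_pow_mul {G A : Type*} [Group G] [AddCommMonoid A] (F : G → A) {g : G} {d : ℕ} (h : g ^ d = 1) (m : ℕ) :
    ∑ i ∈ range (d * m), F (g ^ i) = m • ∑ i ∈ range d, F (g ^ i) := by
  induction m with
  | zero => simp
  | succ m ih => rw [mul_add, mul_one, sum_range_add, ih, succ_nsmul]; simp [pow_add, pow_mul, h]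

theorem sum_ite_pow {K : Type*} [Group K] [Fintype K] [DecidableEq K] (F : K → ℂ) {n j : ℕ} (hn : 1 < n)
    (h : j.Coprime n) : ∑ g, (if g ^ n = 1 then F (g ^ j) else 0) = ∑ g, if g ^ n = 1 then F g else 0 := by
  obtain ⟨i, -, hi⟩ := Nat.exists_mul_mod_eq_one_of_coprime h hn
  have h1 : ∀ g : K, g ^ n = 1 → (g ^ j) ^ i = g := fun g hg => by
    rw [← pow_mul, pow_eq_pow_mod _ hg, hi, pow_one]
  have h2 : ∀ (g : K) (l : ℕ), g ^ n = 1 → (g ^ l) ^ n = 1 := fun g l hg => by rw [pow_right_comm, hg, one_pow]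
  rw [← sum_filter, ← sum_filter]
  exact sum_nbij' (· ^ j) (· ^ i) (fun g hg => by simpa using h2 g j (by simpa using hg))
    (fun g hg => by simpa using h2 g i (by simpa using hg)) (fun g hg => h1 g (by simpa using hg))
    (fun g hg => by rw [pow_right_comm]; exact h1 g (by simpa using hg)) fun _ _ => rfl

theorem sum_ite_eq_of_avg {K : Type*} [Group K] [Fintype K] [DecidableEq K] (F T : K → ℂ) {n : ℕ} (hn : 1 < n)
    (J : Finset ℕ) (hJ : ∀ j ∈ J, j.Coprime n) (h0 : J.card ≠ 0)
    (h : ∀ g, g ^ n = 1 → ∑ j ∈ J, F (g ^ j) = J.card * T g) :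
    ∑ g, (if g ^ n = 1 then F g - T g else 0) = 0 := by
  refine mul_left_cancel₀ (Nat.cast_ne_zero.2 h0 : (J.card : ℂ) ≠ 0) ?_
  have h1 : (J.card : ℂ) * ∑ g, (if g ^ n = 1 then F g else 0) = J.card * ∑ g, if g ^ n = 1 then T g else 0 := by
    rw [← nsmul_eq_mul, ← sum_const, ← sum_congr rfl fun j hj => sum_ite_pow F hn (hJ j hj), sum_comm, mul_sum]
    refine sum_congr rfl fun g _ => ?_
    split_ifs with hg
    · exact h g hg
    · simp
  rw [mul_zero, sum_congr rfl (g := fun g => (if g ^ n = 1 then F g else 0) - if g ^ n = 1 then T g else 0)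
    fun g _ => by split_ifs <;> simp, sum_sub_distrib, mul_sub, h1, sub_self]

variable {G : Type*} [Group G] [Finite G] {M : Ideal AlgInt}
variable {V : Type*} [AddCommGroup V] [Module (resField M) V] [FiniteDimensional (resField M) V]

theorem sum_br_cyc {p : ℕ} (hM : IsPModular p M) (σ : Representation (resField M) G V) {g : G} {n : ℕ} (hn : ¬ p ∣ n)
    (h : g ^ n = 1) : ∑ i ∈ range n, br p σ (g ^ i) = n * fx (σ g) := by
  obtain ⟨m, rfl⟩ := orderOf_dvd_of_pow_eq_one h
  have := Fintype.ofFinite (Subgroup.zpowers g)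
  have h1 := sum_br hM σ (Subgroup.zpowers g) (by rw [Nat.card_zpowers]; exact fun e => hn (e.mul_right _))
  rw [fixS_zpowers, Nat.card_zpowers, ← (finEquivZPowers (isOfFinOrder_of_finite g)).sum_comp] at h1
  simp only [finEquivZPowers_apply] at h1
  rw [Fin.sum_univ_eq_sum_range fun i => br p σ (g ^ i)] at h1
  rw [sum_range_pow_mul _ (pow_orderOf_eq_one g), h1, fx]
  push_cast; ring

theorem sum_eq_fix (hM : IsPModular 3 M) (σ : Representation (resField M) G V) (t : G → ℤ)
    (h8 : ∀ g, g ^ 8 = 1 → t g = 2 * fx (σ g) - fx (σ (g ^ 2)))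
    (hp : ∀ p ∈ [4, 10, 30], ∀ g, g ^ (p + 1) = 1 → g ≠ 1 →
      (p : ℕ) * t g = (p + 1 : ℕ) * fx (σ g) - finrank (resField M) V)
    (K : Subgroup G) [Fintype K] (h3 : ¬ 3 ∣ Fintype.card K) (hK : ∀ g ∈ K, Sm g) :
    ∑ g : K, t g = Fintype.card K * (finrank (resField M) (fixS σ K) : ℤ) := by
  classical
  have h1 : br 3 σ 1 = t 1 := by
    rw [h8 1 (one_pow _), one_pow, br_one Nat.prime_three, fx, map_one, sub_self, LinearMap.ker_zero, finrank_top]
    push_cast; ring
  have a8 := sum_ite_eq_of_avg (fun g : K => br 3 σ g) (fun g => t g) (n := 8) (by decide) {1, 3, 5, 7} (by decide)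
    (by decide) fun g hg => by
      replace hg : (g : G) ^ 8 = 1 := congrArg Subtype.val hg
      have b1 := sum_br_cyc hM σ (by decide) hg
      have b2 := sum_br_cyc hM σ (g := (g : G) ^ 2) (n := 4) (by decide) (by rwa [← pow_mul])
      simp only [sum_range_succ, sum_range_zero, ← pow_mul] at b1 b2
      rw [h8 _ hg]
      simp only [Subgroup.coe_pow]
      rw [sum_insert (by decide), sum_insert (by decide), sum_insert (by decide), sum_singleton,
        show ({1, 3, 5, 7} : Finset ℕ).card = 4 by decide]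
      push_cast at b1 b2 ⊢
      linear_combination b1 - b2
  have ap : ∀ p ∈ [4, 10, 30], ∑ g : K, (if g ^ (p + 1) = 1 then br 3 σ g - t g else 0) = 0 := fun p hp' =>
    sum_ite_eq_of_avg (fun g : K => br 3 σ g) (fun g => t g) (by revert p; decide) ((range p).image (· + 1))
      (by revert p; decide) (by revert p; decide) fun g hg => by
      replace hg : (g : G) ^ (p + 1) = 1 := congrArg Subtype.val hg
      rw [sum_image fun _ _ _ _ h => add_right_cancel h, card_image_of_injective _ (add_left_injective 1), card_range]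
      simp only [Subgroup.coe_pow]
      by_cases h0 : (g : G) = 1
      · simp [h0, h1]
      have b1 := sum_br_cyc hM σ ((by decide : ∀ p ∈ [4, 10, 30], ¬ 3 ∣ p + 1) p hp') hg
      have b2 := congrArg (Int.cast : ℤ → ℂ) (hp p hp' g hg h0)
      rw [sum_range_succ', pow_zero, br_one Nat.prime_three] at b1
      push_cast at b1 b2
      linear_combination b1 - b2
  have h2 : ∑ g : K, (br 3 σ g - t g) = 0 := by
    have b := congrArg₂ (· + ·) (congrArg₂ (· + ·) a8 (ap 4 (by simp)))
      (congrArg₂ (· + ·) (ap 10 (by simp)) (ap 30 (by simp)))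
    simp only [← sum_add_distrib, add_zero] at b
    refine Eq.trans (sum_congr rfl fun g _ => ?_) b
    by_cases h0 : g = 1
    · simp [h0, h1]
    have h4 : ∀ a b : ℕ, a.Coprime b → g ^ a = 1 → ¬ g ^ b = 1 := fun a b hab ha hb =>
      h0 (by simpa [hab.gcd_eq_one] using pow_gcd_eq_one.2 ⟨ha, hb⟩)
    have h5 : Sm g := by simpa only [Sm, Subtype.ext_iff, Subgroup.coe_pow, Subgroup.coe_one] using hK g g.2
    rcases h5 with h5 | h5 | h5 | h5
    · simp [h5, h4 8 5 (by decide) h5, h4 8 11 (by decide) h5, h4 8 31 (by decide) h5]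
    · simp [h5, h4 5 8 (by decide) h5, h4 5 11 (by decide) h5, h4 5 31 (by decide) h5]
    · simp [h5, h4 11 5 (by decide) h5, h4 11 8 (by decide) h5, h4 11 31 (by decide) h5]
    · simp [h5, h4 31 5 (by decide) h5, h4 31 11 (by decide) h5, h4 31 8 (by decide) h5]
  rw [sum_sub_distrib, sub_eq_zero, sum_br hM σ K (by rwa [Nat.card_eq_fintype_card]), Nat.card_eq_fintype_card] at h2
  exact_mod_cast h2.symm

end CL.E8s
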