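/-
The traces of the elements of order `2, 4, 8, 5, 11, 31` of `E₈(3)`.
-/
import Cfsg.Agent.Inv.E8sC3
import Cfsg.Agent.Inv.E8sG1
import Cfsg.Agent.Known.GLSim3

set_option autoImplicit false

namespace CL.E8s

open Cfsg Cfsg.Lie CL.Chev CL.Chev.Cert CL.AltEx CL.AltSec CL.Chev.Alg Module Matrix Finset

section Fx

variable {k V : Type*} [Field k] [AddCommGroup V] [Module k V]

theorem ker_le_pow (x : End k V) (i : ℕ) : LinearMap.ker (x - 1) ≤ LinearMap.ker (x ^ i - 1) := fun v hv => by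
  simp only [LinearMap.mem_ker, LinearMap.sub_apply, End.one_apply, sub_eq_zero] at hv ⊢
  induction i with
  | zero => rfl
  | succ i ih => rw [pow_succ, End.mul_apply, hv, ih]

theorem fx_eq_of_pow {x y : End k V} {i j : ℕ} (h : y = x ^ i) (h' : x = y ^ j) : fx y = fx x := by
  have h1 := ker_le_pow x i
  have h2 := ker_le_pow y j
  rw [← h] at h1
  rw [← h'] at h2
  rw [fx, fx, le_antisymm h1 h2]

theorem fx_one : fx (1 : End k V) = finrank k V := by rw [fx, sub_self, LinearMap.ker_zero, finrank_top]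

theorem eq_one_of_fx [FiniteDimensional k V] {x : End k V} (h : fx x = finrank k V) : x = 1 :=
  sub_eq_zero.1 (LinearMap.ker_eq_top.1 (Submodule.eq_top_of_finrank_eq h))

theorem fx_conj {G : Type*} [Group G] (σ : Representation k G V) (g h : G) : fx (σ (h * g * h⁻¹)) = fx (σ g) := by
  have := finrank_eigen_conj σ (isConj_iff.2 ⟨h, rfl⟩ : IsConj g _) 1
  rwa [End.eigenspace_def, End.eigenspace_def, one_smul] at this

theorem fx_map {F n : Type*} [Field F] [Fintype n] [DecidableEq n] (f : F →+* k) (A : Matrix n n F) :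
    fx (Matrix.toLin' (A.map f)) + (A - 1).rank = Fintype.card n := by
  rw [← CL.GLn.rank_map_ringHom f, fx, add_comm, End.one_eq_id, ← Matrix.toLin'_one, ← map_sub,
    show (A - 1).map f = A.map f - 1 from (map_sub f.mapMatrix A 1).trans (by rw [map_one]; rfl)]
  exact (LinearMap.finrank_range_add_finrank_ker _).trans (finrank_fintype_fun_eq_card k)

end Fx

/-- The adjoint module over an extension field. -/
noncomputable def rep {k : Type*} [Field k] (f : ZMod 3 →+* k) : Representation k G3 (chevE8.Idx → k) :=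
  (Matrix.toLinAlgEquiv' : Matrix chevE8.Idx chevE8.Idx k ≃ₐ[k] _).toMonoidHom.comp
    (f.mapMatrix.toMonoidHom.comp ((Units.coeHom _).comp (chevE8.group (ZMod 3)).subtype))

theorem fx_rep {k : Type*} [Field k] (f : ZMod 3 →+* k) (g : G3) : fx (rep f g) = fx (rho g) := by
  have h1 := fx_map f ((g : GL chevE8.Idx (ZMod 3)) : Matrix chevE8.Idx chevE8.Idx (ZMod 3))
  have h2 := fx_map cx.Sp.f ((g : GL chevE8.Idx (ZMod 3)) : Matrix chevE8.Idx chevE8.Idx (ZMod 3))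
  rw [← val_psiA] at h2
  exact add_right_cancel (h1.trans h2.symm)

theorem rep_inj {k : Type*} [Field k] (f : ZMod 3 →+* k) : Function.Injective (rep f) := fun _ _ h =>
  Subtype.ext (Units.ext (Matrix.map_injective f.injective (Matrix.toLinAlgEquiv'.injective h)))

theorem finrank_rep (k : Type*) [Field k] : finrank k (chevE8.Idx → k) = 248 := by
  rw [finrank_fintype_fun_eq_card, Fintype.card_sum, Fintype.card_fin, Fintype.card_fin]; rfl

/-- The dimension of the fixed space. -/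
noncomputable def f0 (g : G3) : ℕ := fx (rho g)

theorem f0_eq_iff {g : G3} : f0 g = 248 ↔ g = 1 :=
  ⟨fun h => rep_inj (RingHom.id _) ((eq_one_of_fx ((fx_rep _ g).trans (h.trans (finrank_rep _).symm))).trans
    (map_one _).symm), fun h => by rw [h, f0, map_one, fx_one, finrank_rep]⟩

/-- The number of roots that vanish on the `m`-th power. -/
def cnt (s : ℕ) (m : ℤ) (a : List ℤ) : ℕ :=
  hsum (fun z => cond (beqZ (z % s) 0) 1 0) (listTo 240 fun j => m * dot (listTo 8 (auxE8.rt j)) a)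

theorem Tor.f0_pow {g : G3} {s : ℕ} {ζ : Omˣ} (hζ : orderOf ζ = s) {y : Fin 8 → ℤ} (h : Tor g fun i => ζ ^ y i)
    {a : ℕ → ℕ} (ha : ∀ i : Fin 8, R8.evr y (R8.simple i) = a i) (m : ℕ) :
    f0 (g ^ m) = 8 + cnt s m (listTo 8 fun i => (a i : ℤ)) := by
  classical
  rw [f0, (h.pow m).fx_eq, cz_eq, cnt, hsum_listTo, card_filter]
  refine congrArg _ (sum_congr rfl fun j _ => ?_)
  rw [map_pow, chr_zpow, ← zpow_natCast, ← _root_.zpow_mul, dot_listTo,
    ← Fin.sum_univ_eq_sum_range fun i => auxE8.rt j i * a i, mul_comm]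
  simp only [← orderOf_dvd_iff_zpow_eq_one, hζ, ha]
  by_cases h' : (s : ℤ) ∣ m * ∑ i : Fin 8, auxE8.rt j i * a i <;> simp [h', beqZ]

def tr8 : List (ℕ × ℕ × ℕ) := [(30, 60, 120), (32, 60, 120), (32, 64, 120), (34, 66, 136), (34, 70, 136),
  (36, 70, 136), (38, 60, 120), (38, 70, 136), (40, 82, 136), (44, 92, 120), (48, 82, 136), (50, 66, 136),
  (52, 92, 120), (60, 120, 248), (64, 120, 248), (64, 134, 136), (66, 136, 248), (68, 92, 120), (70, 136, 248),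
  (80, 82, 136), (80, 134, 136), (82, 136, 248), (92, 120, 248), (120, 248, 248), (134, 136, 248), (136, 248, 248),
  (248, 248, 248)]

theorem rat8 : ratOK 8 240 auxE8.rt th8 8 3
    (fun a _ => decide ((8 + cnt 8 (1 : ℕ) a, 8 + cnt 8 (2 : ℕ) a, 8 + cnt 8 (4 : ℕ) a) ∈ tr8)) = true := by
  decide +kernel

theorem f0_eight {g : G3} (h : g ^ 8 = 1) : (f0 g, f0 (g ^ 2), f0 (g ^ 4)) ∈ tr8 := by
  obtain ⟨ζ, hζ⟩ := exists_ord (n := 8) (by decide)
  obtain ⟨y, h1, h2, w, hw, h3⟩ := exists_alcove (by decide) h hζ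
  obtain ⟨a, h4, h5⟩ := ratOK_sound cl8 th8_pos root_th8 rat8 hζ h1 hw h3
  rwa [decide_eq_true_eq, ← h2.f0_pow hζ h4, ← h2.f0_pow hζ h4, ← h2.f0_pow hζ h4, pow_one] at h5

theorem rat11 : ratOK 8 240 auxE8.rt th8 11 3 (fun _ k => Nat.beq k 20 || Nat.beq k 240) = true := by
  decide +kernel

theorem f0_eleven {g : G3} (h : g ^ 11 = 1) (h0 : g ≠ 1) : f0 g = 28 := by
  obtain ⟨ζ, hζ⟩ := exists_ord (n := 11) (by decide)
  obtain ⟨y, h1, h2, w, hw, h3⟩ := exists_alcove (by decide) h hζ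
  obtain ⟨a, -, h5⟩ := ratOK_sound cl8 th8_pos root_th8 rat11 hζ h1 hw h3
  have h6 : f0 g ≠ 248 := mt f0_eq_iff.1 h0
  rw [Bool.or_eq_true, Nat.beq_eq, Nat.beq_eq] at h5
  rw [f0, h2.fx_eq] at h6 ⊢
  omega

theorem rat5' : ratOK 8 240 auxE8.rt th8 5 3 (fun a k => (Nat.beq k 40 || Nat.beq k 60 || Nat.beq k 240) ||
    (decide (a = [0, 0, 0, 0, 0, 1, 0, 0]) || decide (a = [1, 0, 0, 0, 0, 0, 1, 0]))) = true := by
  decide +kernel

/-- The invariant quadratic form. -/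
def qf (y : Fin 8 → ZMod 5) : ZMod 5 := y 0 ^ 2 + y 1 ^ 2 + y 2 ^ 2 + y 3 ^ 2 + y 4 ^ 2 + y 5 ^ 2 + y 6 ^ 2 + y 7 ^ 2 -
  y 0 * y 2 - y 1 * y 3 - y 2 * y 3 - y 3 * y 4 - y 4 * y 5 - y 5 * y 6 - y 6 * y 7

theorem qf_sr (i : Fin 8) (y : Fin 8 → ZMod 5) : qf (sr CL.Cox.cE8 i y) = qf y := by
  fin_cases i <;> simp [qf, sr, Fin.sum_univ_succ, CL.Cox.cE8] <;> ring

theorem eq_vecMul_iE8 (y : Fin 8 → ℤ) : y = (fun i => R8.evr y (R8.simple i)) ᵥ* iE8 := by
  have h1 : (fun i => R8.evr y (R8.simple i)) = y ᵥ* CL.Cox.cE8 := funext fun i => by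
    rw [RS.ev_eq]
    exact sum_congr rfl fun j _ => congrArg _ ((R8.pair_simple_simple j i).trans
      (congrFun (congrFun (realE8.cartanM_eq.trans datCartan_E8) j) i))
  rw [h1, vecMul_vecMul, inv_E8]; simp

theorem f0_five {g : G3} (h : g ^ 5 = 1) (h0 : g ≠ 1) : f0 g = 48 ∨ f0 g = 68 := by
  obtain ⟨ζ, hζ⟩ := exists_ord (n := 5) (by decide)
  obtain ⟨y, h1, h2, w, hw, h3⟩ := exists_alcove (by decide) h hζ
  obtain ⟨a, h4, h5⟩ := ratOK_sound cl8 th8_pos root_th8 rat5' hζ h1 hw h3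
  simp only [Bool.or_eq_true, Nat.beq_eq, decide_eq_true_eq] at h5
  rcases h5 with h5 | h5
  · have h6 : f0 g ≠ 248 := mt f0_eq_iff.1 h0
    rw [f0, h2.fx_eq] at h6 ⊢
    omega
  have h6 := inv_W (R := R8) (realE8.cartanM_eq.trans datCartan_E8) qf_sr hw y
  rw [show (fun k => ((y ᵥ* R8.wM w) k : ZMod 5)) = fun k => 3 * (y k : ZMod 5) from funext fun k => by
    have := congrFun h3 k
    rw [RS.tAct_zpow, Pi.pow_apply, ← zpow_natCast, ← _root_.zpow_mul, zpow_eq_zpow_iff_modEq, hζ] at this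
    rw [(ZMod.intCast_eq_intCast_iff _ _ 5).2 this]
    push_cast; ring] at h6
  rw [eq_vecMul_iE8 y, funext h4] at h6
  have h7 : (fun i : Fin 8 => (a i : ℤ)) = fun i : Fin 8 => (listTo 8 fun i => (a i : ℤ)).getD (7 - i) 0 := by
    funext i; fin_cases i <;> rfl
  rw [h7] at h6
  rcases h5 with h5 | h5 <;> rw [h5] at h6 <;> exact absurd h6 (by decide +kernel)

open scoped Classical in
/-- The trace. -/
noncomputable def t0 (g : G3) : ℤ :=
  if g ^ 8 = 1 then 2 * f0 g - f0 (g ^ 2) else if g ^ 5 = 1 then (5 * f0 g - 248) / 4 else if g ^ 11 = 1 then 6 else 0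

theorem t0_eight {g : G3} (h : g ^ 8 = 1) : t0 g = 2 * f0 g - f0 (g ^ 2) := if_pos h

theorem ne_of_coprime {g : G3} (h0 : g ≠ 1) {a : ℕ} (ha : g ^ a = 1) (b : ℕ) (h : a.Coprime b := by decide) :
    ¬ g ^ b = 1 := fun hb => h0 (by simpa [h.gcd_eq_one] using pow_gcd_eq_one.2 ⟨ha, hb⟩)

theorem t0_five {g : G3} (h : g ^ 5 = 1) (h0 : g ≠ 1) : t0 g = (5 * f0 g - 248) / 4 := by
  rw [t0, if_neg (ne_of_coprime h0 h 8), if_pos h]

theorem t0_eleven {g : G3} (h : g ^ 11 = 1) (h0 : g ≠ 1) : t0 g = 6 := by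
  rw [t0, if_neg (ne_of_coprime h0 h 8), if_neg (ne_of_coprime h0 h 5), if_pos h]

theorem t0_thirtyone {g : G3} (h : g ^ 31 = 1) (h0 : g ≠ 1) : t0 g = 0 := by
  rw [t0, if_neg (ne_of_coprime h0 h 8), if_neg (ne_of_coprime h0 h 5), if_neg (ne_of_coprime h0 h 11)]

theorem tr8_spec : ∀ x ∈ tr8,
    (x.2.1 = 248 → x.1 ≠ 248 → (2 * x.1 - x.2.1 : ℤ) = 24 ∨ (2 * x.1 - x.2.1 : ℤ) = -8) ∧
    (x.2.2 = 248 → x.2.1 ≠ 248 → ((2 * x.2.1 - x.2.2 : ℤ), (2 * x.1 - x.2.1 : ℤ)) ∈ tab4) ∧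
    (x.2.2 ≠ 248 → ((2 * x.2.1 - x.2.2 : ℤ), (2 * x.1 - x.2.1 : ℤ)) ∈ tab8) := by decide +kernel

theorem good_rep {M : Ideal AlgInt} (hM : IsPModular 3 M) (f : ZMod 3 →+* CL.Blk.resField M) : Good (rep f) t0 := by
  have hi := rep_inj f
  have e1 : ∀ {g : G3} {n : ℕ}, rep f g ^ n = 1 ↔ g ^ n = 1 := by
    intro g n; rw [← map_pow, map_eq_one_iff _ hi]
  have e2 : ∀ {g : G3}, rep f g = 1 ↔ g = 1 := map_eq_one_iff _ hi
  have e3 : ∀ {g : G3} {a : ℕ} (b : ℕ), g ^ a = 1 → g ^ (a * b) = 1 := fun b h => by rw [pow_mul, h, one_pow]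
  have e4 : ∀ {g : G3}, g ^ 8 = 1 → t0 (g ^ 2) = 2 * f0 (g ^ 2) - f0 (g ^ 4) := fun h => by
    rw [t0_eight (by rw [pow_right_comm, h, one_pow]), ← pow_mul]
  refine ⟨finrank_rep _, fun g h i j a b => ?_, fun g h => ?_, ?_, fun K _ h3 hK => ?_, fun g a b => ?_,
    fun g a b => ?_, fun g a b => ?_, fun g a b => ?_, fun g a b => t0_eleven (e1.1 a) (mt e2.2 b),
    fun g a b => t0_thirtyone (e1.1 a) (mt e2.2 b)⟩
  · rw [← map_pow, hi.eq_iff] at a b
    have c : ∀ n, h ^ n = 1 ↔ g ^ n = 1 := fun n =>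
      ⟨fun e => by rw [b, pow_right_comm, e, one_pow], fun e => by rw [a, pow_right_comm, e, one_pow]⟩
    have d : ∀ n, f0 (h ^ n) = f0 (g ^ n) := fun n => fx_eq_of_pow (i := i) (j := j)
      (by rw [← map_pow, pow_right_comm, ← a]) (by rw [← map_pow, pow_right_comm, ← b])
    have d1 := d 1
    rw [pow_one, pow_one] at d1
    simp only [t0, c, d, d1]
  · simp only [t0, conj_pow, conj_eq_one_iff, f0, fx_conj]
  · rw [t0_eight (one_pow _), one_pow, f0_eq_iff.2 rfl]; rfl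
  · refine sum_eq_fix hM (rep f) t0 (fun g h => by rw [fx_rep, fx_rep]; exact t0_eight h) (fun p hp g h h0 => ?_) K h3
      fun g hg => by simpa only [Sm, e1] using hK g hg
    rw [fx_rep, finrank_rep]
    change _ = _ * (f0 g : ℤ) - _
    simp only [List.mem_cons, List.not_mem_nil, or_false] at hp
    rcases hp with rfl | rfl | rfl
    · rw [t0_five h h0]; rcases f0_five h h0 with e | e <;> rw [e] <;> rfl
    · rw [t0_eleven h h0, f0_eleven h h0]; rfl
    · rw [t0_thirtyone h h0, show f0 g = 8 from fx31 h h0]; rfl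
  · have h := e3 4 (e1.1 a)
    rw [t0_eight h]
    exact (tr8_spec _ (f0_eight h)).1 (f0_eq_iff.2 (e1.1 a)) (mt (e2.2 ∘ f0_eq_iff.1) b)
  · have h := e3 2 (e1.1 a)
    rw [t0_eight h, e4 h]
    exact (tr8_spec _ (f0_eight h)).2.1 (f0_eq_iff.2 (e1.1 a)) (mt (e1.2 ∘ f0_eq_iff.1) b)
  · have h := e1.1 a
    rw [t0_eight h, e4 h]
    exact (tr8_spec _ (f0_eight h)).2.2 (mt (e1.2 ∘ f0_eq_iff.1) b)
  · rw [t0_five (e1.1 a) (mt e2.2 b)]
    rcases f0_five (e1.1 a) (mt e2.2 b) with e | e <;> rw [e] <;> decide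

end CL.E8s
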