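/-
Nonsolvable subgroups of `A₈` without normal 2-subgroups, and subgroups of `A₈` isomorphic to `S₆` (helper41).
-/
import Cfsg.Agent.S2553
import Cfsg.Agent.Known.AltOn
import Cfsg.Agent.Grp.Primitive
import Cfsg.Agent.Grp.SylowIn

set_option autoImplicit false
open Cfsg Subgroup Equiv Equiv.Perm CL.Perm.A8 CL.Grp CL.Known
open scoped Pointwise

namespace CL.GH4

theorem s1_cyc {σ : Perm (Fin 8)} (h : orderOf σ = 5) : σ.IsCycle :=
  isCycle_of_prime_order' (h ▸ Nat.prime_five) (by rw [h]; decide)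

theorem s1_card_cent_five {σ : Perm (Fin 8)} (h : orderOf σ = 5) : Nat.card (centralizer {σ}) = 30 := by
  rw [nat_card_centralizer, (s1_cyc h).cycleType, ← (s1_cyc h).orderOf, h]
  simp [Nat.factorial]

theorem s1_card_altOn {Ω : Type*} [Fintype Ω] [DecidableEq Ω] {S : Finset Ω} {n : ℕ} (h : S.card = n + 2) :
    Nat.card (altOn S) = (n + 2).factorial / 2 := by
  obtain ⟨e⟩ := nonempty_altOn_equiv S (α := Fin (n + 2)) (by simpa using h)
  rw [Nat.card_congr e.toEquiv, nat_card_alternatingGroup, Nat.card_fin]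

variable {H : Type*} [Group H] [Finite H] {f : H →* Perm (Fin 8)} (hf : Function.Injective f)
  (he : ∀ g, sign (f g) = 1)
include hf

omit [Finite H] in
theorem s1_card_dvd {K : Subgroup H} {x : H} (h : K ≤ centralizer {x}) :
    Nat.card K ∣ Nat.card (centralizer {f x}) :=
  card_dvd_of_injective ((f.comp K.subtype).codRestrict _ fun g => mem_centralizer_singleton_iff.2 (by
    simp only [MonoidHom.coe_comp, coe_subtype, Function.comp_apply, ← map_mul]
    exact congrArg f (mem_centralizer_singleton_iff.1 (h g.2)))) fun a b e => Subtype.ext (hf (congrArg Subtype.val e))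

omit [Finite H] in
theorem s1_card_dvd' {K : Subgroup H} {x : H} (h : K ≤ centralizer {x}) (hx : orderOf x = 5 ∨ orderOf x = 7) :
    Nat.card K ∣ 30 ∧ orderOf x = 5 ∨ Nat.card K ∣ 7 := by
  have h1 := s1_card_dvd hf h
  rcases hx with hx | hx
  · exact Or.inl ⟨by rwa [s1_card_cent_five (by rw [orderOf_injective f hf, hx])] at h1, hx⟩
  · exact Or.inr (by rwa [card_cent_seven (by rw [orderOf_injective f hf, hx])] at h1)

include he

theorem s1_eq_bot (hs : ¬ Group.IsSolvable H) {M : Subgroup H} [M.Normal] {p : ℕ} (hp : p = 5 ∨ p = 7)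
    (hM : IsPGroup p M) : M = ⊥ := by
  have hpp : Fact p.Prime := ⟨by rcases hp with rfl | rfl <;> norm_num⟩
  obtain ⟨k, hk⟩ := IsPGroup.iff_card.1 hM
  have hd : p ^ k ∣ 20160 := hk ▸ (card_subgroup_dvd_card M).trans (card_dvd hf he)
  by_contra hne
  have hk1 : k = 1 := by
    rcases k with _ | _ | k
    · exact absurd (card_eq_one.1 hk) hne
    · rfl
    · have : p ^ 2 ∣ 20160 := (pow_dvd_pow p (by omega)).trans hd
      rcases hp with rfl | rfl <;> exact absurd this (by decide)
  rw [hk1, pow_one] at hk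
  have : IsCyclic M := isCyclic_of_prime_card hk
  obtain ⟨x, hx⟩ := IsCyclic.exists_generator (α := M)
  have hxo : orderOf (x : H) = p := by rw [orderOf_coe, orderOf_eq_card_of_forall_mem_zpowers hx, hk]
  have h1 : (MulAut.conjNormal (H := M)).ker ≤ centralizer {(x : H)} := fun g hg =>
    mem_centralizer_singleton_iff.2 (mul_inv_eq_iff_eq_mul.1 (congrArg Subtype.val (DFunLike.congr_fun hg x)))
  have : Group.IsSolvable (MulAut.conjNormal (H := M)).ker := by
    rcases s1_card_dvd' hf h1 (hxo ▸ hp) with h | h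
    · exact CL.Perm.isSolvable_of_card_dvd_120 (h.1.trans (by decide)) ((Nat.le_of_dvd (by decide) h.1).trans_lt (by decide))
    · exact CL.Char.isSolvable_of_two_primes Nat.prime_two Nat.prime_seven fun r hr hd =>
        Or.inr ((Nat.prime_dvd_prime_iff_eq hr Nat.prime_seven).1 (hd.trans h))
  have : Group.IsSolvable (MulAut M) := isSolvable_of_comm fun a b => (IsCyclic.mulAutMulEquiv M).injective (by
    rw [map_mul, map_mul, mul_comm])
  exact hs (Group.isSolvable_of_ker_le_range (MulAut.conjNormal (H := M)).ker.subtype (MulAut.conjNormal (H := M))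
    (range_subtype _).ge)

theorem s1_three (hs : ¬ Group.IsSolvable H) (h3 : pCore 3 H ≠ ⊥) : Nat.card (pCore 3 H) = 3 ∧
    (Nonempty (H ⧸ pCore 3 H ≃* alternatingGroup (Fin 5)) ∨ Nonempty (H ⧸ pCore 3 H ≃* Perm (Fin 5))) := by
  have := Fact.mk Nat.prime_three
  have hP := pCore_isPGroup 3 H
  obtain ⟨k, hk⟩ := IsPGroup.iff_card.1 hP
  have hd := card_dvd hf he
  have hk9 : Nat.card (pCore 3 H) = 3 ∨ Nat.card (pCore 3 H) = 9 := by
    rcases k with _ | _ | _ | k
    · exact absurd (card_eq_one.1 hk) h3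
    · exact Or.inl hk
    · exact Or.inr hk
    · exact absurd ((pow_dvd_pow 3 (by omega : 3 ≤ k + 1 + 1 + 1)).trans
        (hk ▸ (card_subgroup_dvd_card _).trans hd)) (by decide)
  obtain ⟨r, hr, hrd⟩ : ∃ r, (r = 5 ∨ r = 7) ∧ r ∣ Nat.card H := by
    by_contra hc
    exact hs (solv23 hd (fun h => hc ⟨5, Or.inl rfl, h⟩) fun h => hc ⟨7, Or.inr rfl, h⟩)
  have hrp : Fact r.Prime := ⟨by rcases hr with rfl | rfl <;> norm_num⟩
  obtain ⟨x, hx⟩ := exists_prime_orderOf_dvd_card' r hrd
  have hPx : pCore 3 H ≤ centralizer {x} := by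
    have h1 := card_modEq_card_inf_centralizer (q := r) (Q := zpowers x) (K := pCore 3 H)
      (IsPGroup.of_card (n := 1) (by rw [Nat.card_zpowers, hx, pow_one])) le_normalizer_of_normal
    have h2 := card_dvd_of_le (inf_le_left : pCore 3 H ⊓ centralizer (zpowers x : Set H) ≤ pCore 3 H)
    have h4 : pCore 3 H ⊓ centralizer (zpowers x : Set H) = pCore 3 H := by
      refine eq_of_le_of_card_ge inf_le_left ?_
      have h5 := Nat.le_of_dvd Nat.card_pos h2
      generalize Nat.card (pCore 3 H ⊓ centralizer (zpowers x : Set H) : Subgroup H) = m at *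
      unfold Nat.ModEq at h1
      rcases hk9 with e | e <;> rw [e] at h1 h2 h5 ⊢ <;> rcases hr with rfl | rfl <;> interval_cases m <;> omega
    exact h4.ge.trans (inf_le_right.trans (centralizer_le (by simp)))
  obtain ⟨h30, hx5⟩ := (s1_card_dvd' hf hPx (hx ▸ hr)).resolve_right (by rcases hk9 with e | e <;> rw [e] <;> decide)
  have hP3 : Nat.card (pCore 3 H) = 3 := hk9.resolve_right fun e => by rw [e] at h30; exact absurd h30 (by decide)
  have hx5' : orderOf (f x) = 5 := by rw [orderOf_injective f hf, hx5]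
  have hc := s1_cyc hx5'
  obtain ⟨D, hD⟩ : ∃ D, D = (f x).support := ⟨_, rfl⟩
  have hD5 : D.card = 5 := by rw [hD, ← hc.orderOf, hx5']
  have hD3 : Dᶜ.card = 3 := by rw [Finset.card_compl, hD5]; rfl
  have hcube : ∀ c ∈ pCore 3 H, f c ^ 3 = 1 := fun c hc' => by
    rw [← map_pow, ← hP3, show c ^ Nat.card (pCore 3 H) = 1 from
      congrArg Subtype.val (pow_card_eq_one' (x := (⟨c, hc'⟩ : pCore 3 H))), map_one]
  have hfix : ∀ c ∈ pCore 3 H, ∀ b ∈ D, f c b = b := fun c hc' b hb => by
    obtain ⟨h1, h2⟩ := hc.commute_iff.1 (show Commute (f c) (f x) from by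
      rw [Commute, SemiconjBy, ← map_mul, mem_centralizer_singleton_iff.1 (hPx hc'), map_mul])
    have h4 : ofSubtype ((f c).subtypePerm h1) ^ 3 = 1 := by
      rw [← map_pow, subtypePerm_pow]
      simp only [hcube c hc']
      exact map_one _
    have h5 := orderOf_dvd_of_mem_zpowers h2
    rw [hx5'] at h5
    have h6 := orderOf_eq_one_iff.1 (Nat.eq_one_of_dvd_coprimes (by norm_num : Nat.Coprime 3 5)
      (orderOf_dvd_of_pow_eq_one h4) h5)
    have h7 := DFunLike.congr_fun h6 b
    rwa [ofSubtype_subtypePerm_of_mem h1 (hD ▸ hb)] at h7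
  have hsup : ∀ c ∈ pCore 3 H, c ≠ 1 → (f c).support = Dᶜ := fun c hc' h1 => by
    refine Finset.eq_of_subset_of_card_le (fun b hb => Finset.mem_compl.2 fun h => mem_support.1 hb (hfix c hc' b h)) ?_
    have h2 := two_le_card_support_of_ne_one ((map_eq_one_iff f hf).not.2 h1)
    have h4 : (f c).support.card ≠ 2 := fun h => by
      have := (card_support_eq_two.1 h).sign_eq
      rw [he] at this
      exact absurd this (by decide)
    omega
  obtain ⟨c, hc', c1⟩ := (bot_or_exists_ne_one (pCore 3 H)).resolve_left h3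
  have hinv : ∀ g b, b ∉ D → f g b ∉ D := fun g b hb => by
    rw [← Finset.mem_compl, ← hsup _ ((inferInstance : (pCore 3 H).Normal).conj_mem c hc' g) (by simpa using c1),
      map_mul, map_mul, map_inv, support_conj]
    exact Finset.mem_map_of_mem _ (by rw [hsup c hc' c1]; exact Finset.mem_compl.2 hb)
  have hiff : ∀ g b, f g b ∈ D ↔ b ∈ D := fun g b => ⟨fun h => by_contra fun hb => hinv g b hb h, fun h => by
    by_contra hb
    exact hinv g⁻¹ _ hb (by simpa using h)⟩
  let ψ : H →* Perm {b // b ∈ D} :=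
    { toFun := fun g => (f g).subtypePerm (hiff g)
      map_one' := by ext; simp
      map_mul' := fun g h => by
        ext1 b
        exact Subtype.ext (DFunLike.congr_fun (map_mul f g h) b.1) }
  have hker : pCore 3 H = ψ.ker := by
    refine eq_of_le_of_card_ge (fun c hc' => Equiv.ext fun b => Subtype.ext (hfix c hc' b.1 b.2)) ?_
    rw [hP3, ← card_map_of_injective hf, show 3 = (1 + 2).factorial / 2 from rfl, ← s1_card_altOn hD3]
    refine card_le_of_le ?_
    rintro _ ⟨g, hg, rfl⟩
    exact mem_altOn.2 ⟨he g, fun b hb => Finset.mem_compl.2 fun h =>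
      hb (congrArg Subtype.val (DFunLike.congr_fun hg (⟨b, h⟩ : {b // b ∈ D})) :)⟩
  let ψ' := (QuotientGroup.kerLift ψ).comp (QuotientGroup.quotientMulEquivOfEq hker).toMonoidHom
  have hψ' : Function.Injective ψ' :=
    (QuotientGroup.kerLift_injective ψ).comp (QuotientGroup.quotientMulEquivOfEq hker).injective
  have h120 := card_dvd_of_injective ψ' hψ'
  rw [Nat.card_perm, Nat.card_eq_fintype_card (α := {b // b ∈ D}), Fintype.card_coe, hD5] at h120
  obtain ⟨ι⟩ : Nonempty ({b // b ∈ D} ↪ Fin 6) := Function.Embedding.nonempty_of_card_le (by simp [hD5])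
  have hs' : ¬ Group.IsSolvable (H ⧸ pCore 3 H) := fun h => by
    have := hP.isNilpotent
    exact hs (Group.isSolvable_of_ker_le_range (pCore 3 H).subtype (QuotientGroup.mk' (pCore 3 H)) (by simp))
  refine ⟨hP3, ?_⟩
  rcases of_six ((viaEmbeddingHom_injective ι).comp hψ') (g := (viaEmbeddingHom ι).comp ψ') hs' with
    h | ⟨⟨e⟩⟩ | h | ⟨⟨e⟩⟩
  · exact Or.inl h
  · rw [Nat.card_congr e.toEquiv, nat_card_alternatingGroup, Nat.card_fin] at h120
    exact absurd h120 (by decide)
  · exact Or.inr h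
  · rw [Nat.card_congr e.toEquiv, Nat.card_perm, Nat.card_fin] at h120
    exact absurd h120 (by decide)

/-- Nonsolvable subgroups of `A₈` with `O₂ = 1` and `O₃ = 1`. -/
theorem s1_main (hs : ¬ Group.IsSolvable H) (h2 : pCore 2 H = ⊥) (h3 : pCore 3 H = ⊥) :
    Nonempty (H ≃* Matrix.ProjectiveSpecialLinearGroup (Fin 3) (ZMod 2)) ∨
      (∃ n : ℕ, 5 ≤ n ∧ n ≤ 8 ∧ Nonempty (H ≃* alternatingGroup (Fin n))) ∨
        Nonempty (H ≃* Perm (Fin 5)) ∨ Nonempty (H ≃* Perm (Fin 6)) := by
  have hr : ∀ N : Subgroup H, N.Normal → Group.IsSolvable N → N = ⊥ := fun M _ hM => by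
    by_contra hne
    obtain ⟨N, p, hp, hN, -, hE⟩ := exists_isMinNormal_isElementaryAbelian_le M hne hM
    have := hN.normal
    have := Fact.mk hp
    have hP := CL.Loc.ea_isPGroup hE
    obtain ⟨k, hk⟩ := IsPGroup.iff_card.1 hP
    have hd : p ∣ 20160 := ((dvd_pow_self p fun e => hN.ne_bot (card_eq_one.1 (by rw [hk, e, pow_zero]))).trans
      (hk ▸ card_subgroup_dvd_card N)).trans (card_dvd hf he)
    rcases prime_cases hp hd with rfl | rfl | e
    · exact hN.ne_bot (eq_bot_iff.2 (h2 ▸ le_pCore hP))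
    · exact hN.ne_bot (eq_bot_iff.2 (h3 ▸ le_pCore hP))
    · exact hN.ne_bot (s1_eq_bot hf he hs e hP)
  by_cases h5 : 5 ∣ Nat.card H
  · exact Or.inr (of_five hf he hr h5)
  · have : Nontrivial H := not_subsingleton_iff_nontrivial.1 fun _ => hs inferInstance
    obtain ⟨h1, h4⟩ := simple_of_not_five hf he hr h5
    have := Fact.mk Nat.prime_seven
    obtain ⟨e3⟩ := Cfsg.Agent.S0495.result h4 (F := ZMod 7) (ZMod.card 7)
    obtain ⟨e4⟩ := Cfsg.Agent.S0255.result (F := ZMod 7) (K := ZMod 2) (ZMod.card 7) (ZMod.card 2)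
    exact Or.inl ⟨e3.trans e4⟩

omit [Finite H] in
theorem s1_not_seven (e : H ≃* Perm (Fin 7)) : False := by
  have hA8 := alternatingGroup.isSimpleGroup (α := Fin 8) (by simp)
  let f' := f.codRestrict (alternatingGroup (Fin 8)) fun g => mem_alternatingGroup.2 (he g)
  have hf' : Function.Injective f' := fun a b h => hf (congrArg Subtype.val h)
  have h3 := f'.range.card_mul_index
  rw [← Nat.card_congr (MonoidHom.ofInjective hf').toEquiv, Nat.card_congr e.toEquiv, Nat.card_perm, Nat.card_fin,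
    card_alt_eight] at h3
  have h4 : f'.range.index = 4 := by simp [Nat.factorial] at h3; omega
  have h6 := CL.Inv.two_mul_card_dvd_index_factorial (CL.Inv.not_isMulCommutative_of_not_prime
    (by rw [card_alt_eight]; norm_num)) f'.range (fun h => by simp [h] at h4)
  rw [h4, card_alt_eight] at h6
  exact absurd h6 (by decide)

omit [Finite H] in
/-- A subgroup `S₆` of `A₈` contains the stabiliser of a 2-set. -/
theorem s1_six (e : H ≃* Perm (Fin 6)) : ∃ a b : Fin 8, a ≠ b ∧ ∀ σ : Perm (Fin 8), sign σ = 1 →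
    (σ a = a ∧ σ b = b ∨ σ a = b ∧ σ b = a) → σ ∈ f.range := by
  have := Fact.mk Nat.prime_three
  let g := f.comp e.symm.toMonoidHom
  have hg : Function.Injective g := hf.comp e.symm.injective
  have hr : g.range ≤ f.range := by
    rintro _ ⟨x, rfl⟩
    exact ⟨_, rfl⟩
  obtain ⟨c, hc, hcg⟩ : ∃ c : Perm (Fin 8), IsThreeCycle c ∧ c ∈ g.range := by
    obtain ⟨P, hP⟩ := exists_isSylowIn 3 g.range
    obtain ⟨S, hS⟩ := exists_isSylowIn 3 (⊤ : Subgroup (Perm (Fin 8)))
    have h1 := hP.card_eq_pow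
    have h2 := hS.card_eq_pow
    rw [← Nat.card_congr (MonoidHom.ofInjective hg).toEquiv, Nat.card_perm, Nat.card_fin,
      show (Nat.factorial 6).factorization 3 = 2 by decide +kernel] at h1
    rw [card_top, Nat.card_perm, Nat.card_fin, show (Nat.factorial 8).factorization 3 = 2 by decide +kernel] at h2
    have h3 : IsThreeCycle (c3 (0 : Fin 8) 1 2) := isThreeCycle_c3 (by decide) (by decide) (by decide)
    obtain ⟨h, -, hh⟩ := (hS.of_card_le hP.isPGroup le_top (by rw [h1, h2])).exists_conj_le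
      (U := zpowers (c3 0 1 2)) (IsPGroup.of_card (n := 1) (by rw [Nat.card_zpowers, h3.orderOf, pow_one])) le_top
    exact ⟨h * c3 0 1 2 * h⁻¹, by rw [IsThreeCycle, cycleType_conj]; exact h3,
      hP.le (hh ⟨_, mem_zpowers _, rfl⟩)⟩
  have hA := alternatingGroup.isSimpleGroup (α := Fin 6) (by simp)
  have eL := (alternatingGroup (Fin 6)).equivMapOfInjective g hg
  have hLc : Nat.card ((alternatingGroup (Fin 6)).map g) = 360 := by
    rw [← Nat.card_congr eL.toEquiv, nat_card_alternatingGroup, Nat.card_fin]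
    rfl
  have := eL.symm.isSimpleGroup
  obtain ⟨O, hO, h3, hinv⟩ := eq_altOn_of_three_cycle (H := g.range) (L := (alternatingGroup (Fin 6)).map g)
    (map_le_range g _) (by
      rw [MonoidHom.range_eq_map]
      exact (map_mono le_normalizer_of_normal).trans (le_normalizer_map g))
    (CL.Loc.isQuasisimple_of_isSimpleGroup (CL.Inv.not_isMulCommutative_of_not_prime (by rw [hLc]; norm_num))) (by
      rintro _ ⟨⟨x, rfl⟩, hx⟩
      rw [eq_one_of_commute_alt (g := x) (by simp) fun d hd => hg (by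
        rw [map_mul, map_mul]
        exact (hx _ (mem_map_of_mem g hd.mem_alternatingGroup)).symm), map_one]
      exact one_mem _) hc hcg
  have h6 : O.card = 6 := by
    have h4 := Finset.card_le_card (h3 c hcg hc)
    have h5 : O.card ≤ 8 := (Finset.card_le_univ O).trans (by simp)
    rw [hc.card_support] at h4
    obtain ⟨n, hn⟩ : ∃ n, O.card = n + 2 := ⟨O.card - 2, by omega⟩
    rw [hO, s1_card_altOn hn] at hLc
    have : n ≤ 6 := by omega
    interval_cases n <;> first | exact hn | exact absurd hLc (by decide)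
  obtain ⟨a, b, hab, hc2⟩ := Finset.card_eq_two.1 (show Oᶜ.card = 2 by rw [Finset.card_compl, h6]; rfl)
  have hm : ∀ x, x ∉ O ↔ x = a ∨ x = b := fun x => by
    rw [← Finset.mem_compl, hc2, Finset.mem_insert, Finset.mem_singleton]
  have hfix : ∀ σ : Perm (Fin 8), sign σ = 1 → σ a = a → σ b = b → σ ∈ (alternatingGroup (Fin 6)).map g :=
    fun σ h1 ha hb => hO ▸ mem_altOn.2 ⟨h1, fun x hx => by_contra fun h => by
      rcases (hm x).1 h with rfl | rfl
      exacts [hx ha, hx hb]⟩
  refine ⟨a, b, hab, fun σ h1 h2 => hr ?_⟩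
  rcases h2 with h2 | h2
  · exact map_le_range g _ (hfix σ h1 h2.1 h2.2)
  have hout : ∀ x, x ∉ O → g (swap 0 1) x = a ∨ g (swap 0 1) x = b := fun x hx => (hm _).1 fun h =>
    hx (by simpa [← Perm.mul_apply, ← map_mul] using hinv _ ⟨swap 0 1, rfl⟩ _ h)
  have hn : ¬ (g (swap 0 1) a = a ∧ g (swap 0 1) b = b) := fun h => by
    have := (mem_map_iff_mem hg).1 (hfix _ (he _) h.1 h.2)
    rw [mem_alternatingGroup, sign_swap (by decide)] at this
    exact absurd this (by decide)
  have hne := (g (swap 0 1)).injective.ne hab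
  have h7 : g (swap 0 1) a = b ∧ g (swap 0 1) b = a := by
    rcases hout a ((hm a).2 (Or.inl rfl)) with e1 | e1 <;> rcases hout b ((hm b).2 (Or.inr rfl)) with e2 | e2
    · exact absurd (e1.trans e2.symm) hne
    · exact absurd ⟨e1, e2⟩ hn
    · exact ⟨e1, e2⟩
    · exact absurd (e1.trans e2.symm) hne
  have h8 := map_le_range g _ (hfix (σ * g (swap 0 1)) (by rw [map_mul, h1, one_mul]; exact he _)
    (by rw [Perm.mul_apply, h7.1, h2.2]) (by rw [Perm.mul_apply, h7.2, h2.1]))
  exact (g.range.mul_mem_cancel_right ⟨_, rfl⟩).1 h8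

end CL.GH4
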