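/-
An extension of `2⁴` by `Sp₄(2)` or `GL₄(2)` has an elementary abelian section of order 32 (helper41).
-/
import Cfsg.Agent.Inv.GH4S1
import Cfsg.Agent.Known.AltCarm
import Cfsg.Agent.Fgs.SecRank
import Cfsg.Agent.Inv.ZStar1

set_option autoImplicit false
open Cfsg Subgroup Equiv Equiv.Perm CL.Grp CL.Known
open scoped Matrix

namespace CL.GH4

/-- Coordinates on an elementary abelian normal subgroup. -/
theorem s2_coords {H : Type*} [Group H] {p e : ℕ} (hp : p.Prime) {V : Subgroup H} [Finite V] [V.Normal]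
    (hV : IsElementaryAbelian p V) (hc : Nat.card V = p ^ e) :
    ∃ (ι : (Fin e → ZMod p) → H) (φ : H →* GL (Fin e) (ZMod p)), (∀ a b, ι (a + b) = ι a * ι b) ∧
      Function.Injective ι ∧ (∀ v, v ∈ V ↔ ∃ a, ι a = v) ∧ ∀ g a, g * ι a * g⁻¹ = ι ((φ g).1 *ᵥ a) := by
  have := Fact.mk hp
  have hrk : Module.finrank (ZMod p) (CL.Loc.EAMod hV) = e :=
    Nat.pow_right_injective hp.two_le ((CL.Loc.EAMod.card_eq_pow_finrank hV).symm.trans hc)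
  let b := Module.finBasisOfFinrankEq (ZMod p) (CL.Loc.EAMod hV) hrk
  let ρ : H → Module.End (ZMod p) (CL.Loc.EAMod hV) := fun g =>
    (CL.Loc.conjRep hV ⟨g, (normalizer_eq_top V).ge (mem_top g)⟩).toLinearMap
  have hρ : ∀ g v, (ρ g v).val = g * v.val * g⁻¹ := fun _ _ => rfl
  let μ : H →* Matrix (Fin e) (Fin e) (ZMod p) :=
    { toFun := fun g => LinearMap.toMatrix b b (ρ g)
      map_one' := by
        rw [← LinearMap.toMatrix_one b]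
        exact congrArg _ (LinearMap.ext fun v => CL.Loc.EAMod.val_injective hV (by simp [hρ]))
      map_mul' := fun g h => by
        rw [← LinearMap.toMatrix_mul]
        exact congrArg _ (LinearMap.ext fun v => CL.Loc.EAMod.val_injective hV (by simp [hρ, mul_assoc])) }
  refine ⟨fun a => (b.equivFun.symm a).val, μ.toHomUnits, fun a c => congrArg CL.Loc.EAMod.val (map_add _ a c),
    (CL.Loc.EAMod.val_injective hV).comp b.equivFun.symm.injective, fun v => ⟨fun hv =>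
      ⟨b.equivFun (CL.Loc.EAMod.mk hV v hv), congrArg CL.Loc.EAMod.val (b.equivFun.symm_apply_apply _)⟩, ?_⟩, fun g a => ?_⟩
  · rintro ⟨a, rfl⟩
    exact CL.Loc.EAMod.val_mem hV _
  · obtain ⟨v, rfl⟩ := b.equivFun.surjective a
    rw [← hρ]
    refine congrArg _ (b.equivFun.injective ?_)
    rw [LinearEquiv.symm_apply_apply, LinearEquiv.apply_symm_apply]
    exact (LinearMap.toMatrix_mulVec_repr b b (ρ g) v).symm

abbrev V4 := Fin 4 → ZMod 2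
abbrev M4 := Matrix (Fin 4) (Fin 4) (ZMod 2)
abbrev G4 := GL (Fin 4) (ZMod 2)

/-- matrices of order three generating `GL₄(2) ≅ A₈` -/
def s2x : Fin 8 → M4 := ![1, 1, !![1,0,1,0; 0,1,1,1; 1,0,0,0; 1,1,0,0], !![0,1,1,1; 1,1,0,1; 0,0,0,1; 0,0,1,1],
  !![1,1,0,1; 1,0,1,0; 0,0,1,1; 0,0,1,0], !![0,0,1,0; 1,0,0,1; 1,0,1,0; 1,1,1,1],
  !![1,1,1,1; 1,1,1,0; 1,0,1,1; 1,1,0,1], !![0,1,0,1; 0,0,1,1; 1,0,0,1; 1,1,1,0]]

theorem s2x_cube : ∀ i, s2x i * (s2x i * s2x i) = 1 ∧ s2x i * s2x i * s2x i = 1 := by decide +kernel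

/-- the same as units -/
def s2g (i : Fin 8) : G4 := ⟨s2x i, s2x i * s2x i, (s2x_cube i).1, (s2x_cube i).2⟩

/-- the transvection -/
def gτ : G4 := ⟨!![1,0,0,1; 0,1,0,0; 0,0,1,0; 0,0,0,1], !![1,0,0,1; 0,1,0,0; 0,0,1,0; 0,0,0,1],
  by decide +kernel, by decide +kernel⟩

/-- an involution of rank two -/
def gr : G4 := ⟨!![1,0,1,1; 0,1,0,1; 0,0,1,0; 0,0,0,1], !![1,0,1,1; 0,1,0,1; 0,0,1,0; 0,0,0,1],
  by decide +kernel, by decide +kernel⟩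

/-- its conjugate -/
def gr' : G4 := ⟨!![1,1,0,1; 0,1,0,0; 0,0,1,1; 0,0,0,1], !![1,1,0,1; 0,1,0,0; 0,0,1,1; 0,0,0,1],
  by decide +kernel, by decide +kernel⟩

/-- an element of order three -/
def gρ : G4 := ⟨!![1,0,0,0; 0,0,1,0; 0,1,1,0; 0,0,0,1], !![1,0,0,0; 0,1,1,0; 0,1,0,0; 0,0,0,1],
  by decide +kernel, by decide +kernel⟩

/-- basis vectors -/
def ev : V4 := ![1, 0, 0, 0]
/-- basis vectors -/
def ew : V4 := ![0, 1, 0, 0]
/-- basis vectors -/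
def ew' : V4 := ![0, 0, 1, 0]
/-- basis vectors -/
def ex : V4 := ![0, 0, 0, 1]

/-- An isomorphism `A₈ ≅ GL₄(2)` with the three matrices in the stabiliser of a 2-set. -/
theorem s2_iso : ∃ e : alternatingGroup (Fin 8) ≃* G4, ∀ m, m = gτ ∨ m = gr ∨ m = gρ →
    (e.symm m).1 6 = 6 ∧ (e.symm m).1 7 = 7 ∨ (e.symm m).1 6 = 7 ∧ (e.symm m).1 7 = 6 := by
  have h2 : ∀ i j : Fin 8, (0 ≠ i ∧ 1 ≠ i ∧ 0 ≠ j ∧ 1 ≠ j ∧ i ≠ j) → (s2g i * s2g j) ^ 2 = 1 := by decide +kernel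
  obtain ⟨η, hη, e⟩ := carmichael_univ (show (0 : Fin 8) ≠ 1 by decide) s2g (by decide +kernel)
    fun i j a b c d e => h2 i j ⟨a, b, c, d, e⟩
  have hA := alternatingGroup.isSimpleGroup (α := Fin 8) (by simp)
  let c : Fin 6 → alternatingGroup (Fin 8) := fun i => ⟨c3 0 1 i.succ.succ, c3_mem_alt (by decide) (by
    revert i; decide)⟩
  have hc : ∀ i, hη.toHom (c i) = s2g i.succ.succ := fun i => e _ (by revert i; decide) (by revert i; decide)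
  have hinj : Function.Injective hη.toHom := (MonoidHom.ker_eq_bot_iff _).1
    ((IsSimpleGroup.eq_bot_or_eq_top_of_normal _ inferInstance).resolve_right fun h => by
      have h1 : hη.toHom (c 0) = 1 := (h ▸ mem_top (c 0) : c 0 ∈ hη.toHom.ker)
      rw [hc] at h1
      exact absurd h1 (by decide +kernel))
  let E := MulEquiv.ofBijective hη.toHom (hinj.bijective_of_nat_card_le (by
    rw [Matrix.card_GL_field, CL.Perm.A8.card_alt_eight, ZMod.card]; decide))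
  have hE : ∀ w m, hη.toHom w = m → E.symm m = w := fun w m h => by
    rw [MulEquiv.symm_apply_eq, ← h]; rfl
  refine ⟨E, ?_⟩
  rintro _ (rfl | rfl | rfl)
  · rw [hE (c 0 * c 2 * c 3 * c 4 * c 0 * c 5 * c 1 * c 4) gτ (by simp only [map_mul, hc]; decide +kernel)]
    decide +kernel
  · rw [hE (c 1 * c 2) gr (by simp only [map_mul, hc]; decide +kernel)]
    decide +kernel
  · rw [hE (c 3 * c 1 * c 2 * c 0) gρ (by simp only [map_mul, hc]; decide +kernel)]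
    decide +kernel

theorem s2_self : ∀ a : V4, a + a = 0 := by decide +kernel

theorem s2_n : ∀ n : V4, n 3 ≠ 0 → (gr.1 *ᵥ ex + (gr * gr').1 *ᵥ ex + n + ex) 3 = 0 := by decide +kernel

theorem s2_k3 : ∀ k a : V4, gr.1 *ᵥ a = a → (gr * gr').1 *ᵥ (gr.1 *ᵥ k + a + gρ.1 *ᵥ a) = gr.1 *ᵥ k + a + gρ.1 *ᵥ a →
    k 3 = 0 := by decide +kernel

theorem s2_k : ∀ n k : V4, n 3 = 0 → k 3 = 0 → n = gr.1 *ᵥ (gρ.1 *ᵥ k) + gr'.1 *ᵥ (k + n) → k = 0 ∨ k = ev := by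
  decide +kernel

theorem s2_a : ∀ a : V4, gr.1 *ᵥ a = a → gr'.1 *ᵥ a = a → a = 0 ∨ a = ev := by decide +kernel

theorem s2_m : ∀ m : V4, gρ.1 *ᵥ (gρ.1 *ᵥ m) + gρ.1 *ᵥ m + m = 0 → m 3 = 0 := by decide +kernel

theorem s2_b : ∀ m b : V4, m 3 = 0 → gτ.1 *ᵥ b = b → gρ.1 *ᵥ b = m + gτ.1 *ᵥ m + b → b = 0 ∨ b = ev := by
  decide +kernel

theorem s2_j : ∀ j c : V4, c = 0 ∨ c = ev → (gr * gτ).1 *ᵥ (gr.1 *ᵥ j + c) = gr.1 *ᵥ j + c →
    (j = 0 ∨ j = ev) ∨ (j + gτ.1 *ᵥ (gr.1 *ᵥ ex + ex) = 0 ∨ j + gτ.1 *ᵥ (gr.1 *ᵥ ex + ex) = ev) := by decide +kernel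

theorem s2_j' : ∀ j m : V4, j = 0 ∨ j = ev → m 3 = 0 →
    gr'.1 *ᵥ m + gρ.1 *ᵥ j + m = 0 ∨ gr'.1 *ᵥ m + gρ.1 *ᵥ j + m = ev := by decide +kernel

theorem s2_vv : ∀ a b : V4, a = 0 ∨ a = ev → b = 0 ∨ b = ev → a + b = 0 ∨ a + b = ev := by decide +kernel

theorem s2_w : ∀ g : G4, g = gr ∨ g = gr' ∨ g = gτ → ∀ w : V4, w = ew ∨ w = ew' →
    g.1 *ᵥ w + w = 0 ∨ g.1 *ᵥ w + w = ev := by
  rintro _ (rfl | rfl | rfl) _ (rfl | rfl) <;> decide +kernel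

theorem s2_inj1 : ∀ i j k i' j' k' : Fin 2, gr ^ i.1 * gr' ^ j.1 * gτ ^ k.1 = gr ^ i'.1 * gr' ^ j'.1 * gτ ^ k'.1 →
    i = i' ∧ j = j' ∧ k = k' := by decide +kernel

theorem s2_inj2 : ∀ m n m' n' : Fin 2, (m.1 • ew + n.1 • ew' + (m'.1 • ew + n'.1 • ew') = 0 ∨
    m.1 • ew + n.1 • ew' + (m'.1 • ew + n'.1 • ew') = ev) → m = m' ∧ n = n' := by decide +kernel

/-- Coordinates on a self-centralising normal subgroup of order 16. -/
structure Crd {Y : Type*} [Group Y] (ι : V4 → Y) (φ : Y →* G4) : Prop where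
  add : ∀ a b, ι (a + b) = ι a * ι b
  inj : Function.Injective ι
  act : ∀ y a, y * ι a * y⁻¹ = ι ((φ y).1 *ᵥ a)
  ker : ∀ y, φ y = 1 ↔ ∃ a, ι a = y

namespace Crd

variable {Y : Type*} [Group Y] {ι : V4 → Y} {φ : Y →* G4} (h : Crd ι φ)
include h

theorem zero : ι 0 = 1 := by
  have := h.add 0 0
  rw [add_zero] at this
  exact mul_eq_left.1 this.symm

theorem sq (a : V4) : ι a * ι a = 1 := by rw [← h.add, s2_self, h.zero]

theorem inv (a : V4) : (ι a)⁻¹ = ι a := inv_eq_of_mul_eq_one_right (h.sq a)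

theorem mv (y : Y) (a : V4) : y * ι a = ι ((φ y).1 *ᵥ a) * y := by rw [← h.act, inv_mul_cancel_right]

theorem mv' (y : Y) (a : V4) (z : Y) : y * (ι a * z) = ι ((φ y).1 *ᵥ a) * (y * z) := by
  rw [← mul_assoc, h.mv, mul_assoc]

theorem fix {y : Y} {a : V4} (e : y * ι a = ι a * y) : (φ y).1 *ᵥ a = a :=
  h.inj (mul_right_cancel ((h.mv y a).symm.trans e))

theorem φι (a : V4) : φ (ι a) = 1 := (h.ker _).2 ⟨a, rfl⟩

theorem rel {x y : Y} (e : φ x = φ y) : ∃ a, x = ι a * y :=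
  let ⟨a, ha⟩ := (h.ker (x * y⁻¹)).1 (by rw [map_mul, map_inv, e, mul_inv_cancel])
  ⟨a, by rw [ha, inv_mul_cancel_right]⟩

theorem nsmul (n : ℕ) (a : V4) : ι (n • a) = ι a ^ n := by
  induction n with
  | zero => rw [zero_nsmul, h.zero, pow_zero]
  | succ n ih => rw [succ_nsmul, h.add, ih, pow_succ]

/-- lifts of `gr`, `gr'` -/
theorem exists_s {ρ : Y} (hρ : φ ρ = gρ) (hr : gr ∈ φ.range) :
    ∃ s, φ s = gr ∧ (∃ a, (a = 0 ∨ a = ev) ∧ s * s = ι a) ∧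
      ∃ k, (k = 0 ∨ k = ev) ∧ s * (ρ * s * ρ⁻¹) = ι k * (ρ * s * ρ⁻¹ * s) := by
  have h2 : ∀ s, φ s = gr → φ (ρ * s * ρ⁻¹) = gr' := fun s hs => by
    rw [map_mul, map_mul, map_inv, hρ, hs]; decide +kernel
  obtain ⟨s, hs, n, hn3, hn⟩ : ∃ s, φ s = gr ∧ ∃ n : V4, n 3 = 0 ∧
      s * (ρ * s * ρ⁻¹) * (ρ * (ρ * s * ρ⁻¹) * ρ⁻¹) = ι n := by
    obtain ⟨s, hs⟩ := hr
    obtain ⟨n, hn⟩ := (h.ker (s * (ρ * s * ρ⁻¹) * (ρ * (ρ * s * ρ⁻¹) * ρ⁻¹))).1 (by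
      simp only [map_mul, map_inv, hρ, hs]; decide +kernel)
    by_cases h3 : n 3 = 0
    · exact ⟨s, hs, n, h3, hn.symm⟩
    refine ⟨s * ι ex, by rw [map_mul, h.φι, mul_one, hs], _, s2_n n h3, ?_⟩
    have hx : ρ * ι ex * ρ⁻¹ = ι ex := by rw [h.act, hρ]; congr 1; decide +kernel
    have e1 : ∀ y, ρ * (y * ι ex) * ρ⁻¹ = ρ * y * ρ⁻¹ * ι ex := fun y => by
      conv_rhs => rw [← hx]
      group
    rw [e1, e1, h.add, h.add, h.add, hn, ← h2 s hs, ← hs, ← map_mul]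
    generalize ρ * (ρ * s * ρ⁻¹) * ρ⁻¹ = s₃
    generalize ρ * s * ρ⁻¹ = s₂
    rw [← h.act, ← h.act, show s * ι ex * s⁻¹ * (s * s₂ * ι ex * (s * s₂)⁻¹) * (s * s₂ * s₃) * ι ex =
      s * ι ex * (s₂ * ι ex) * (s₃ * ι ex) by group]
  have hs' := h2 s hs
  obtain ⟨a, ha⟩ := (h.ker (s * s)).1 (by rw [map_mul, hs]; decide +kernel)
  have ha' : ρ * s * ρ⁻¹ * (ρ * s * ρ⁻¹) = ι (gρ.1 *ᵥ a) := by rw [← hρ, ← h.act, ha]; group
  obtain ⟨k, hk⟩ := h.rel (x := s * (ρ * s * ρ⁻¹)) (y := ρ * s * ρ⁻¹ * s) (by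
    rw [map_mul, map_mul φ _ s, hs', hs]; decide +kernel)
  have hk' : ρ * s * ρ⁻¹ * (ρ * (ρ * s * ρ⁻¹) * ρ⁻¹) = ι (gρ.1 *ᵥ k) * (ρ * (ρ * s * ρ⁻¹) * ρ⁻¹ * (ρ * s * ρ⁻¹)) := by
    rw [← hρ, ← h.act]
    calc _ = ρ * (s * (ρ * s * ρ⁻¹)) * ρ⁻¹ := by group
      _ = _ := by rw [hk]; group
  refine ⟨s, hs, ?_⟩
  generalize ρ * (ρ * s * ρ⁻¹) * ρ⁻¹ = s₃ at hn hk'
  generalize ρ * s * ρ⁻¹ = s₂ at hn hk' hk ha' hs' ⊢
  have fa : gr.1 *ᵥ a = a := hs ▸ h.fix (by rw [ha, mul_assoc])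
  have hk2 : s₂ * s = ι k * (s * s₂) := by rw [hk, ← mul_assoc, h.sq, one_mul]
  have e1 : s * s₂ * (s * s₂) = ι (gr.1 *ᵥ k + a + gρ.1 *ᵥ a) := by
    rw [h.add, h.add, ha, ← ha', ← hs, ← h.act, show s * s₂ * (s * s₂) = s * (s₂ * s) * s₂ by group, hk2]
    group
  have k3 := s2_k3 k a fa (by rw [← hs', ← hs, ← map_mul]; exact h.fix (by rw [hs, ← e1]; group))
  have hkv := s2_k n k hn3 k3 (h.inj (by
    obtain rfl : s₃ = (ι k * (s₂ * s))⁻¹ * ι n := by rw [← hk, ← hn]; group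
    have e2 : gr'.1 *ᵥ (k + n) = (φ s₂⁻¹).1 *ᵥ (k + n) := by rw [map_inv, hs']; rfl
    rw [h.add, e2, ← hs, ← h.act, ← h.act, h.add]
    calc ι n = s * (s₂ * ((s * s₂)⁻¹ * ι n)) := by group
      _ = _ := by rw [hk, hk', mul_inv_rev, h.inv]; group))
  refine ⟨⟨a, s2_a a fa (hs' ▸ h.fix ?_), ha.symm⟩, k, hkv, hk⟩
  have e3 : s * ι k = ι k * s := by
    rw [h.mv, hs]
    rcases hkv with rfl | rfl <;> congr 2 <;> decide +kernel
  rw [ha]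
  calc s₂ * (s * s) = ι k * (s * (s₂ * s)) := by rw [← mul_assoc, hk2, mul_assoc, mul_assoc, hk2]
    _ = s * s * s₂ := by rw [hk2, ← mul_assoc s, e3, mul_assoc (ι k), ← mul_assoc (ι k), h.sq]; group

/-- lifts of `gτ` -/
theorem lift_t {ρ : Y} (hρ : φ ρ = gρ) (h3 : ρ ^ 3 = 1) {t : Y} (ht : φ t = gτ) :
    (∃ b, (b = 0 ∨ b = ev) ∧ t * t = ι b) ∧ ∃ m : V4, m 3 = 0 ∧ ρ * t * ρ⁻¹ = ι m * t := by
  obtain ⟨m, hm⟩ := h.rel (x := ρ * t * ρ⁻¹) (y := t) (by rw [map_mul, map_mul, map_inv, hρ, ht]; decide +kernel)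
  have m3 := s2_m m (h.inj (by
    rw [h.add, h.add, h.zero, ← hρ, ← h.act, ← h.act, ← mul_left_inj t, mul_assoc, ← hm,
      show ι m = ρ * t * ρ⁻¹ * t⁻¹ by rw [hm, mul_inv_cancel_right]]
    calc _ = ρ ^ 3 * t * (ρ ^ 3)⁻¹ := by rw [pow_three]; group
      _ = _ := by rw [h3]; group))
  obtain ⟨b, hb⟩ := (h.ker (t * t)).1 (by rw [map_mul, ht]; decide +kernel)
  refine ⟨⟨b, s2_b m b m3 (ht ▸ h.fix (by rw [hb, mul_assoc])) (h.inj ?_), hb.symm⟩, m, m3, hm⟩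
  rw [h.add, h.add, ← hρ, ← ht, ← h.act, ← h.act, hb]
  calc _ = ρ * t * ρ⁻¹ * (ρ * t * ρ⁻¹) := by group
    _ = _ := by rw [hm]; group

theorem not_secRank [Finite Y] (hv : ∀ y, (φ y).1 *ᵥ ev = ev) (hτ : gτ ∈ φ.range) (hr : gr ∈ φ.range)
    (hρ : gρ ∈ φ.range) : ¬ SectionalPRankLE 2 4 Y := fun hS => by
  obtain ⟨ρ, hρ, h3⟩ : ∃ ρ, φ ρ = gρ ∧ ρ ^ 3 = 1 := by
    obtain ⟨ρ, hρ⟩ := hρ
    obtain ⟨u, hu⟩ := (h.ker (ρ ^ 3)).1 (by rw [map_pow, hρ]; decide +kernel)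
    refine ⟨ρ ^ 4, by rw [map_pow, hρ]; decide +kernel, ?_⟩
    rw [← pow_mul, mul_comm, pow_mul, ← hu, show 4 = 2 * 2 from rfl, pow_mul, pow_two (ι u), h.sq, one_pow]
  obtain ⟨s, hs, ⟨a, av, ha⟩, k, kv, hk⟩ := h.exists_s hρ hr
  obtain ⟨t, ht, j, jv, hj⟩ : ∃ t, φ t = gτ ∧ ∃ j, (j = 0 ∨ j = ev) ∧ s * t = ι j * (t * s) := by
    obtain ⟨t, ht⟩ := hτ
    obtain ⟨⟨b, bv, hb⟩, -⟩ := h.lift_t hρ h3 ht
    obtain ⟨j, hj⟩ := h.rel (x := s * t) (y := t * s) (by rw [map_mul, map_mul, hs, ht]; decide +kernel)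
    have e1 : s * t * (s * t) = ι (gr.1 *ᵥ j + (a + b)) := by
      rw [h.add, h.add, ← ha, ← hb, ← hs, ← h.act, show s * t * (s * t) = s * (t * s) * t by group,
        show t * s = ι j * (s * t) by rw [hj, ← mul_assoc, h.sq, one_mul]]
      group
    rcases s2_j j _ (s2_vv a b av bv) (by
      rw [← ht, ← hs, ← map_mul]; exact h.fix (by rw [hs, ← e1]; group)) with jv | jv
    · exact ⟨t, ht, j, jv, hj⟩
    · refine ⟨t * ι ex, by rw [map_mul, h.φι, mul_one, ht], _, jv, ?_⟩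
      rw [h.add, ← ht, ← h.act, h.add, ← hs, ← h.act, ← mul_assoc, hj]
      calc _ = ι j * (t * (s * ι ex * s⁻¹) * (ι ex * ι ex) * s) := by rw [h.sq]; group
        _ = _ := by group
  obtain ⟨⟨b, bv, hb⟩, m, m3, hm⟩ := h.lift_t hρ h3 ht
  have hs' : φ (ρ * s * ρ⁻¹) = gr' := by rw [map_mul, map_mul, map_inv, hρ, hs]; decide +kernel
  have ha' : ρ * s * ρ⁻¹ * (ρ * s * ρ⁻¹) = ι a := by
    rw [show ρ * s * ρ⁻¹ * (ρ * s * ρ⁻¹) = ρ * (s * s) * ρ⁻¹ by group, ha, h.act, hρ]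
    rcases av with rfl | rfl <;> congr 1 <;> decide +kernel
  have hj' : ρ * s * ρ⁻¹ * t = ι (gr'.1 *ᵥ m + gρ.1 *ᵥ j + m) * (t * (ρ * s * ρ⁻¹)) := by
    have e1 : ρ * s * ρ⁻¹ * (ι m * t) = ι (gρ.1 *ᵥ j) * (ι m * t * (ρ * s * ρ⁻¹)) := by
      rw [← hm, ← hρ, ← h.act]
      calc _ = ρ * (s * t) * ρ⁻¹ := by group
        _ = _ := by rw [hj]; group
    rw [h.mv', hs'] at e1
    rw [h.add, h.add, mul_assoc (ι _ * ι _), mul_assoc (ι _), ← mul_assoc (ι m), ← e1, ← mul_assoc, h.sq, one_mul]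
  generalize ρ * s * ρ⁻¹ = s' at hk hs' ha' hj'
  have hc : ∀ y, y * ι ev = ι ev * y := fun y => by rw [h.mv, hv]
  have : (zpowers (ι ev)).Normal := ⟨by
    rintro _ ⟨n, rfl⟩ g
    exact ⟨n, by rw [← conj_zpow, hc, mul_inv_cancel_right]⟩⟩
  let π := QuotientGroup.mk' (zpowers (ι ev))
  have hπ : ∀ c, c = 0 ∨ c = ev → π (ι c) = 1 := by
    rintro _ (rfl | rfl)
    · rw [h.zero, map_one]
    · exact (QuotientGroup.eq_one_iff _).2 (mem_zpowers _)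
  have cm : ∀ {x y c}, c = 0 ∨ c = ev → x * y = ι c * (y * x) → Commute (π x) (π y) := fun hc e => by
    rw [Commute, SemiconjBy, ← map_mul, e, map_mul, hπ _ hc, one_mul, map_mul]
  have cw : ∀ x, φ x = gr ∨ φ x = gr' ∨ φ x = gτ → ∀ w, w = ew ∨ w = ew' → Commute (π x) (π (ι w)) :=
    fun x hx w hw => cm (s2_w _ hx w hw) (by rw [h.mv, h.add, mul_assoc, ← mul_assoc (ι w), h.sq, one_mul])
  have c12 := cm kv hk
  have c13 := cm jv hj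
  have c23 := cm (s2_j' j m jv m3) hj'
  have c14 := cw s (Or.inl hs) ew (Or.inl rfl)
  have c15 := cw s (Or.inl hs) ew' (Or.inr rfl)
  have c24 := cw s' (Or.inr (Or.inl hs')) ew (Or.inl rfl)
  have c25 := cw s' (Or.inr (Or.inl hs')) ew' (Or.inr rfl)
  have c34 := cw t (Or.inr (Or.inr ht)) ew (Or.inl rfl)
  have c35 := cw t (Or.inr (Or.inr ht)) ew' (Or.inr rfl)
  have c45 : Commute (π (ι ew)) (π (ι ew')) := by
    rw [Commute, SemiconjBy, ← map_mul, ← map_mul, ← h.add, ← h.add, add_comm]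
  have hE : IsElementaryAbelian 2 (closure {π s, π s', π t, π (ι ew), π (ι ew')}) := by
    refine CL.Loc.ea_closure ?_ ?_
    · rintro _ (rfl | rfl | rfl | rfl | rfl) _ (rfl | rfl | rfl | rfl | rfl) <;>
        first | rfl | assumption | (symm; assumption)
    · rintro _ (rfl | rfl | rfl | rfl | rfl) <;> rw [pow_two, ← map_mul]
      exacts [ha ▸ hπ a av, ha' ▸ hπ a av, hb ▸ hπ b bv, by rw [h.sq, map_one], by rw [h.sq, map_one]]
  have h16 := CL.Fgs.secRank_iff.1 (CL.Fgs.secRank_of_surjective hS π (QuotientGroup.mk'_surjective _)) _ ⊥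
    ⟨bot_le, fun x hx y hy => commutatorElement_eq_one_iff_mul_comm.2 (CL.Loc.ea_mul_comm hE hx hy),
      fun x hx => CL.Loc.ea_pow hE hx⟩
  rw [relIndex_bot_left] at h16
  let F : Fin 2 × Fin 2 × Fin 2 × Fin 2 × Fin 2 → closure {π s, π s', π t, π (ι ew), π (ι ew')} := fun i =>
    ⟨π (s ^ i.1.1 * s' ^ i.2.1.1 * t ^ i.2.2.1.1 * ι (i.2.2.2.1.1 • ew + i.2.2.2.2.1 • ew')), by
      simp only [h.add, h.nsmul, map_mul, map_pow]
      refine mul_mem (mul_mem (mul_mem ?_ ?_) ?_) (mul_mem ?_ ?_) <;> exact pow_mem (subset_closure (by simp)) _⟩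
  have hF : Function.Injective F := by
    rintro ⟨i1, i2, i3, i4, i5⟩ ⟨j1, j2, j3, j4, j5⟩ e
    have e1 := (CL.Inv.mem_zpowers_of_mul_self (h.sq ev)).1 (QuotientGroup.eq.1 (congrArg Subtype.val e))
    have e2 : φ (s ^ i1.1 * s' ^ i2.1 * t ^ i3.1 * ι (i4.1 • ew + i5.1 • ew')) =
        φ (s ^ j1.1 * s' ^ j2.1 * t ^ j3.1 * ι (j4.1 • ew + j5.1 • ew')) := by
      rw [← inv_mul_eq_one, ← map_inv, ← map_mul]
      rcases e1 with e1 | e1 <;> rw [e1]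
      exacts [map_one φ, h.φι _]
    simp only [map_mul, map_pow, h.φι, mul_one, hs, hs', ht] at e2
    obtain ⟨rfl, rfl, rfl⟩ := s2_inj1 _ _ _ _ _ _ e2
    simp only [mul_inv_rev, mul_assoc, inv_mul_cancel_left, h.inv, ← h.add] at e1
    obtain ⟨rfl, rfl⟩ := s2_inj2 i4 i5 j4 j5 (e1.imp (fun e => h.inj (e.trans h.zero.symm)) fun e => h.inj e)
    rfl
  have := (Nat.card_le_card_of_injective F hF).trans h16
  simp at this

theorem not_secRank' [Finite Y] (hτ : gτ ∈ φ.range) (hr : gr ∈ φ.range) (hρ : gρ ∈ φ.range) :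
    ¬ SectionalPRankLE 2 4 Y := fun hS => by
  have hm : ∀ y, (φ y).1 *ᵥ ev = ev → y ∈ centralizer {ι ev} := fun y e =>
    mem_centralizer_singleton_iff.2 (by rw [h.mv, e])
  have h1 : ∀ a, ι a ∈ centralizer {ι ev} := fun a => hm _ (by rw [h.φι]; exact Matrix.one_mulVec _)
  have h' : Crd (fun a => (⟨ι a, h1 a⟩ : centralizer {ι ev})) (φ.comp (centralizer {ι ev}).subtype) :=
    ⟨fun a b => Subtype.ext (h.add a b), fun a b e => h.inj (congrArg Subtype.val e),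
      fun y a => Subtype.ext (h.act y a), fun y => (h.ker y).trans (exists_congr fun a =>
        ⟨fun e => Subtype.ext e, fun e => congrArg Subtype.val e⟩)⟩
  have h2 : ∀ m ∈ φ.range, m.1 *ᵥ ev = ev → m ∈ (φ.comp (centralizer {ι ev}).subtype).range := by
    rintro _ ⟨y, rfl⟩ e
    exact ⟨⟨y, hm y e⟩, rfl⟩
  exact h'.not_secRank (fun y => h.fix (mem_centralizer_singleton_iff.1 y.2)) (h2 _ hτ (by decide +kernel))
    (h2 _ hr (by decide +kernel)) (h2 _ hρ (by decide +kernel))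
    (CL.Fgs.secRank_of_injective hS _ (subtype_injective _))

theorem conj (g : G4) : Crd (fun a => ι (g.1 *ᵥ a)) ((MulAut.conj g⁻¹).toMonoidHom.comp φ) := by
  refine ⟨fun a b => by rw [Matrix.mulVec_add, h.add], fun a b e => ?_, fun y a => ?_, fun y => ?_⟩
  · have := congrArg (g⁻¹.1 *ᵥ ·) (h.inj e)
    simpa only [Matrix.mulVec_mulVec, Units.inv_mul, Matrix.one_mulVec] using this
  · rw [h.act, Matrix.mulVec_mulVec, Matrix.mulVec_mulVec, ← Units.val_mul, ← Units.val_mul]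
    simp [mul_assoc]
  · rw [MonoidHom.comp_apply, MulEquiv.coe_toMonoidHom, map_eq_one_iff _ (MulAut.conj g⁻¹).injective, h.ker]
    refine ⟨fun ⟨a, e⟩ => ⟨g⁻¹.1 *ᵥ a, ?_⟩, fun ⟨a, e⟩ => ⟨_, e⟩⟩
    simpa only [Matrix.mulVec_mulVec, Units.mul_inv, Matrix.one_mulVec] using e

end Crd

theorem s2_pair {a b : Fin 8} (hab : a ≠ b) : ∃ g : alternatingGroup (Fin 8), g.1 6 = a ∧ g.1 7 = b := by
  have h1 : (swap b (swap 6 a 7) * swap 6 a : Perm (Fin 8)) 6 = a := by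
    rw [Perm.mul_apply, swap_apply_left, swap_apply_of_ne_of_ne hab]
    intro e
    exact absurd ((swap 6 a).injective ((swap_apply_left 6 a).trans e)) (by decide)
  have h2 : (swap b (swap 6 a 7) * swap 6 a : Perm (Fin 8)) 7 = b := by rw [Perm.mul_apply, swap_apply_right]
  generalize (swap b (swap 6 a 7) * swap 6 a : Perm (Fin 8)) = g at h1 h2
  rcases Int.units_eq_one_or (sign g) with e | e
  · exact ⟨⟨g, e⟩, h1, h2⟩
  · exact ⟨⟨g * swap 0 1, by rw [mem_alternatingGroup, map_mul, e, sign_swap (by decide)]; rfl⟩, h1, h2⟩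

end CL.GH4
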