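/-
`X / O₂(X)` is not `S₆` or `A₈` if `X` has characteristic two and sectional 2-rank at most four (helper41).
-/
import Cfsg.Agent.Inv.GH4S2
import Cfsg.Agent.Loc.TIFam

set_option autoImplicit false
open Cfsg Subgroup Equiv Equiv.Perm CL.Grp CL.Known
open scoped Matrix

namespace CL.GH4

theorem s3_crd {Y L : Type*} [Group Y] [Finite Y] [Group L] [Finite L] {ι : V4 → Y} {φ : Y →* G4} (hI : Crd ι φ)
    {ψ : L →* G4} (hψ : Function.Injective ψ) (hψ' : ψ.range ≤ φ.range)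
    (h : Nonempty (L ≃* Perm (Fin 6)) ∨ Nonempty (L ≃* alternatingGroup (Fin 8))) : ¬ SectionalPRankLE 2 4 Y := by
  obtain ⟨E, hE⟩ := s2_iso
  let f := (alternatingGroup (Fin 8)).subtype.comp (E.symm.toMonoidHom.comp ψ)
  have hf : Function.Injective f := Subtype.val_injective.comp (E.symm.injective.comp hψ)
  obtain ⟨a, b, hab, H⟩ : ∃ a b : Fin 8, a ≠ b ∧ ∀ σ : Perm (Fin 8), sign σ = 1 →
      (σ a = a ∧ σ b = b ∨ σ a = b ∧ σ b = a) → σ ∈ f.range := by
    rcases h with ⟨⟨k⟩⟩ | ⟨⟨k⟩⟩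
    · exact s1_six hf (fun x => (E.symm (ψ x)).2) k
    · refine ⟨0, 1, by decide, fun σ hσ _ => ?_⟩
      obtain ⟨x, hx⟩ := ((E.symm.injective.comp hψ).bijective_of_nat_card_le
        (Nat.card_congr k.toEquiv).ge).2 ⟨σ, hσ⟩
      exact ⟨x, congrArg Subtype.val hx⟩
  obtain ⟨g, rfl, rfl⟩ := s2_pair hab
  have key : ∀ m, m = gτ ∨ m = gr ∨ m = gρ → m ∈ ((MulAut.conj (E g)⁻¹).toMonoidHom.comp φ).range := fun m hm => by
    obtain ⟨x, hx⟩ := H _ (g * E.symm m * g⁻¹).2 (by simpa using hE m hm)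
    obtain ⟨y, hy⟩ := hψ' ⟨x, rfl⟩
    have h5 : ψ x = E (g * E.symm m * g⁻¹) := E.symm_apply_eq.1 (Subtype.ext hx)
    exact ⟨y, by simp [hy, h5, mul_assoc]⟩
  exact (hI.conj (E g)).not_secRank' (key _ (Or.inl rfl)) (key _ (Or.inr (Or.inl rfl))) (key _ (Or.inr (Or.inr rfl)))

theorem s3_four {e : ℕ} (hle : e ≤ 4) (h : 720 ∣ Nat.card (GL (Fin e) (ZMod 2))) : e = 4 := by
  rw [Matrix.card_GL_field, ZMod.card] at h
  interval_cases e <;> first | rfl | exact absurd h (by decide)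

open scoped commutatorElement in
theorem s3_main {X : Type*} [Group X] [Finite X] {Q : Subgroup X} [Q.Normal] (hQ : IsPGroup 2 Q)
    (hmem : ∀ a, (∀ v ∈ Q, ⁅v, a⁆ ∈ (frattini Q).map Q.subtype) → a ∈ Q) (hS : SectionalPRankLE 2 4 X)
    (h : Nonempty (X ⧸ Q ≃* Perm (Fin 6)) ∨ Nonempty (X ⧸ Q ≃* alternatingGroup (Fin 8))) : False := by
  obtain ⟨e, he⟩ := hQ.index (frattini Q)
  have hle := CL.Fgs.index_frattini_le_of_secRank hQ (CL.Fgs.secRank_of_injective hS _ (subtype_injective _))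
  rw [he, Nat.pow_le_pow_iff_right (by norm_num)] at hle
  set Φ := (frattini Q).map Q.subtype with hΦ
  have : Φ.Normal := ConjAct.normal_of_characteristic_of_normal
  let π := QuotientGroup.mk' Φ
  have : (Q.map π).Normal := Normal.map inferInstance π (QuotientGroup.mk'_surjective _)
  have hV : IsElementaryAbelian 2 (Q.map π) := by
    refine ⟨⟨⟨?_⟩⟩, ?_⟩
    · rintro ⟨_, a, ha, rfl⟩ ⟨_, b, hb, rfl⟩
      refine Subtype.ext (commutatorElement_eq_one_iff_mul_comm.1 ((map_commutatorElement π a b).symm.trans ?_))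
      exact (QuotientGroup.eq_one_iff _).2 ⟨_, commutatorElement_mem_frattini hQ ⟨a, ha⟩ ⟨b, hb⟩, rfl⟩
    · rintro _ ⟨a, ha, rfl⟩
      rw [← map_pow]
      exact (QuotientGroup.eq_one_iff _).2 ⟨_, pow_mem_frattini hQ ⟨a, ha⟩, rfl⟩
  have hc : Nat.card (Q.map π) = 2 ^ e := by
    rw [← relIndex_ker, QuotientGroup.ker_mk', ← he, relIndex, hΦ, subgroupOf,
      comap_map_eq_self_of_injective Q.subtype_injective]
  obtain ⟨ι, φ, h1, h2, h3, h4⟩ := s2_coords Nat.prime_two hV hc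
  have hk : Q = (φ.comp π).ker := by
    ext x
    refine ⟨fun hx => Units.ext (Matrix.ext_of_mulVec_single fun i => h2 ?_), fun hx => hmem x fun v hv => ?_⟩
    · rw [MonoidHom.comp_apply, ← h4, Units.val_one, Matrix.one_mulVec, mul_inv_eq_iff_eq_mul]
      exact CL.Loc.ea_mul_comm hV (mem_map_of_mem π hx) ((h3 _).2 ⟨_, rfl⟩)
    · obtain ⟨a, ha⟩ := (h3 _).1 (mem_map_of_mem π hv)
      have h5 := h4 (π x) a
      rw [show φ (π x) = 1 from hx, Units.val_one, Matrix.one_mulVec, ha, mul_inv_eq_iff_eq_mul] at h5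
      exact (QuotientGroup.eq_one_iff _).1 ((map_commutatorElement π v x).trans
        (commutatorElement_eq_one_iff_mul_comm.2 h5.symm))
  let ψ := QuotientGroup.lift Q (φ.comp π) hk.le
  have hψ : Function.Injective ψ := (QuotientGroup.injective_lift_iff Q (φ.comp π) hk.le).2 hk
  have hψ' : ψ.range ≤ φ.range := by
    rintro _ ⟨x, rfl⟩
    obtain ⟨x, rfl⟩ := QuotientGroup.mk_surjective x
    exact ⟨π x, (QuotientGroup.lift_mk' Q hk.le x).symm⟩
  obtain rfl : e = 4 := by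
    have h5 : 720 ∣ Nat.card (X ⧸ Q) := by
      rcases h with ⟨⟨k⟩⟩ | ⟨⟨k⟩⟩ <;> rw [Nat.card_congr k.toEquiv]
      · rw [Nat.card_perm, Nat.card_fin]; decide
      · rw [CL.Perm.A8.card_alt_eight]; decide
    exact s3_four hle (h5.trans (card_dvd_of_injective ψ hψ))
  have hI : Crd ι φ := ⟨h1, h2, h4, fun y => by
    obtain ⟨x, rfl⟩ := QuotientGroup.mk'_surjective Φ y
    rw [← h3, ← MonoidHom.comp_apply, ← MonoidHom.mem_ker, ← hk, ← mem_comap, comap_map_eq, QuotientGroup.ker_mk',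
      sup_eq_left.2 (map_subtype_le _)]⟩
  exact s3_crd hI hψ hψ' h (CL.Fgs.secRank_of_surjective hS π (QuotientGroup.mk'_surjective _))

end CL.GH4
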