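/-
Simple groups of small length: the component with elementary abelian Sylow 2-subgroups of order 8.
-/
import Cfsg.Agent.Inv.LenU0

set_option autoImplicit false
open Cfsg Subgroup CL.Even CL.Grp

namespace CL.Inv.Len

universe u

variable {G : Type*} [Group G] [Finite G] {l : ℕ} {S T U D : Subgroup G} {t : G}

omit [Finite G] in
theorem le_cent_of_sq {D : Subgroup G} (h : ∀ x ∈ D, x * x = 1) : D ≤ 𝒞(D) := fun a ha b hb => by
  have h1 : ∀ x ∈ D, x⁻¹ = x := fun x hx => inv_eq_of_mul_eq_one_right (h x hx)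
  rw [← h1 _ (mul_mem hb ha), mul_inv_rev, h1 a ha, h1 b hb]

theorem Comp.even_relIndex (h : Comp S T U D t) {N : Subgroup G} (hT : T ≤ N) {s : G} (hs : s ∈ S) (hsT : s ∉ T)
    (hsN : s ∈ N) : 2 ∣ (𝒞(zpowers t)).relIndex N := by
  have h1 := (two_mul_card_dvd_of_lt (h.syl.isPGroup.to_le (inf_le_left : S ⊓ N ≤ S))
    (lt_of_le_of_ne (le_inf h.le hT) fun e => hsT (e.ge ⟨hs, hsN⟩))).trans (card_dvd_of_le inf_le_right)
  have h2 := (h.sylT.of_le (le_inf h.sylT.le hT) inf_le_left).not_dvd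
  rw [← card_inf_mul_relIndex 𝒞(zpowers t) N, ← card_mul_relIndex (le_inf h.sylT.le hT), mul_assoc, mul_comm 2,
    Nat.mul_dvd_mul_iff_left Nat.card_pos] at h1
  exact (Nat.prime_two.dvd_mul.1 h1).resolve_left h2

theorem Loc.om_add (hL : Loc G l) {N K : Subgroup G} (hN : Group.IsSolvable N) {n : ℕ}
    (hn : n ∣ Nat.card (K ⊓ N : Subgroup G)) :
    n.primeFactorsList.length + (K.relIndex N).primeFactorsList.length ≤ l := by
  have h1 := hL.omega N hN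
  have h2 := length_primeFactorsList_le_of_dvd hn Nat.card_pos.ne'
  rw [om, ← card_inf_mul_relIndex K N, length_primeFactorsList_mul Nat.card_pos.ne' (show K.relIndex N ≠ 0 from index_ne_zero_of_finite)] at h1
  omega

theorem two_le_om {m : ℕ} (h2 : 2 ∣ m) (h3 : 3 ≤ m) : 2 ≤ m.primeFactorsList.length := by
  obtain ⟨c, rfl⟩ := h2
  rw [length_primeFactorsList_mul two_ne_zero (by omega), Nat.primeFactorsList_prime Nat.prime_two]
  have : c.primeFactorsList ≠ [] := by rw [Ne, Nat.primeFactorsList_eq_nil]; omega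
  have := List.length_pos_iff.2 this
  simp only [List.length_singleton]
  omega

theorem three_le_relIndex {N : Subgroup G} {a g k : G} (hg : g ∈ N) (hk : k ∈ N) (h1 : g * a * g⁻¹ ≠ a)
    (h2 : k * a * k⁻¹ ≠ a) (h3 : g * a * g⁻¹ ≠ k * a * k⁻¹) : 3 ≤ (𝒞(zpowers a)).relIndex N := by
  rw [relIndex_cz, ← Set.ncard_eq_three.2 ⟨a, _, _, h1.symm, h2.symm, h3, rfl⟩]
  refine Set.ncard_le_ncard ?_
  rintro _ (rfl | rfl | rfl)
  exacts [⟨1, one_mem _, by simp⟩, ⟨g, hg, rfl⟩, ⟨k, hk, rfl⟩]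

theorem caseE : CaseE.{u} := by
  intro G _ _ l S T U D t hL h
  have hU4 : Nat.card U ≤ 4 := h.budget.trans (Nat.pow_le_pow_right two_pos (show l - 5 ≤ 2 by
    have := hL.le_seven; omega))
  have hTc : T ≤ 𝒞(T) := by
    rw [h.sup, cent_sup]
    exact sup_le (le_inf (h.U_comm hU4) h.comm) (le_inf (le_centralizer_iff.1 h.comm) (le_cent_of_sq h.elem))
  by_contra hS
  have hne : T ≠ S := fun e => hS (e ▸ hTc)
  obtain ⟨s, hs, hsT, hsn, hs2⟩ := h.exists_s hne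
  have hN := hL.solvN T h.isP (fun e => h.t_ne (mem_bot.1 (e ▸ h.UT h.tU))) h.solv
  obtain ⟨ρ, ⟨hρU, hρD⟩, hρ⟩ := h.rho
  have hρT : ρ ∈ 𝒩(T) := h.sup ▸ le_norm_sup (zpowers_le.2 (cent_le_norm U hρU)) (zpowers_le.2 hρD) (mem_zpowers ρ)
  have hmove : ∀ u ∈ U, ∀ a ∈ D, ∀ b ∈ D, a ≠ 1 → b ≠ 1 → ∃ g ∈ zpowers ρ, g * (u * a) * g⁻¹ = u * b :=
    fun u hu a ha b hb a1 b1 => by
      obtain ⟨k, hk⟩ := hρ a ha b hb a1 b1
      refine ⟨ρ ^ k, pow_mem (mem_zpowers ρ) k, ?_⟩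
      rw [← hk, ← mul_assoc, ← comm_of_mem (pow_mem hρU k) hu]; group
  have hD7 : ∀ u : G, ((fun d => u * d) '' ((D : Set G) \ {1})).ncard = 7 := fun u => by
    rw [Set.ncard_image_of_injective _ (mul_right_injective u), Set.ncard_diff_singleton_of_mem D.one_mem]
    exact congrArg (· - 1) h.cardD
  obtain ⟨u, hu, d, hd, e⟩ := h.mem_sup (h.sup ▸ conj_mem hsn (h.UT h.tU))
  have hd1 : d ≠ 1 := fun e1 => h.conj_notMem hs hsT hsn hs2 h.tU h.t_ne (by rw [← e, e1, mul_one]; exact hu)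
  have h7 : 7 ∣ Nat.card (zpowers ρ) := by
    rw [← card_inf_mul_relIndex 𝒞(zpowers d), relIndex_cz, ← hD7 1]
    refine Dvd.intro_left _ (congrArg (_ * Set.ncard ·) (Set.ext fun y => ⟨?_, ?_⟩))
    · rintro ⟨b, hb, rfl⟩
      simpa using hmove 1 (one_mem _) d hd b hb.1 hd1 hb.2
    · rintro ⟨g, hg, rfl⟩
      exact ⟨_, ⟨conj_mem (zpowers_le.2 hρD hg) hd, by simpa using hd1⟩, one_mul _⟩
  have hH : Nat.card T * 7 ∣ Nat.card (𝒞(zpowers t) ⊓ 𝒩(T) : Subgroup G) := by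
    obtain ⟨k, hk⟩ := IsPGroup.iff_card.1 h.isP
    refine Nat.Coprime.mul_dvd_of_dvd_of_dvd (hk ▸ Nat.Coprime.pow_left k (by norm_num))
      (card_dvd_of_le (le_inf h.sylT.le le_normalizer)) (h7.trans (card_dvd_of_le (zpowers_le.2 ⟨?_, hρT⟩)))
    exact mem_cz.2 (comm_of_mem hρU h.tU)
  have hom := (hL.om_add hN hH).trans hL.le_seven
  have htu : t ∉ (fun d => u * d) '' ((D : Set G) \ {1}) := fun ⟨b, hb, e1⟩ =>
    hb.2 (mem_bot.1 (h.disj.le ⟨by rw [show b = u⁻¹ * t by rw [← e1]; group]; exact U.mul_mem (U.inv_mem hu) h.tU, hb.1⟩))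
  have hsub : insert t ((fun d => u * d) '' ((D : Set G) \ {1})) ⊆ {y | ∃ g ∈ 𝒩(T), g * t * g⁻¹ = y} := by
    rintro _ (rfl | ⟨b, hb, rfl⟩)
    · exact ⟨1, one_mem _, by simp⟩
    · obtain ⟨g, hg, e1⟩ := hmove u hu d hd b hb.1 hd1 hb.2
      exact ⟨g * s, mul_mem (zpowers_le.2 hρT hg) hsn, by simp only; rw [← e1, e]; group⟩
  have h8 : (insert t ((fun d => u * d) '' ((D : Set G) \ {1}))).ncard = 8 := by
    rw [Set.ncard_insert_of_notMem htu, hD7]
  have hcT : Nat.card T = Nat.card U * 8 := by rw [h.sup, h.card_sup, h.cardD]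
  obtain ⟨k, hk⟩ := h.card_U
  have hk1 : k ≤ 1 := by
    by_contra h1
    have : 2 ^ 3 ≤ 2 ^ (k + 1) := Nat.pow_le_pow_right two_pos (by omega)
    omega
  interval_cases k
  · obtain ⟨z, hz, ho, -, hzt⟩ := h.exists_z hne
    obtain ⟨u₀, hu₀, d₀, hd₀, e₀⟩ := h.mem_sup (h.sup ▸ hz)
    have hd₀1 : d₀ ≠ 1 := fun e1 => by
      rw [e1, mul_one] at e₀
      rcases h.mem_U_of_two hk (e₀ ▸ hu₀) with e2 | e2
      · simp [e2] at ho
      · exact hzt (e2 ▸ IsConj.refl _)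
    have key : ∀ v ∈ U, ∀ b ∈ D, b ≠ 1 → IsConj t (v * b) → v ≠ u₀ := fun v hv b hb b1 hc e1 => by
      obtain ⟨g, -, e2⟩ := hmove v hv b hb d₀ hd₀ b1 hd₀1
      exact hzt (hc.trans (isConj_iff.2 ⟨g, by rw [e2, e1, e₀]⟩))
    have hm : (𝒞(zpowers t)).relIndex 𝒩(T) = 8 := by
      rw [relIndex_cz, ← h8]
      refine congrArg _ (Set.Subset.antisymm ?_ hsub)
      rintro _ ⟨g, hg, rfl⟩
      obtain ⟨v, hv, b, hb, e1⟩ := h.mem_sup (h.sup ▸ conj_mem hg (h.UT h.tU))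
      by_cases b1 : b = 1
      · left
        rw [b1, mul_one] at e1
        exact (h.mem_U_of_two hk (e1 ▸ hv)).resolve_left (by simpa using h.t_ne)
      · refine Or.inr ⟨b, ⟨hb, b1⟩, ?_⟩
        have k1 := key v hv b hb b1 (isConj_iff.2 ⟨g, e1.symm⟩)
        have k2 := key u hu d hd hd1 (isConj_iff.2 ⟨s, e.symm⟩)
        have : u = v := by
          rcases h.mem_U_of_two hk hu with a1 | a1 <;> rcases h.mem_U_of_two hk hv with a2 | a2 <;>
            rcases h.mem_U_of_two hk hu₀ with a3 | a3 <;> simp_all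
        simp only [this, e1]
    rw [hm, hcT, hk] at hom
    simp [Nat.primeFactorsList_ofNat] at hom
  · have h3 : 3 ≤ (𝒞(zpowers t)).relIndex 𝒩(T) := by
      rw [relIndex_cz]
      exact le_trans (by omega) (Set.ncard_le_ncard hsub)
    have := two_le_om (h.even_relIndex le_normalizer hs hsT hsn) h3
    rw [hcT, hk] at hom
    simp [Nat.primeFactorsList_ofNat] at hom
    omega

end CL.Inv.Len
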