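/-
Simple groups of small length: a 2-group of order 32 with an automorphism of order three.
-/
import Cfsg.Agent.Inv.LenU0
import Cfsg.Agent.Inv.DihFusion

set_option autoImplicit false
open Cfsg Subgroup CL.Even CL.Grp
open scoped commutatorElement

namespace CL.Inv.Len

theorem kf_third {X : Type*} [Group X] {W : Subgroup X} (hW : IsKleinFour W) (α : X →* X) (hα : ∀ w ∈ W, α w ∈ W)
    (hf : ∀ w ∈ W, α w = w → w = 1) (hi : Function.Injective α) {v : X} (hv : v ∈ W) : α (α v) = v * α v := by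
  by_cases h1 : v = 1
  · simp [h1]
  have k1 : α v ≠ 1 := fun e => h1 (hi (e.trans (map_one α).symm))
  have k2 : v ≠ α v := fun e => h1 (hf v hv e.symm)
  refine IsKleinFour.eq_mul_of_mem hW hv (hα v hv) (hα _ (hα v hv)) h1 k1 k2
    (fun e => k1 (hi (e.trans (map_one α).symm))) (fun e => k2 ?_) fun e => k1 (hf _ (hα v hv) e)
  have h2 := hf _ (mul_mem hv (hα v hv)) (by
    rw [map_mul, e]; exact le_centralizer_iff_isMulCommutative.2 hW.isMulCommutative hv _ (hα v hv))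
  exact mul_right_cancel (h2.trans (IsKleinFour.mul_self_of_mem hW (hα v hv)).symm)

theorem kf_cases {X : Type*} [Group X] {W : Subgroup X} (hW : IsKleinFour W) {a b w : X} (ha : a ∈ W) (hb : b ∈ W)
    (a1 : a ≠ 1) (b1 : b ≠ 1) (hab : a ≠ b) (hw : w ∈ W) : w = 1 ∨ w = a ∨ w = b ∨ w = a * b := by
  by_contra h
  push Not at h
  exact h.2.2.2 (IsKleinFour.eq_mul_of_mem hW ha hb hw a1 b1 hab h.1 h.2.1 h.2.2.1)

theorem exists_abelian_sixteen {X : Type*} [Group X] [Finite X] (hX : IsPGroup 2 X) {W : Subgroup X}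
    (hW : IsKleinFour W) (hZ : W ≤ center X) {a : X} (ha : a * a = 1) (haW : a ∉ W) (h1 : ∀ x, x * a * x⁻¹ * a ∈ W)
    (h2 : ∀ x, x * a = a * x → x ∈ W ∨ a * x ∈ W) (α : MulAut X) (hαa : α a = a) (hα : ∀ w ∈ W, α w ∈ W)
    (hf : ∀ w ∈ W, α w = w → w = 1) {s : X} (hs : s * a ≠ a * s) :
    ∃ R : Subgroup X, R.index = 2 ∧ R ≤ 𝒞(R) ∧ a ∉ R ∧ W ≤ R ∧ 16 ∣ Nat.card R ∧ ∀ β : MulAut X, ∀ x ∈ R, β x ∈ R := by
  have hc : ∀ w ∈ W, ∀ x : X, x * w = w * x := fun w hw => mem_center_iff.1 (hZ hw)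
  have hw2 : ∀ w ∈ W, w * w = 1 := fun w hw => IsKleinFour.mul_self_of_mem hW hw
  let φ : X →* X := MonoidHom.mk' (fun x => x * a * x⁻¹ * a) fun x y => by
    calc x * y * a * (x * y)⁻¹ * a = x * (y * a * y⁻¹ * a) * (a * a)⁻¹ * a * x⁻¹ * a := by group
      _ = _ := by rw [hc _ (h1 y) x, ha, hc _ (h1 y)]; group
  have hφ : ∀ x, φ x = x * a * x⁻¹ * a := fun _ => rfl
  have hφ1 : ∀ x, φ x = 1 → x ∈ W ∨ a * x ∈ W := fun x hx => h2 x (by
    rw [hφ, ← ha, mul_left_inj, mul_inv_eq_iff_eq_mul] at hx; exact hx)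
  have hφα : ∀ x, φ (α x) = α (φ x) := fun x => by simp only [hφ, map_mul, map_inv, hαa]
  have hsq : ∀ x : X, x * x ∈ W := fun x => by
    refine (hφ1 _ (by rw [map_mul]; exact hw2 _ (h1 x))).resolve_right fun h => haW ?_
    have h3 : x * a = a * x := by
      have := hc _ h x
      calc x * a = x * (a * (x * x)) * (x * x)⁻¹ := by group
        _ = _ := by rw [this]; group
    have h4 : x * x = 1 := by
      rcases h2 x h3 with e | e
      · exact hw2 _ e
      · have := hw2 _ e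
        rwa [← mul_assoc, mul_assoc a, h3, ← mul_assoc, ha, one_mul] at this
    simpa [h4] using h
  have hcm : ∀ x y : X, ⁅x, y⁆ ∈ W := fun x y => by
    rw [show ⁅x, y⁆ = (x * y) * (x * y) * (y⁻¹ * ((x * x)⁻¹ * y)) * (y * y)⁻¹ by rw [commutatorElement_def]; group,
      ← hc _ (inv_mem (hsq x)), inv_mul_cancel_left]
    exact mul_mem (mul_mem (hsq _) (inv_mem (hsq x))) (inv_mem (hsq y))
  haveI : W.Normal := ⟨fun n hn g => by rwa [hc n hn, mul_inv_cancel_right]⟩
  letI : CommGroup (X ⧸ W) := { (inferInstance : Group (X ⧸ W)) with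
    mul_comm := fun x y => by
      obtain ⟨x, rfl⟩ := QuotientGroup.mk'_surjective W x
      obtain ⟨y, rfl⟩ := QuotientGroup.mk'_surjective W y
      rw [← commutatorElement_eq_one_iff_mul_comm, ← map_commutatorElement]
      exact (QuotientGroup.eq_one_iff _).2 (hcm x y) }
  let π := QuotientGroup.mk' W
  let f : X →* X ⧸ W := π * π.comp α.toMonoidHom * π.comp (α.toMonoidHom.comp α.toMonoidHom)
  have hf1 : ∀ x, x ∈ f.ker ↔ x * α x * α (α x) ∈ W := fun x =>
    QuotientGroup.eq_one_iff (x * α x * α (α x))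
  have h3 : ∀ v ∈ W, α (α v) = v * α v := fun v hv => kf_third hW α.toMonoidHom hα hf α.injective hv
  have hn : ∀ v ∈ W, v * α v * α (α v) = 1 := fun v hv => by rw [h3 v hv, hw2 _ (mul_mem hv (hα v hv))]
  have haR : a ∉ f.ker := by rw [hf1, hαa, hαa, ha, one_mul]; exact haW
  have hWR : W ≤ f.ker := fun w hw => by rw [hf1, hn w hw]; exact one_mem _
  have hor : ∀ x, x ∈ f.ker ∨ a * x ∈ f.ker := fun x => by
    refine (hφ1 (x * α x * α (α x)) (by rw [map_mul, map_mul, hφα, hφα, hφα]; exact hn _ (h1 x))).imp (hf1 x).2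
      fun h => ?_
    have e1 : f a = π a := by
      change π a * π (α a) * π (α (α a)) = π a
      rw [hαa, hαa, ← map_mul, ha, map_one, one_mul]
    rw [MonoidHom.mem_ker, map_mul, e1]
    exact (QuotientGroup.eq_one_iff _).2 h
  have hidx : f.ker.index = 2 := index_eq_two_iff'.2 ⟨a, fun x => by
    rcases hor x with h | h
    · exact .inr ⟨h, fun e => haR ((mul_mem_cancel_right h).1 e)⟩
    · exact .inl ⟨h, fun e => haR ((mul_mem_cancel_right e).1 h)⟩⟩
  have hRα : ∀ x ∈ f.ker, α x ∈ f.ker := fun x hx => by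
    rw [hf1] at hx ⊢
    simpa only [map_mul] using hα _ hx
  have hK : ∀ x ∈ f.ker, φ x = 1 → x ∈ W := fun x hx h =>
    (hφ1 x h).resolve_right fun e => haR ((mul_mem_cancel_right hx).1 (hWR e))
  have hK' : ∀ x ∈ f.ker, ∀ y ∈ f.ker, φ x = φ y → ∃ w ∈ W, x = w * y := fun x hx y hy h =>
    ⟨x * y⁻¹, hK _ (mul_mem hx (inv_mem hy)) (by rw [map_mul, map_inv, h, mul_inv_cancel]), by group⟩
  have hne : ∀ x, φ x ≠ 1 → φ (α x) ≠ 1 ∧ φ x ≠ φ (α x) := fun x hx =>
    ⟨by rw [hφα]; simpa using hx, fun e => hx (hf _ (h1 x) ((hφα x).symm.trans e.symm))⟩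
  have hab : f.ker ≤ 𝒞(f.ker) := fun y hy x hx => by
    by_cases hx1 : φ x = 1
    · exact (hc _ (hK x hx hx1) y).symm
    have k1 : Commute x (α x) := by
      obtain ⟨w, hw, e⟩ := hK' _ (hRα _ (hRα x hx)) _ (mul_mem hx (hRα x hx)) (by
        rw [map_mul, hφα, hφα]; exact h3 _ (h1 x))
      refine commutatorElement_eq_one_iff_commute.1 (hf _ (hcm _ _) ?_)
      rw [map_commutatorElement, e, ← inv_eq_of_mul_eq_one_right (hw2 _ (hcm x (α x))), commutatorElement_inv,
        commutatorElement_def, commutatorElement_def, ← mul_assoc, ← mul_assoc, hc w hw (α x)]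
      calc _ = w * (α x * x * (α x)⁻¹ * x⁻¹ * w⁻¹) := by group
        _ = _ := by rw [hc _ (inv_mem hw), mul_inv_cancel_left]
    have k2 : ∀ g ∈ f.ker, Commute x g → φ y = φ g → x * y = y * x := fun g hg hcg e => by
      obtain ⟨w, hw, rfl⟩ := hK' y hy g hg e
      exact (Commute.mul_right (hc w hw x) hcg).eq
    rcases kf_cases hW (h1 x) (h1 (α x)) hx1 (hne x hx1).1 (hne x hx1).2 (h1 y) with e | e | e | e
    · exact hc _ (hK y hy e) x
    · exact k2 x hx (Commute.refl x) e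
    · exact k2 _ (hRα x hx) k1 e
    · exact k2 _ (mul_mem hx (hRα x hx)) ((Commute.refl x).mul_right k1) (by rw [map_mul]; exact e)
  have hφW : ∀ w ∈ W, φ w = 1 := fun w hw => by rw [hφ, ← hc w hw a, mul_inv_cancel_right, ha]
  have hφa : φ a = 1 := by rw [hφ, mul_inv_cancel_right, ha]
  obtain ⟨x, hx, hx1⟩ : ∃ x ∈ f.ker, φ x ≠ 1 := by
    have : φ s ≠ 1 := fun e => hs (by rw [hφ, ← ha, mul_left_inj, mul_inv_eq_iff_eq_mul] at e; exact e)
    rcases hor s with h | h
    · exact ⟨s, h, this⟩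
    · exact ⟨_, h, by rwa [map_mul, hφa, one_mul]⟩
  have h16 : 16 ∣ Nat.card f.ker := by
    have k1 : W < f.ker ⊓ (zpowers (φ x)).comap φ := lt_of_le_of_ne
      (le_inf hWR fun w hw => by rw [mem_comap, hφW w hw]; exact one_mem _)
      fun e => hx1 (hφW x (e.ge ⟨hx, mem_zpowers _⟩))
    have k2 : f.ker ⊓ (zpowers (φ x)).comap φ < f.ker := lt_of_le_of_ne inf_le_left fun e => by
      obtain ⟨k, hk⟩ := (e.ge (hRα x hx)).2
      have h5 : φ x ^ (2 : ℤ) = 1 := by rw [zpow_two]; exact hw2 _ (h1 x)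
      rcases Int.even_or_odd' k with ⟨r, rfl | rfl⟩
      · exact (hne x hx1).1 (by simpa only [zpow_mul, h5, one_zpow] using hk.symm)
      · exact (hne x hx1).2 (by simpa only [zpow_add, zpow_mul, h5, one_zpow, one_mul, zpow_one] using hk)
    have := (Nat.mul_dvd_mul_left 2 (two_mul_card_dvd_of_lt (hX.to_subgroup _) k1)).trans
      (two_mul_card_dvd_of_lt (hX.to_subgroup _) k2)
    rwa [hW.card_four] at this
  refine ⟨f.ker, hidx, hab, haR, hWR, h16, fun β y hy => by_contra fun hy' => ?_⟩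
  have k1 : f.ker ⊓ f.ker.map β.toMonoidHom ≤ W := by
    rintro _ ⟨hg, g, hg', rfl⟩
    have e1 : β g * β y = β y * β g := by rw [← map_mul, ← map_mul, hab hy g hg']
    have e2 := hab ((hor _).resolve_left hy') _ hg
    refine (h2 (β g) (mul_right_cancel (b := β y) ?_)).resolve_right fun e => haR ((f.ker.mul_mem_cancel_right hg).1 (hWR e))
    rw [mul_assoc, mul_assoc, e1, ← mul_assoc a]
    exact e2
  have k2 := card_le_of_le k1
  have k3 := card_inf_mul_relIndex f.ker (f.ker.map β.toMonoidHom)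
  have k4 := Nat.le_of_dvd two_pos (hidx ▸ relIndex_dvd_index_of_normal f.ker (f.ker.map β.toMonoidHom))
  have k5 := Nat.le_of_dvd Nat.card_pos h16
  rw [card_map_of_injective β.injective] at k3
  rw [hW.card_four] at k2
  nlinarith

end CL.Inv.Len
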