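/-
Simple groups of small length: the component with dihedral Sylow 2-subgroups, `U ≠ ⟨t⟩` or `T = U × D` abelian.
-/
import Cfsg.Agent.Inv.LenU1
import Cfsg.Agent.Inv.LenU2
import Cfsg.Agent.Transfer.Control

set_option autoImplicit false
open Cfsg Subgroup CL.Even CL.Grp

namespace CL.Inv.Len

universe u

variable {G : Type*} [Group G] [Finite G] {l : ℕ} {S T U D : Subgroup G} {t : G}

omit [Finite G] in
theorem dih_center_eq (h : IsDih D) (h4 : Nat.card D ≠ 4) {a b : G} (ha : a ∈ D ⊓ 𝒞(D)) (hb : b ∈ D ⊓ 𝒞(D))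
    (a1 : a ≠ 1) (b1 : b ≠ 1) : a = b := by
  obtain ⟨m, hm, ⟨e⟩⟩ := h
  haveI : NeZero m := ⟨by omega⟩
  have hm2 : m ≠ 2 := fun h => h4 (by rw [Nat.card_congr e.toEquiv, DihedralGroup.nat_card, h])
  have key : ∀ c (hc : c ∈ D ⊓ 𝒞(D)), c ≠ 1 → ∃ i : ZMod m, e ⟨c, hc.1⟩ = .r i ∧ 2 * i.val = m := fun c hc c1 => by
    have h1 : ∀ x, x * e ⟨c, hc.1⟩ = e ⟨c, hc.1⟩ * x := fun x => by
      obtain ⟨x, rfl⟩ := e.surjective x
      rw [← map_mul, ← map_mul]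
      exact congrArg e (Subtype.ext (hc.2 x x.2))
    rcases he : e ⟨c, hc.1⟩ with i | i <;> rw [he] at h1
    · have h2 := h1 (.sr 0)
      simp only [DihedralGroup.sr_mul_r, DihedralGroup.r_mul_sr, DihedralGroup.sr.injEq, zero_add, zero_sub] at h2
      refine ⟨i, rfl, ((ZMod.neg_eq_self_iff i).1 h2.symm).resolve_left fun h0 => c1 ?_⟩
      rw [h0, ← DihedralGroup.one_def, map_eq_one_iff _ e.injective] at he
      exact congrArg Subtype.val he
    · have h2 := h1 (.r 1)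
      simp only [DihedralGroup.sr_mul_r, DihedralGroup.r_mul_sr, DihedralGroup.sr.injEq] at h2
      have h3 : ((2 : ℕ) : ZMod m) = 0 := by push_cast; linear_combination -h2
      have := Nat.le_of_dvd two_pos ((ZMod.natCast_eq_zero_iff 2 m).1 h3)
      omega
  obtain ⟨i, hi, hi'⟩ := key a ha a1
  obtain ⟨j, hj, hj'⟩ := key b hb b1
  rw [ZMod.val_injective m (show i.val = j.val by omega), ← hj] at hi
  exact congrArg Subtype.val (e.injective hi)

omit [Finite G] in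
theorem klein_of_dih (h : IsDih D) (h4 : Nat.card D = 4) : IsKleinFour D := by
  obtain ⟨m, hm, ⟨e⟩⟩ := h
  obtain rfl : m = 2 := by rw [Nat.card_congr e.toEquiv, DihedralGroup.nat_card] at h4; omega
  exact isKleinFour_of_equiv e.symm inferInstance

omit [Finite G] in
theorem mul_mem_of_relIndex_two {A B : Subgroup G} (h : A.relIndex B = 2) {a b : G} (ha : a ∈ B) (hb : b ∈ B)
    (ha' : a ∉ A) (hb' : b ∉ A) : a * b ∈ A :=
  (mul_mem_iff_of_index_two (H := A.subgroupOf B) h (a := ⟨a, ha⟩) (b := ⟨b, hb⟩)).2 (iff_of_false ha' hb')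

theorem exists_pair_of_card {U : Subgroup G} (h : 3 ≤ Nat.card U) : ∃ a ∈ U, ∃ b ∈ U, a ≠ 1 ∧ b ≠ 1 ∧ a ≠ b := by
  classical
  have := Fintype.ofFinite U
  have h3 : 1 < (Finset.univ.erase (1 : U)).card := by
    rw [Finset.card_erase_of_mem (Finset.mem_univ _), Finset.card_univ, ← Nat.card_eq_fintype_card]
    omega
  obtain ⟨a, ha, b, hb, hab⟩ := Finset.one_lt_card.1 h3
  exact ⟨a, a.2, b, b.2, by simpa using ha, by simpa using hb, by simpa using hab⟩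

theorem CompD.solv_norm (hL : Loc G l) (h : CompD l S T U D t) (hW : IsKleinFour D) :
    Group.IsSolvable 𝒩(U ⊔ D) :=
  hL.solvN _ (h.isP.to_le (sup_le h.UT h.DT)) (fun e => h.t_ne (mem_bot.1 (e ▸ mem_sup_left h.tU)))
    (solv_of_le (le_inf (cent_mono (zpowers_le.2 (mem_sup_left h.tU))) (cent_mono le_sup_right)) (h.solv D le_rfl hW))

theorem CompD.four_le (h : CompD l S T U D t) (h2 : Nat.card U ≠ 2) : 4 ≤ Nat.card U := by
  obtain ⟨k, hk⟩ := h.card_U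
  rcases k with _ | k
  · exact absurd hk h2
  · rw [hk]; exact Nat.pow_le_pow_right two_pos (show 2 ≤ k + 1 + 1 by omega)

theorem case_iii (hL : Loc G l) (h : CompD l S T U D t) (h2 : Nat.card U ≠ 2) (h4 : Nat.card D ≠ 4) : False := by
  have h1 := h.budget8 h4
  have h3 := h.four_le h2
  have h5 : 0 < (U ⊔ D).relIndex T := Nat.pos_of_ne_zero index_ne_zero_of_finite
  have h6 : 2 ^ (l - 5) ≤ 2 ^ 2 := Nat.pow_le_pow_right two_pos (by have := hL.le_seven; omega)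
  have h7 : l ≠ 6 := by rintro rfl; norm_num at h1; nlinarith
  have h8 : T ≤ U ⊔ D := relIndex_eq_one.1 (by nlinarith)
  obtain ⟨s, hs, hsT, hsn, hs2⟩ := h.exists_s (h.ne_of_seven hL h7)
  have hUT : U ≤ 𝒞(T) := (le_inf (h.U_comm (by nlinarith)) h.comm).trans ((cent_sup U D).ge.trans (cent_mono h8))
  have key : ∀ a ∈ U, a ≠ 1 → ∃ u ∈ U, ∃ d ∈ D ⊓ 𝒞(D), d ≠ 1 ∧ u * d = s * a * s⁻¹ := fun a ha a1 => by
    obtain ⟨u, hu, d, hd, e⟩ := h.mem_sup (h8 (conj_mem hsn (h.UT ha)))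
    refine ⟨u, hu, d, ⟨hd, ?_⟩, fun e1 => h.conj_notMem hs hsT hsn hs2 ha a1 (by rw [← e, e1, mul_one]; exact hu), e⟩
    rw [show d = u⁻¹ * (s * a * s⁻¹) by rw [← e]; group]
    exact 𝒞(D).mul_mem (𝒞(D).inv_mem (h.comm hu)) (cent_mono h.DT (conj_mem (norm_le_norm_cent T hsn) (hUT ha)))
  obtain ⟨a, ha, b, hb, a1, b1, hab⟩ := exists_pair_of_card (U := U) (by omega)
  obtain ⟨u, hu, d, hd, d1, e⟩ := key a ha a1
  obtain ⟨u', hu', d', hd', d1', e'⟩ := key b hb b1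
  refine h.conj_notMem hs hsT hsn hs2 (mul_mem ha (inv_mem hb)) (by rwa [Ne, mul_inv_eq_one]) ?_
  rw [show s * (a * b⁻¹) * s⁻¹ = s * a * s⁻¹ * (s * b * s⁻¹)⁻¹ by group, ← e, ← e',
    dih_center_eq h.dih h4 hd hd' d1 d1', show u * d' * (u' * d')⁻¹ = u * u'⁻¹ by group]
  exact mul_mem hu (inv_mem hu')

theorem case_ii (hL : Loc G l) (h : CompD l S T U D t) (h2 : Nat.card U ≠ 2) (h4 : Nat.card D = 4)
    (hT : T ≠ U ⊔ D) : False := by
  have hW := klein_of_dih h.dih h4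
  have h1 := h.budget4
  have h3 := h.four_le h2
  have h5 : 0 < (U ⊔ D).relIndex T := Nat.pos_of_ne_zero index_ne_zero_of_finite
  have h5' : (U ⊔ D).relIndex T ≠ 1 := fun e => hT (le_antisymm (relIndex_eq_one.1 e) (sup_le h.UT h.DT))
  have h6 : 2 ^ (l - 4) ≤ 2 ^ 3 := Nat.pow_le_pow_right two_pos (by have := hL.le_seven; omega)
  have h5'' : 2 ≤ (U ⊔ D).relIndex T := by omega
  have h7 : l ≠ 6 := by rintro rfl; norm_num at h1; nlinarith
  have h8 : (U ⊔ D).relIndex T = 2 := by nlinarith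
  have h9 : Nat.card U = 4 := by nlinarith
  have hcA : Nat.card (U ⊔ D : Subgroup G) = 16 := by rw [h.card_sup, h9, h4]
  obtain ⟨s, hs, hsT, hsn, hs2⟩ := h.exists_s (h.ne_of_seven hL h7)
  by_cases hle : cj s U ≤ U ⊔ D
  · have h10 : U ⊔ cj s U = U ⊔ D := eq_of_le_of_card_ge (sup_le le_sup_left hle) (by
      rw [hcA, card_sup_of_inf_eq_bot ((le_centralizer_iff.1 (h.cj_le_cent hs hsT hsn hs2)).trans (cent_le_norm _))
        (h.inf_cj hs hsT hsn hs2), card_cj, h9])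
    obtain ⟨ρ, hρ, hρ3, hρW, -⟩ := h.rho D le_rfl hW
    refine hL.false_of_64 (h.solv_norm hL hW) (P := T ⊔ zpowers s) (sup_le (le_norm_sup h.normU h.normD)
      (zpowers_le.2 (cj_eq_iff_mem.1 ?_))) ?_ (h.cent4 h4 ▸ hρ.2) (three_dvd_orderOf hρ3 fun e => hρW (e ▸ one_mem _))
    · rw [← h10, cj_sup, ← cj_mul, cj_eq (h.normU hs2), sup_comm]
    · have := two_mul_card_dvd_of_lt (h.syl.isPGroup.to_le (sup_le h.le (zpowers_le.2 hs)))
        (lt_of_le_of_ne le_sup_left fun e => hsT (e.ge (mem_sup_right (mem_zpowers s))))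
      rwa [← card_mul_relIndex (sup_le h.UT h.DT), hcA, h8] at this
  · obtain ⟨x, hx, hxA⟩ := SetLike.not_le_iff_exists.1 hle
    have hA : U ⊔ D ≤ 𝒞(U) := sup_le (h.U_comm h9.le) (le_centralizer_iff.1 h.comm)
    have hTU : T ≤ 𝒞(U) := fun g hg => by
      by_cases hg' : g ∈ U ⊔ D
      · exact hA hg'
      · exact (mul_mem_cancel_right (h.cj_le_cent hs hsT hsn hs2 hx)).1
          (hA (mul_mem_of_relIndex_two h8 hg (cj_le_of_le h.UT hsn hx) hg' hxA))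
    refine hle (h.cent4 h4 ▸ le_inf (cj_le_of_le h.UT hsn) ?_)
    exact (cj_le_of_le (le_centralizer_iff.1 hTU) (norm_le_norm_cent T hsn)).trans (cent_mono h.DT)

theorem CompD.rho' (h : CompD l S T U D t) (hW : IsKleinFour D) (hT : T = U ⊔ D) :
    ∃ ρ ∈ 𝒞(U), ρ ∈ 𝒩(T) ∧ ρ ∈ 𝒩(D) ∧ 3 ∣ orderOf ρ ∧ ∀ w ∈ D, ρ * w * ρ⁻¹ = w → w = 1 := by
  obtain ⟨ρ, hρ, hρ3, hρW, hb⟩ := h.rho D le_rfl hW
  rw [h.cent4 hW.card_four, ← hT] at hρ hb
  have hD : ρ ∈ 𝒩(D) := mem_norm_of_cj_le (by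
    rintro _ ⟨d, hd, rfl⟩
    have := mul_mem hd (hb d⁻¹ (inv_mem (h.DT hd)))
    simpa [mul_assoc] using this)
  refine ⟨ρ, hρ.1, hρ.2, hD, three_dvd_orderOf hρ3 fun e => hρW (e ▸ one_mem _), fun w hw e =>
    kleinFour_fixedPointFree hW hD ?_ hρW hw e⟩
  haveI : Fact (Nat.Prime 3) := ⟨by norm_num⟩
  obtain ⟨k, hk⟩ := IsPGroup.iff_card.1 hρ3
  rw [← Nat.card_zpowers, hk]
  exact Nat.Coprime.pow_left k (by norm_num)

theorem case_i_four (hL : Loc G l) (h : CompD l S T U D t) (hW : IsKleinFour D) (hT : T = U ⊔ D) (hne : T ≠ S)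
    (hU : Nat.card U ≠ 2) : False := by
  obtain ⟨s, hs, hsT, hsn, hs2⟩ := h.exists_s hne
  have hcT : Nat.card T = Nat.card U * 4 := by rw [hT, h.card_sup, hW.card_four]
  have h4 : Nat.card U = 4 := by
    have h1 := card_le_of_le (sup_le h.UT (cj_le_of_le h.UT hsn))
    rw [card_sup_of_inf_eq_bot ((le_centralizer_iff.1 (h.cj_le_cent hs hsT hsn hs2)).trans (cent_le_norm _))
      (h.inf_cj hs hsT hsn hs2), card_cj, hcT] at h1
    exact le_antisymm (Nat.le_of_mul_le_mul_left h1 Nat.card_pos) (h.four_le hU)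
  have hsq : ∀ g ∈ T, g * g ∈ U := fun g hg => by
    obtain ⟨u, hu, d, hd, rfl⟩ := h.mem_sup (hT ▸ hg)
    rw [mul_assoc, ← mul_assoc d, comm_of_mem (h.comm hu) hd, mul_assoc, IsKleinFour.mul_self_of_mem hW hd, mul_one]
    exact mul_mem hu hu
  have hU2 : ∀ u ∈ U, u * u = 1 := fun u hu => by_contra fun e =>
    h.conj_notMem hs hsT hsn hs2 (mul_mem hu hu) e (by
      rw [show s * (u * u) * s⁻¹ = s * u * s⁻¹ * (s * u * s⁻¹) by group]; exact hsq _ (conj_mem hsn (h.UT hu)))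
  have hT2 : ∀ g ∈ T, g * g = 1 := fun g hg => by
    obtain ⟨u, hu, d, hd, rfl⟩ := h.mem_sup (hT ▸ hg)
    rw [mul_assoc, ← mul_assoc d, comm_of_mem (h.comm hu) hd, mul_assoc, IsKleinFour.mul_self_of_mem hW hd, mul_one,
      hU2 u hu]
  obtain ⟨ρ, hρU, hρT, hρD, hρ3, hρ⟩ := h.rho' hW hT
  have hN : Group.IsSolvable 𝒩(T) := hT ▸ h.solv_norm hL hW
  have hlt : T < S ⊓ 𝒩(T) := lt_of_le_of_ne (le_inf h.le le_normalizer) fun e => hsT (e.ge ⟨hs, hsn⟩)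
  have hP : IsPGroup 2 (S ⊓ 𝒩(T) : Subgroup G) := h.syl.isPGroup.to_le inf_le_left
  have h32 : Nat.card (S ⊓ 𝒩(T) : Subgroup G) = 32 := by
    have h1 := two_mul_card_dvd_of_lt hP hlt
    have h2 : ¬ 64 ∣ Nat.card (S ⊓ 𝒩(T) : Subgroup G) := fun e => hL.false_of_64 hN inf_le_right e hρT hρ3
    obtain ⟨k, hk⟩ := IsPGroup.iff_card.1 hP
    rw [hcT, h4] at h1
    rw [hk] at h1 h2 ⊢
    have h3 : 5 ≤ k := (Nat.pow_dvd_pow_iff_le_right one_lt_two).1 h1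
    have h5 : ¬ 6 ≤ k := fun e => h2 (pow_dvd_pow 2 e)
    rw [show k = 5 by omega]; rfl
  rcases hL.mode with rfl | ⟨-, hm⟩
  · obtain ⟨u, hu, d, hd, e⟩ := h.mem_sup (hT ▸ conj_mem hsn (h.UT h.tU))
    have hsU := h.conj_notMem hs hsT hsn hs2 h.tU h.t_ne
    have hρt := comm_of_mem hρU h.tU
    have h3 := three_le_relIndex (a := t) hsn (mul_mem hρT hsn) (fun e1 => hsU (e1.symm ▸ h.tU))
      (fun e1 => hsU (by
        rw [show s * t * s⁻¹ = ρ⁻¹ * (ρ * s * t * (ρ * s)⁻¹) * ρ by group, e1, mul_assoc, hρt, inv_mul_cancel_left]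
        exact h.tU)) fun e1 => hsU (by
        have e2 : ρ * d * ρ⁻¹ = d := mul_left_cancel (a := u) (by
          calc u * (ρ * d * ρ⁻¹) = ρ * (u * d) * ρ⁻¹ := by rw [← mul_assoc, ← mul_assoc, comm_of_mem hρU hu]; group
            _ = u * d := by rw [e]; nth_rw 2 [e1]; group)
        rw [← e, hρ d hd e2, mul_one]; exact hu)
    have h5 := two_le_om (h.even_relIndex le_normalizer hs hsT hsn) h3
    have h6 := hL.om_add (K := 𝒞(zpowers t)) (n := 16 * 3) hN (Nat.Coprime.mul_dvd_of_dvd_of_dvd (by norm_num)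
      (by have := card_dvd_of_le (le_inf h.sylT.le (le_normalizer (H := T))); rwa [hcT, h4] at this)
      (hρ3.trans (Subgroup.orderOf_dvd_natCard _ ⟨mem_cz.2 hρt, hρT⟩)))
    simp [Nat.primeFactorsList_ofNat] at h6
    omega
  · obtain ⟨r, hr, hr1, hrn, -⟩ := exists_norm_sq h.syl.isPGroup (A := S ⊓ 𝒩(T)) (lt_of_le_of_ne inf_le_left
      fun e => by have := (hm S h.syl).1; rw [← e, h32] at this; omega)
    have h1 : cj r T ≤ S ⊓ 𝒩(T) := cj_le_of_le hlt.le hrn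
    obtain ⟨x, hx, hxT⟩ := SetLike.not_le_iff_exists.1 fun e : cj r T ≤ T => hr1 ⟨hr, mem_norm_of_cj_le e⟩
    have h2 : (cj r T).relIndex (S ⊓ 𝒩(T)) = 2 := by
      have := card_mul_relIndex h1
      rw [card_cj, hcT, h4, h32] at this
      omega
    have h3 : ∀ g ∈ cj r T, g * g = 1 := by
      rintro _ ⟨g, hg, rfl⟩
      rw [← map_mul, hT2 g hg, map_one]
    obtain ⟨u, hu, hu', u1⟩ : ∃ u ∈ U, u ∈ cj r T ∧ u ≠ 1 := by
      obtain ⟨a, ha, b, hb, a1, b1, hab⟩ := exists_pair_of_card (U := U) (by omega)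
      by_cases k1 : a ∈ cj r T
      · exact ⟨a, ha, k1, a1⟩
      by_cases k2 : b ∈ cj r T
      · exact ⟨b, hb, k2, b1⟩
      exact ⟨a * b, mul_mem ha hb, mul_mem_of_relIndex_two h2 (hlt.le (h.UT ha)) (hlt.le (h.UT hb)) k1 k2,
        fun e => hab (mul_right_cancel (e.trans (hU2 b hb).symm))⟩
    refine h.conj_notMem (h1 hx).1 hxT (h1 hx).2 (by rw [h3 x hx]; exact one_mem _) hu u1 ?_
    rwa [conj_eq_of_mem (le_cent_of_sq h3 hx) hu']

end CL.Inv.Len
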