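/-
Simple groups of small length: `T = ⟨t⟩ × D` elementary abelian of order 8, and the assembly of `CaseU`.
-/
import Cfsg.Agent.Inv.LenU3

set_option autoImplicit false
open Cfsg Subgroup CL.Even CL.Grp

namespace CL.Inv.Len

universe u

variable {G : Type*} [Group G] [Finite G] {l : ℕ} {S T U D : Subgroup G} {t : G}

omit [Finite G] in
theorem kf_third' (hW : IsKleinFour D) {r : G} (hr : r ∈ 𝒩(D)) (hf : ∀ w ∈ D, r * w * r⁻¹ = w → w = 1) {v : G}
    (hv : v ∈ D) : r * (r * v * r⁻¹) * r⁻¹ = v * (r * v * r⁻¹) :=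
  kf_third hW (MulAut.conj r).toMonoidHom (fun _ hw => conj_mem hr hw) hf (MulAut.conj r).injective hv

theorem sixteen_amb {R : Subgroup G} (hR : IsPGroup 2 R) (hW : IsKleinFour D) (hDR : D ≤ R) (hc : R ≤ 𝒞(D)) {a : G}
    (haR : a ∈ R) (ha : a * a = 1) (haD : a ∉ D) (h1 : ∀ x ∈ R, x * a * x⁻¹ * a ∈ D)
    (h2 : ∀ x ∈ R, x * a = a * x → x ∈ D ∨ a * x ∈ D) {r : G} (hr : r ∈ 𝒩(R)) (hra : r * a * r⁻¹ = a)
    (hrD : r ∈ 𝒩(D)) (hf : ∀ w ∈ D, r * w * r⁻¹ = w → w = 1) {s : G} (hsR : s ∈ R) (hs : s * a ≠ a * s) :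
    ∃ R₀ ≤ R, R₀.relIndex R = 2 ∧ R₀ ≤ 𝒞(R₀) ∧ 16 ∣ Nat.card R₀ := by
  obtain ⟨K, k1, k2, -, -, k3, -⟩ := exists_abelian_sixteen hR (W := D.subgroupOf R)
    (isKleinFour_of_equiv (subgroupOfEquivOfLe hDR).symm hW)
    (fun w hw => mem_center_iff.2 fun x => Subtype.ext (hc x.2 _ hw).symm) (a := ⟨a, haR⟩) (Subtype.ext ha) haD
    (fun x => h1 x x.2) (fun x hx => h2 x x.2 (congrArg Subtype.val hx)) (R.normalizerMonoidHom ⟨r, hr⟩)
    (Subtype.ext hra) (fun w hw => conj_mem hrD hw) (fun w hw e => Subtype.ext (hf w hw (congrArg Subtype.val e)))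
    (s := ⟨s, hsR⟩) fun e => hs (congrArg Subtype.val e)
  refine ⟨K.map R.subtype, map_subtype_le K, ?_, ?_, by rwa [card_map_of_injective R.subtype_injective]⟩
  · rwa [relIndex, subgroupOf, comap_map_eq_self_of_injective R.subtype_injective]
  · rintro _ ⟨x, hx, rfl⟩ _ ⟨y, hy, rfl⟩
    exact congrArg Subtype.val (k2 hx y hy)

theorem case_i_two (hL : Loc G l) (h : CompD l S T U D t) (hW : IsKleinFour D) (hT : T = U ⊔ D) (hne : T ≠ S)
    (hU : Nat.card U = 2) : False := by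
  obtain ⟨s, hs, hsT, hsn, hs2⟩ := h.exists_s hne
  obtain ⟨z, hz, ho, -, hzt⟩ := h.exists_z hne
  obtain ⟨ρ, hρU, hρT, hρD, -, hρ⟩ := h.rho' hW hT
  have hcT : Nat.card T = 8 := by rw [hT, h.card_sup, hW.card_four, hU]
  have hD2 : ∀ d ∈ D, d * d = 1 := fun d hd => IsKleinFour.mul_self_of_mem hW hd
  have hTc : T ≤ 𝒞(T) := by
    rw [hT, cent_sup]
    exact sup_le (le_inf (h.U_comm (by omega)) h.comm) (le_inf (le_centralizer_iff.1 h.comm) (le_cent_of_sq hD2))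
  have htD : t ∉ D := fun e => h.t_ne (mem_bot.1 (h.disj.le ⟨h.tU, e⟩))
  have htT := h.UT h.tU
  have hidx : D.relIndex T = 2 := by
    have := card_mul_relIndex h.DT
    rw [hW.card_four, hcT] at this
    omega
  have hdec : ∀ x ∈ T, x ∉ D → ∃ d ∈ D, x = t * d := fun x hx hx' =>
    ⟨t * x, mul_mem_of_relIndex_two hidx htT hx htD hx', by rw [← mul_assoc, h.t_sq, one_mul]⟩
  have hDD : ∀ a ∈ D, ∀ b ∈ D, a ≠ 1 → b ≠ 1 → IsConj a b := fun a ha b hb a1 b1 =>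
    h.conj a ha b hb (orderOf_eq_prime (by rw [sq, hD2 a ha]) a1) (orderOf_eq_prime (by rw [sq, hD2 b hb]) b1)
  have hmove : ∀ a ∈ D, ∀ b ∈ D, a ≠ 1 → b ≠ 1 → IsConj (t * a) (t * b) := fun a ha b hb a1 b1 => by
    have k : ∀ c, IsConj (t * c) (t * (ρ * c * ρ⁻¹)) := fun c =>
      isConj_iff.2 ⟨ρ, by rw [← mul_assoc, ← comm_of_mem hρU h.tU]; group⟩
    rcases kf_cases hW ha (conj_mem hρD ha) a1 (by simpa using a1) (fun e => a1 (hρ a ha e.symm)) hb with
      e | e | e | e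
    · exact absurd e b1
    · rw [e]
    · rw [e]; exact k a
    · rw [e, ← kf_third' hW hρD hρ ha]; exact (k a).trans (k _)
  have hz1 : z ≠ 1 := fun e => by simp [e] at ho
  have hst : s * t * s⁻¹ ≠ t := fun e => h.conj_notMem hs hsT hsn hs2 h.tU h.t_ne (e.symm ▸ h.tU)
  have hss : s * (s * t * s⁻¹) * s⁻¹ = t := by
    rw [show s * (s * t * s⁻¹) * s⁻¹ = s * s * t * (s * s)⁻¹ by group, ← h.comm_t hs2, mul_inv_cancel_right]
  have hsD : s * t * s⁻¹ ∉ D := fun hd => by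
    have k1 : ∀ a ∈ D, a ≠ 1 → IsConj t a := fun a ha a1 =>
      (isConj_iff.2 ⟨s, rfl⟩).trans (hDD _ hd a ha (by simpa using h.t_ne) a1)
    obtain ⟨d₀, hd₀, rfl⟩ := hdec z hz fun e => hzt (k1 z e hz1)
    have k2 : ∀ a ∈ D, a ≠ 1 → ∀ b ∈ D, s * a * s⁻¹ = t * b → b = 1 := fun a ha a1 b hb e => by_contra fun b1 =>
      hzt (((k1 a ha a1).trans (isConj_iff.2 ⟨s, e⟩)).trans (hmove b hb d₀ hd₀ b1 fun e => hzt (by rw [e, mul_one])))
    have d1 : s * t * s⁻¹ ≠ 1 := by simpa using h.t_ne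
    generalize s * t * s⁻¹ = d at hd hss d1
    have ha := conj_mem hρD hd
    have had : ρ * d * ρ⁻¹ ≠ d := fun e => d1 (hρ d hd e)
    have a1 : ρ * d * ρ⁻¹ ≠ 1 := by simpa using d1
    generalize ρ * d * ρ⁻¹ = a at ha had a1
    have k3 : s * a * s⁻¹ ∈ D := by_contra fun e => by
      obtain ⟨b, hb, e1⟩ := hdec _ (conj_mem hsn (h.DT ha)) e
      rw [k2 a ha a1 b hb e1, mul_one, ← hss] at e1
      exact had (by simpa using e1)
    have := k2 (d * a) (mul_mem hd ha) (fun e => had (mul_left_cancel (e.trans (hD2 d hd).symm))) _ k3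
      (by rw [← hss]; group)
    exact a1 (by simpa using this)
  obtain ⟨d, hd, e⟩ := hdec _ (conj_mem hsn htT) hsD
  have d1 : d ≠ 1 := fun e1 => hst (by rw [e, e1, mul_one])
  have htd : ∀ b ∈ D, IsConj t (t * b) := fun b hb => by
    by_cases b1 : b = 1
    · rw [b1, mul_one]
    · exact (isConj_iff.2 ⟨s, e⟩).trans (hmove d hd b hb d1 b1)
  have hchar : ∀ x ∈ T, x ∈ D ↔ ¬ IsConj t x := fun x hx => by
    have k : ∀ x ∈ T, ¬ IsConj t x → x ∈ D := fun x hx e => by_contra fun e' => by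
      obtain ⟨b, hb, rfl⟩ := hdec x hx e'
      exact e (htd b hb)
    refine ⟨fun hx' e => ?_, k x hx⟩
    by_cases x1 : x = 1
    · exact h.t_ne (by simpa [x1] using e)
    · exact hzt (e.trans (hDD x hx' z (k z hz hzt) x1 hz1))
  have hND : 𝒩(T) ≤ 𝒩(D) := fun g hg => mem_norm_of_cj_le (by
    rintro _ ⟨b, hb, rfl⟩
    exact (hchar _ (conj_mem hg (h.DT hb))).2 fun e1 =>
      (hchar b (h.DT hb)).1 hb (e1.trans (isConj_iff.2 ⟨g, rfl⟩).symm))
  have hcent : ∀ b ∈ D, ∀ {P : Subgroup G}, IsPGroup 2 P → T ≤ P → ∀ x ∈ P, x * (t * b) = t * b * x → x ∈ T :=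
    fun b hb P hP hTP x hx e1 => (h.eq_of_conj (htd b hb) (hP.to_le (sup_le hTP (zpowers_le.2 hx)))
      (sup_le (hTc.trans (cent_mono (zpowers_le.2 (mul_mem htT (h.DT hb))))) (zpowers_le.2 (mem_cz.2 e1.symm)))
      le_sup_left).le (mem_sup_right (mem_zpowers x))
  have hsd : s * d * s⁻¹ = d := by
    rw [e, show s * (t * d) * s⁻¹ = s * t * s⁻¹ * (s * d * s⁻¹) by group, e, mul_assoc, mul_eq_left] at hss
    exact mul_left_cancel (hss.trans (hD2 d hd).symm)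
  have hsC : s ∈ 𝒞(D) := fun a ha => by
    have k := conj_mem (hND hsn) ha
    by_contra hsa
    have k1 : s * a * s⁻¹ ≠ a := fun e1 => hsa (by rw [← mul_inv_eq_iff_eq_mul.1 e1])
    have k2 : a ≠ d := fun e1 => k1 (e1 ▸ hsd)
    have a1 : a ≠ 1 := fun e1 => k1 (by simp [e1])
    have k3 := IsKleinFour.eq_mul_of_mem hW hd ha k d1 a1 k2.symm (by simpa using a1)
      (fun e1 => k2 (by simpa using e1.trans hsd.symm)) k1
    refine hsT (hcent a ha h.syl.isPGroup h.le s hs (mul_inv_eq_iff_eq_mul.1 ?_))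
    rw [show s * (t * a) * s⁻¹ = s * t * s⁻¹ * (s * a * s⁻¹) by group, e, k3, mul_assoc, ← mul_assoc d, hD2 d hd,
      one_mul]
  obtain ⟨R, hR, hTR⟩ := exists_isSylowIn_ge (p := 2) (H := 𝒩(T) ⊓ 𝒞(D))
    (h.syl.isPGroup.to_le (sup_le h.le (zpowers_le.2 hs)))
    (sup_le (le_inf le_normalizer (hTc.trans (cent_mono h.DT))) (zpowers_le.2 ⟨hsn, hsC⟩))
  have hTR' : T ≤ R := le_sup_left.trans hTR
  obtain ⟨n, hn, hr⟩ := hR.frattini (H := 𝒩(T)) (le_norm_inf le_normalizer (hND.trans (norm_le_norm_cent D))) hρT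
  have hrT := mul_mem hn.1 hρT
  have hrf : ∀ w ∈ D, n * ρ * w * (n * ρ)⁻¹ = w → w = 1 := fun w hw e1 => hρ w hw (by
    rw [← conj_eq_of_mem hn.2 (conj_mem hρD hw)]; nth_rw 2 [← e1]; group)
  generalize n * ρ = r at hr hrT hrf
  have hrD := hND hrT
  obtain ⟨v, hv, e1⟩ := hdec _ (conj_mem hrT htT) fun e1 => (hchar _ (h.DT e1)).1 e1 (isConj_iff.2 ⟨r, rfl⟩)
  have hw := conj_mem hrD hv
  have haT := mul_mem htT (h.DT hw)
  have haD : ∀ x ∈ 𝒩(T), x * (t * (r * v * r⁻¹)) * x⁻¹ ∉ D := fun x hx e2 =>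
    (hchar _ (h.DT e2)).1 e2 ((htd _ hw).trans (isConj_iff.2 ⟨x, rfl⟩))
  have haD' : t * (r * v * r⁻¹) ∉ D := by simpa using haD 1 (one_mem _)
  have ha2 : t * (r * v * r⁻¹) * (t * (r * v * r⁻¹)) = 1 := by
    rw [mul_assoc, ← mul_assoc _ t, ← h.comm_t (h.DT hw), mul_assoc, hD2 _ hw, mul_one, h.t_sq]
  obtain ⟨R₀, k0, k1, k2, k3⟩ := sixteen_amb hR.isPGroup hW (h.DT.trans hTR') (hR.le.trans inf_le_right) (hTR' haT)
    ha2 haD' (fun x hx => mul_mem_of_relIndex_two hidx (conj_mem (hR.le hx).1 haT) haT (haD x (hR.le hx).1) haD')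
    (fun x hx e2 => or_iff_not_imp_left.2 (mul_mem_of_relIndex_two hidx haT (hcent _ hw hR.isPGroup hTR' x hx e2) haD'))
    hr (by rw [show r * (t * (r * v * r⁻¹)) * r⁻¹ = r * t * r⁻¹ * (r * (r * v * r⁻¹) * r⁻¹) by group, e1,
      kf_third' hW hrD hrf hv, mul_assoc, ← mul_assoc v, hD2 v hv, one_mul]) hrD hrf
    (hTR (mem_sup_right (mem_zpowers s))) fun e2 => hsT (hcent _ hw h.syl.isPGroup h.le s hs e2)
  have k4 := Nat.le_of_dvd Nat.card_pos k3
  obtain ⟨S', hS', hRS⟩ := exists_isSylowIn_ge (p := 2) hR.isPGroup le_top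
  rcases hRS.eq_or_lt with rfl | hlt
  · obtain ⟨N, hN, k5, -⟩ := CL.Transfer.thompson_transfer R R₀
      (Nat.not_even_iff_odd.1 fun e2 => hS'.not_dvd (by simpa using e2.two_dvd)) k1 _ ((sq _).trans ha2) fun g hg => by
        have := h.card_le_of_conj ((htd _ hw).trans (isConj_iff.2 ⟨g, rfl⟩)) (hR.isPGroup.to_le k0)
          (k2.trans (cent_mono (zpowers_le.2 hg)))
        omega
    haveI := hL.simple
    rcases hN.eq_bot_or_eq_top with rfl | rfl
    · have := card_le_card_group T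
      rw [index_bot] at k5
      omega
    · simp at k5
  · obtain ⟨x, hx, hxR, hxn, -⟩ := exists_norm_sq hS'.isPGroup hlt
    have k5 := two_mul_card_dvd_of_lt (hS'.isPGroup.to_le (sup_le hRS (zpowers_le.2 hx)))
      (lt_of_le_of_ne le_sup_left fun e => hxR (e.ge (mem_sup_right (mem_zpowers x))))
    rw [← card_mul_relIndex k0, k1] at k5
    have k6 : R ≤ 𝒞(zpowers d) := (hR.le.trans inf_le_right).trans (cent_mono (zpowers_le.2 hd))
    refine hL.false_of_64 (hL.solvN R hR.isPGroup (fun e2 => h.t_ne (mem_bot.1 (e2 ▸ hTR' htT))) (by_contra fun e2 => ?_))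
      (sup_le le_normalizer (zpowers_le.2 hxn)) (Dvd.dvd.trans (by omega) k5) hr (by_contra fun e2 => d1 (hrf d hd ?_))
    · have := (card_le_of_le k0).trans (h.maxT d (orderOf_eq_prime (by rw [sq, hD2 d hd]) d1)
        (fun e3 => e2 (solv_of_le (cent_mono (zpowers_le.2 (hTR' (h.DT hd)))) e3)) R hR.isPGroup k6)
      omega
    · refine conj_eq_of_mem (CL.Transfer.mem_of_pow_mem_of_coprime (K := 𝒞(D)) (n := 3) (fun b hb => ?_)
        ((Nat.Prime.coprime_iff_not_dvd Nat.prime_three).2 e2)) hd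
      have k7 := conj_mem hrD hb
      refine (mul_inv_eq_iff_eq_mul.1 ?_).symm
      rw [show r ^ 3 * b * (r ^ 3)⁻¹ = r * (r * (r * b * r⁻¹) * r⁻¹) * r⁻¹ by simp only [pow_succ, pow_zero]; group,
        kf_third' hW hrD hrf k7, kf_third' hW hrD hrf hb, ← comm_of_mem (le_cent_of_sq hD2 hb) k7, ← mul_assoc,
        hD2 _ k7, one_mul]

theorem caseU : CaseU.{u} := by
  intro G _ _ l S T U D t hL h hc
  by_cases h4 : Nat.card D = 4
  · have hW := klein_of_dih h.dih h4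
    by_cases hT : T = U ⊔ D
    · by_cases hS : T = S
      · obtain rfl : l = 6 := by_contra fun e => h.ne_of_seven hL e hS
        have h1 := h.budget4
        rw [← hT, relIndex_self, mul_one] at h1
        rw [← hS, hT, cent_sup]
        exact sup_le (le_inf (h.U_comm h1) h.comm) (le_inf (le_centralizer_iff.1 h.comm)
          (le_cent_of_sq fun d hd => IsKleinFour.mul_self_of_mem hW hd))
      · by_cases hU : Nat.card U = 2
        exacts [(case_i_two hL h hW hT hS hU).elim, (case_i_four hL h hW hT hS hU).elim]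
    · exact (case_ii hL h (hc.resolve_right fun e => hT e.2) h4 hT).elim
  · exact (case_iii hL h (hc.resolve_right fun e => h4 e.1) h4).elim

end CL.Inv.Len
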