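/-
A 2-constrained group of sectional 2-rank at most four with a central involution and of order divisible by five:
`O₂` is `2^{1+4}_-` and the quotient is `A₅` or `S₅`.
-/
import Cfsg.Agent.S3104
import Cfsg.Agent.Inv.GH4Five2
import Cfsg.Agent.Spor.J23H
import Cfsg.Agent.Cls.SLnCard

set_option autoImplicit false
set_option maxRecDepth 100000

namespace CL.R15A

open Cfsg Subgroup CL.J23 CL.TC Equiv

theorem key5 {K L : Type*} [Group K] [Finite K] [Group L] (θ : K →* L) (hθ : Function.Surjective θ)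
    (hk : Nat.card θ.ker ∣ 3) (φ : alternatingGroup (Fin 5) →* L) (hφ : Function.Injective φ) :
    60 ∣ Nat.card K ∧ ∃ f s r : K, f ^ 5 = 1 ∧ f ≠ 1 ∧ s * f * s⁻¹ * f = 1 ∧ s * s = 1 ∧ r ^ 3 = 1 ∧ r ≠ 1 ∧
      ∀ N : Subgroup K, N.Normal → f ∈ N → r ∈ N := by
  let f5 : alternatingGroup (Fin 5) :=
    ⟨swap 0 1 * swap 1 2 * swap 2 3 * swap 3 4, Perm.mem_alternatingGroup.2 (by decide)⟩
  let s5 : alternatingGroup (Fin 5) := ⟨swap 1 4 * swap 2 3, Perm.mem_alternatingGroup.2 (by decide)⟩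
  let r5 : alternatingGroup (Fin 5) := ⟨swap 0 1 * swap 1 2, Perm.mem_alternatingGroup.2 (by decide)⟩
  have a1 : f5 ^ 5 = 1 := Subtype.ext (by decide)
  have a2 : s5 * f5 * s5⁻¹ * f5 = 1 := Subtype.ext (by decide)
  have a3 : s5 ^ 2 = 1 := Subtype.ext (by decide)
  have a4 : r5 ^ 3 = 1 := Subtype.ext (by decide)
  have a5 : f5 ≠ 1 := fun h => absurd (congrArg Subtype.val h) (by decide)
  have a6 : r5 ≠ 1 := fun h => absurd (congrArg Subtype.val h) (by decide)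
  have : Fact (Nat.Prime 3) := ⟨Nat.prime_three⟩
  have k3 : ∀ w, θ w = 1 → w ^ 3 = 1 := fun w hw =>
    orderOf_dvd_iff_pow_eq_one.1 ((θ.ker.orderOf_dvd_natCard hw).trans hk)
  obtain ⟨f1, hf1⟩ := hθ (φ f5)
  obtain ⟨s1, hs1⟩ := hθ (φ s5)
  have hf : θ (f1 ^ 6) = φ f5 := by rw [map_pow, hf1, ← map_pow, pow_succ, a1, one_mul]
  have hs : θ (s1 ^ 3) = φ s5 := by rw [map_pow, hs1, ← map_pow, pow_succ, a3, one_mul]
  have f5' : (f1 ^ 6) ^ 5 = 1 := by
    rw [show (f1 ^ 6) ^ 5 = ((f1 ^ 5) ^ 3) ^ 2 by simp only [← pow_mul],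
      k3 _ (by rw [map_pow, hf1, ← map_pow, a1, map_one]), one_pow]
  have s2 : s1 ^ 3 * s1 ^ 3 = 1 := by
    rw [← pow_add, show 3 + 3 = 2 * 3 from rfl, pow_mul, k3 _ (by rw [map_pow, hs1, ← map_pow, a3, map_one])]
  generalize f1 ^ 6 = f at hf f5'
  generalize s1 ^ 3 = s at hs s2
  have h60 : 60 ∣ Nat.card K := by
    have := (card_dvd_of_injective φ hφ).trans (card_dvd_of_surjective θ hθ)
    rwa [nat_card_alternatingGroup, Nat.card_eq_fintype_card, Fintype.card_fin] at this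
  have hN : 3 ∣ Nat.card (normalClosure {f}) := by
    have h1 : (((normalClosure {f}).map θ).comap φ).Normal := ((normalClosure_normal).map θ hθ).comap φ
    have h2 : f5 ∈ ((normalClosure {f}).map θ).comap φ := ⟨f, subset_normalClosure rfl, hf⟩
    obtain ⟨n, hn, e⟩ : r5 ∈ ((normalClosure {f}).map θ).comap φ :=
      (h1.eq_bot_or_eq_top.resolve_left fun e => a5 (mem_bot.1 (e ▸ h2))) ▸ mem_top _
    refine dvd_trans ?_ (orderOf_dvd_natCard _ hn)
    rw [← orderOf_eq_prime a4 a6, ← orderOf_injective φ hφ, ← e]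
    exact orderOf_map_dvd θ n
  obtain ⟨r, hr⟩ := exists_prime_orderOf_dvd_card' 3 hN
  refine ⟨h60, f, s, r, f5', fun e => a5 (hφ (by rw [← hf, e, map_one, map_one])), ?_, s2,
    congrArg Subtype.val (hr ▸ pow_orderOf_eq_one r), fun e => ?_, fun N hN hf => normalClosure_le_normal (by simpa) r.2⟩
  · have hw : s * f * s⁻¹ * f ∈ θ.ker := by
      rw [MonoidHom.mem_ker, map_mul, map_mul, map_mul, map_inv, hf, hs, ← map_inv, ← map_mul, ← map_mul, ← map_mul, a2,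
        map_one]
    have h1 := GH4F.modEq_cent (by norm_num : Nat.Prime 5) f5' fun x hx => θ.normal_ker.conj_mem x hx f
    have h2 : θ.ker ⊓ centralizer {f} = θ.ker := eq_of_le_of_card_ge inf_le_left (by
      have h3 := Nat.le_of_dvd (by norm_num) hk
      have h4 := card_le_of_le (inf_le_left : θ.ker ⊓ centralizer {f} ≤ θ.ker)
      unfold Nat.ModEq at h1
      omega)
    have h3 : Commute (s * f * s⁻¹ * f) f := mem_centralizer_singleton_iff.1 (h2.ge hw).2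
    have h4 := h3.inv_right.mul_pow 5
    rw [mul_inv_cancel_right, conj_pow, inv_pow, f5', mul_one, mul_inv_cancel, inv_one, mul_one] at h4
    exact (pow_eq_one_iff_of_coprime (by norm_num : Nat.Coprime 3 5)).1 ⟨k3 _ hw, h4.symm⟩
  · rw [show r = 1 from Subtype.ext e, orderOf_one] at hr
    cases hr

theorem alt_emb {n : ℕ} (h : 5 ≤ n) :
    ∃ φ : alternatingGroup (Fin 5) →* alternatingGroup (Fin n), Function.Injective φ :=
  ⟨((Perm.viaEmbeddingHom (Fin.castLEEmb h)).comp (alternatingGroup (Fin 5)).subtype).codRestrict _ fun g =>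
    Perm.mem_alternatingGroup.2 ((@Perm.sign_extendDomain _ _ _ _ _ _ g.1 _ (_) _).trans g.2),
    fun _ _ e => Subtype.ext (Perm.viaEmbeddingHom_injective _ (congrArg Subtype.val e))⟩

/-- five anticommuting involutions in `Q₈ × D₈` modulo the diagonal of the centre -/
def pq : Fin 5 → QuaternionGroup 2 × DihedralGroup 4 :=
  ![(1, .sr 0), (1, .sr 1), (.a 1, .r 1), (.xa 0, .r 1), (.xa 1, .r 1)]

variable {X : Type*} [Group X]

theorem qg_of {z : X} (z1 : z ≠ 1) (α : QuaternionGroup 2 →* X) (β : DihedralGroup 4 →* X)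
    (hc : ∀ a b, Commute (α a) (β b)) (ha : α (.a 2) = z) (hb : β (.r 2) = z) :
    QG z fun i => α (pq i).1 * β (pq i).2 := by
  have z2 : z * z = 1 := by rw [← ha, ← map_mul, ← map_one α]; exact congrArg α (by decide)
  let μ := α.noncommCoprod β hc
  have hz : μ (.a 2, 1) = z := by rw [MonoidHom.noncommCoprod_apply, ha, map_one, mul_one]
  have key : ∀ u v, u = v ∨ u = v * (.a 2, .r 2) → μ u = μ v := by
    rintro u v (rfl | rfl)
    · rfl
    · rw [map_mul, MonoidHom.noncommCoprod_apply _ _ _ (QuaternionGroup.a 2, DihedralGroup.r 2), ha, hb, z2, mul_one]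
  show QG z fun i => μ (pq i)
  refine ⟨z2, z1, fun i => ?_, fun i => ?_, fun i j hij => ?_, ?_⟩ <;> simp only [← hz, ← map_mul, ← map_one μ] <;>
    refine key _ _ ?_
  · revert i; decide
  · revert i; decide
  · revert i j; decide
  · decide

variable [Finite X]

theorem exists_q (hns : ¬ Group.IsSolvable X) (hc : IsPConstrained 2 X) (hO : oddCore X = ⊥)
    (h4 : SectionalPRankLE 2 4 X) (h5 : 5 ∣ Nat.card X) {z : X} (z2 : z * z = 1) (z1 : z ≠ 1)
    (cz : ∀ g, g * z = z * g) :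
    ∃ q, (∀ i, q i ∈ pCore 2 X) ∧ QG z q ∧ Nat.card (pCore 2 X) = 32 ∧ 60 ∣ Nat.card (X ⧸ pCore 2 X) := by
  have hC := (Loc.isPConstrained_iff_of_pPrimeCore_eq_bot hO).1 hc
  have hP := Grp.pCore_isPGroup 2 X
  have hl := (Cfsg.Agent.S3104.result hns hc hO (Fgs.secRank_of_injective h4 _ (subtype_injective _))).1
  set Q := pCore 2 X
  have k1 : ∀ {L : Type} [Group L] (e : X ⧸ Q ≃* L), Nat.card e.toMonoidHom.ker ∣ 3 := fun e => by
    rw [(MonoidHom.ker_eq_bot_iff _).2 e.injective, card_bot]; exact one_dvd _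
  have k2 : ∀ {L : Type} [Group L] (e : (X ⧸ Q) ⧸ pCore 3 (X ⧸ Q) ≃* L),
      (e.toMonoidHom.comp (QuotientGroup.mk' _)).ker = pCore 3 (X ⧸ Q) := fun e => by
    rw [← MonoidHom.comap_ker, (MonoidHom.ker_eq_bot_iff _).2 e.injective, MonoidHom.comap_bot, QuotientGroup.ker_mk']
  obtain ⟨h60, f0, s, r0, a1, a5, a2, a3, a4, a6, a7⟩ : 60 ∣ Nat.card (X ⧸ Q) ∧ ∃ f s r : X ⧸ Q, f ^ 5 = 1 ∧ f ≠ 1 ∧
      s * f * s⁻¹ * f = 1 ∧ s * s = 1 ∧ r ^ 3 = 1 ∧ r ≠ 1 ∧ ∀ N : Subgroup (X ⧸ Q), N.Normal → f ∈ N → r ∈ N := by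
    rcases hl with ⟨F, _, _, hF, ⟨e⟩⟩ | ⟨n, hn, -, ⟨e⟩⟩ | ⟨n, hn, -, ⟨e⟩⟩ | ⟨h3, ⟨⟨e⟩⟩ | ⟨⟨e⟩⟩⟩
    · exfalso
      have a := SLn.card_PSL_mul (ι := Fin 3) (F := F)
      rw [SLn.card_SL_three, hF, ← Nat.card_congr e.toEquiv] at a
      obtain ⟨k, hk⟩ := hP.exists_card_eq
      rw [card_eq_card_quotient_mul_card_subgroup Q, show Nat.card (X ⧸ Q) = 168 by simpa using a, hk] at h5
      exact absurd ((by norm_num : Nat.Prime 5).dvd_of_dvd_pow
        ((by norm_num : Nat.Coprime 5 168).dvd_of_dvd_mul_left h5)) (by norm_num)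
    · obtain ⟨φ, hφ⟩ := alt_emb hn
      exact key5 _ e.surjective (k1 e) φ hφ
    · obtain ⟨φ, hφ⟩ := alt_emb hn
      exact key5 _ e.surjective (k1 e) ((alternatingGroup _).subtype.comp φ) ((subtype_injective _).comp hφ)
    · exact key5 _ (e.surjective.comp (QuotientGroup.mk'_surjective _)) (by rw [k2 e, h3]) (MonoidHom.id _)
        Function.injective_id
    · exact key5 _ (e.surjective.comp (QuotientGroup.mk'_surjective _)) (by rw [k2 e, h3]) (alternatingGroup _).subtype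
        (subtype_injective _)
  obtain ⟨f0, rfl⟩ := QuotientGroup.mk_surjective f0
  obtain ⟨s, rfl⟩ := QuotientGroup.mk_surjective s
  obtain ⟨r0, rfl⟩ := QuotientGroup.mk_surjective r0
  obtain ⟨f, f1, hf⟩ := GH4F.exists_odd_lift hP (p := 5) (by norm_num) (g := f0) ((QuotientGroup.eq_one_iff _).1 a1)
  obtain ⟨r, r1, hr⟩ := GH4F.exists_odd_lift hP (p := 3) (by norm_num) (g := r0) ((QuotientGroup.eq_one_iff _).1 a4)
  rw [← hf] at a2 a5 a7
  rw [← hr] at a6 a7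
  have fQ : f ∉ Q := fun h => a5 ((QuotientGroup.eq_one_iff _).2 h)
  have zQ : z ∈ Q := hC fun g _ => cz g
  rcases GH4F.main h4 hP hC f1 fQ (s := s) ((QuotientGroup.eq_one_iff _).1 a2) ((QuotientGroup.eq_one_iff _).1 a3) r1
    (fun h => a6 ((QuotientGroup.eq_one_iff _).2 h)) (fun N hN hQN hfN => by
      obtain ⟨y, hy, e⟩ := a7 _ (hN.map _ (QuotientGroup.mk'_surjective Q)) ⟨f, hfN, rfl⟩
      exact (N.mul_mem_cancel_left (N.inv_mem hy)).1 (hQN (QuotientGroup.eq.1 e))) with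
    ⟨h1, -⟩ | ⟨h1, A, B, ⟨a⟩, ⟨b⟩, h2, -, h3⟩
  · rcases GH4F.five0 h4 (H := Q) (fun x hx => (sq x).symm.trans (h1.2 x hx)) f1
      (fun x hx => Normal.conj_mem inferInstance x hx f) with h | h
    · exact absurd (hC fun x hx => (h x hx).symm) fQ
    · exact absurd (h.2 z zQ (cz f)) z1
  have hz : (⟨z, zQ⟩ : Q) ∈ A ⊓ B := h3 ▸ mem_center_iff.2 fun g => Subtype.ext (cz g)
  let α := Q.subtype.comp (A.subtype.comp a.symm.toMonoidHom)
  let β := Q.subtype.comp (B.subtype.comp b.symm.toMonoidHom)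
  have ha : α (a ⟨_, hz.1⟩) = z := congrArg (fun u : A => (u.1 : X)) (a.symm_apply_apply _)
  have hb : β (b ⟨_, hz.2⟩) = z := congrArg (fun u : B => (u.1 : X)) (b.symm_apply_apply _)
  have iα : Function.Injective α := (subtype_injective _).comp ((subtype_injective _).comp a.symm.injective)
  have iβ : Function.Injective β := (subtype_injective _).comp ((subtype_injective _).comp b.symm.injective)
  have ea : ∀ u : QuaternionGroup 2, u * u = 1 → u ≠ 1 → u = .a 2 := by decide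
  have eb : ∀ u : DihedralGroup 4, (∀ v, v * u = u * v) → u ≠ 1 → u = .r 2 := by decide
  rw [ea (a _) (iα (by rw [map_mul, ha, z2, map_one])) fun e => z1 (by rw [← ha, e, map_one])] at ha
  rw [eb (b _) (fun v => iβ (by rw [map_mul, map_mul, hb, cz])) fun e => z1 (by rw [← hb, e, map_one])] at hb
  exact ⟨_, fun i => mul_mem (a.symm _).1.2 (b.symm _).1.2, qg_of z1 α β
    (fun u v => congrArg Subtype.val (h2 _ (a.symm u).2 _ (b.symm v).2)) ha hb, h1, h60⟩

/-- the structure of `C(t)/O(C(t))` -/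
structure XS (z : X) (Q : Subgroup X) (q : Fin 5 → X) : Prop where
  cz : ∀ g, g * z = z * g
  nrm : Q.Normal
  hq : ∀ i, q i ∈ Q
  qg : QG z q
  card : Nat.card Q = 32
  cen : centralizer (Q : Set X) ≤ Q

theorem t_comm : MQ.all (fun n => MQ.all fun m =>
    MQ.cm n m || MQ.eqv (MQ.mul n m) (MQ.mul (MQ.mul m n) 31)) = true := by decide +kernel
theorem t_sq : MQ.all (fun n => MQ.eqv (MQ.sq n) 0 || MQ.eqv (MQ.sq n) 31) = true := by decide +kernel
theorem t_cen : MQ.all (fun n => !MQ.cm n 1 || (!MQ.cm n 2 || (!MQ.cm n 3 || (!MQ.cm n 4 ||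
    (MQ.eqv n 0 || MQ.eqv n 31))))) = true := by decide +kernel

theorem four_cycle : ∀ δ : Perm (Fin 5), δ ^ 8 = 1 → δ ^ 2 ≠ 1 → δ ^ 4 = 1 ∧ (∀ i j, δ i = i → δ j = j → i = j) ∧
    ∀ ω : Perm (Fin 5), ω * δ = δ * ω → Perm.sign ω = 1 → ω = 1 ∨ ω = δ ^ 2 := by decide +kernel

namespace XS

variable {z : X} {Q : Subgroup X} {q : Fin 5 → X} (h : XS z Q q)
include h

theorem comm : ∀ a ∈ Q, ∀ b ∈ Q, a * b = b * a ∨ a * b = b * a * z := by
  obtain ⟨v, R, -, hz⟩ := h.qg.repQ h.hq h.card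
  refine R.forall (MQ.all_spec t_comm) fun n hn => R.forall (MQ.all_spec hn) fun m hm => ?_
  simpa only [Bool.or_eq_true, R.cm, R.eqv, R.mul, hz] using hm

theorem sq : ∀ a ∈ Q, a * a = 1 ∨ a * a = z := by
  obtain ⟨v, R, -, hz⟩ := h.qg.repQ h.hq h.card
  refine R.forall (MQ.all_spec t_sq) fun n hn => ?_
  simpa only [Bool.or_eq_true, R.sq, R.eqv, R.zero, hz] using hn

theorem inv : ∀ u ∈ Q, u * u = 1 → u = 1 ∨ u = z ∨ ∃ j, Pm z q u j := by
  obtain ⟨v, R, hv, hz⟩ := h.qg.repQ h.hq h.card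
  exact inv_mem_Q R hv hz

theorem cen_q {g : X} (hc : ∀ i, g * q i * g⁻¹ = q i) : g = 1 ∨ g = z := by
  obtain ⟨v, hv⟩ := MT.exists_pre (M := MQ) J23Q.valid rfl (MQ.all_spec MQ_ok) _ h.qg.invgQ h.qg.relQ
  obtain ⟨h1, h2⟩ := h.qg.pre_q hv le_rfl tbQ (fun i => by fin_cases i <;> rfl) zQm
  have R := hv.rep_of_toZ (MQ.all_spec MQ_z) (h2 ▸ h.qg.z1) (H := Q) (fun i hi => by
    have : i < 5 := hi
    interval_cases i <;> exact h.hq _) h.card
  have h3 : g ∈ Q := h.cen fun b hb => by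
    obtain ⟨n, -, rfl⟩ := R.surj b hb
    refine mem_centralizer_singleton_iff.1 (hv.mem (centralizer {g}) (fun i hi => ?_) n)
    have : i < 5 := hi
    interval_cases i <;> exact mem_centralizer_singleton_iff.2 (mul_inv_eq_iff_eq_mul.1 (hc _)).symm
  revert hc
  refine R.forall (P := fun g => (∀ i, g * q i * g⁻¹ = q i) → g = 1 ∨ g = z) (MQ.all_spec t_cen) (fun n hn hc => ?_) g h3
  have e : ∀ i : Fin 5, v n * v (i + 1) = v (i + 1) * v n := fun i => by
    rw [h1]; exact mul_inv_eq_iff_eq_mul.1 (hc i)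
  simp only [Bool.or_eq_true, Bool.not_eq_true', R.cm_false, R.eqv, R.zero, h2] at hn
  exact (((hn.resolve_left (not_not.2 (e 0))).resolve_left (not_not.2 (e 1))).resolve_left
    (not_not.2 (e 2))).resolve_left (not_not.2 (e 3))

omit [Finite X] in
theorem zQ : z ∈ Q := h.cen fun g _ => h.cz g

omit [Finite X] in
theorem ne (i : Fin 5) : q i ≠ 1 ∧ q i ≠ z := by
  obtain ⟨j, hj⟩ := exists_ne i
  have := h.qg.anti i j hj.symm
  refine ⟨fun e => h.qg.z1 ?_, fun e => h.qg.z1 ?_⟩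
  · simpa [e] using this
  · rwa [e, ← h.cz, left_eq_mul] at this

theorem hyp (hX : Nat.card X = 1920) : Hyp z Q :=
  ⟨h.qg.z2, h.qg.z1, h.zQ, fun x _ => h.cz x, fun g _ x hx => h.nrm.conj_mem x hx g, h.card, by
    rw [show centralizer {z} = ⊤ from eq_top_iff.2 fun g _ => mem_centralizer_singleton_iff.2 (h.cz g), card_top, hX],
    h.comm, h.sq, fun a _ ha => h.cen_q fun i => mul_inv_eq_iff_eq_mul.2 (ha _ (h.hq i))⟩

theorem corr {u : Fin 5 → X} (hu : ∀ i, Pm z q (u i) i) (hp : u 0 * u 1 * u 2 * u 3 * u 4 = 1) :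
    ∃ c ∈ Q, ∀ i, c * u i * c⁻¹ = q i := by
  obtain ⟨v, R, hv, hz⟩ := h.qg.repQ h.hq h.card
  exact correct R hv hz (σ := id) corr1 hu hp

theorem exists_φ : ∃ φ : X →* Perm (Fin 5), (∀ g i, Pm z q (g * q i * g⁻¹) (φ g i)) ∧ φ.ker = Q := by
  have h1 : ∀ g i, ∃ j, Pm z q (g * q i * g⁻¹) j := fun g i =>
    ((h.inv _ (h.nrm.conj_mem _ (h.hq i) g) (by rw [conj_mul, h.qg.sq, mul_one, mul_inv_cancel])).resolve_left
      fun e => (h.ne i).1 (conj_eq_one_iff.1 e)).resolve_left fun e => (h.ne i).2 (by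
        rw [mul_inv_eq_iff_eq_mul, ← h.cz] at e
        exact mul_left_cancel e)
  choose π hπ using h1
  let _ : MulAction X (Fin 5) :=
    { smul := π
      one_smul := fun i => h.qg.pm_unique (hπ 1 i) (.inl (by simp))
      mul_smul := fun a b i => h.qg.pm_unique (hπ (a * b) i) (by
        have := h.qg.pm_conj (h.cz a) (hπ b i) (hπ a (π b i))
        rwa [show a * (b * q i * b⁻¹) * a⁻¹ = a * b * q i * (a * b)⁻¹ by group] at this) }
  refine ⟨MulAction.toPermHom X (Fin 5), hπ, le_antisymm (fun g hg => ?_) fun g hg => Equiv.ext fun i =>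
    h.qg.pm_unique (hπ g i) ?_⟩
  · obtain ⟨c, hc1, hc2⟩ := h.corr (u := fun i => g * q i * g⁻¹)
      (fun i => by
        have := hπ g i
        rwa [show π g i = i from Equiv.congr_fun (MonoidHom.mem_ker.1 hg) i] at this)
      (by simp only [conj_mul, h.qg.prod, mul_one, mul_inv_cancel])
    refine (mul_mem_cancel_left hc1).1 ?_
    rcases h.cen_q (g := c * g) fun i => Eq.trans (by group) (hc2 i) with e | e <;> rw [e]
    exacts [one_mem _, h.zQ]
  · refine (h.comm g hg _ (h.hq i)).imp (fun e => mul_inv_eq_iff_eq_mul.2 e) fun e => mul_inv_eq_iff_eq_mul.2 ?_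
    rw [e, mul_assoc, h.cz, mul_assoc]
    rfl

variable {φ : X →* Perm (Fin 5)} (h1 : ∀ g i, Pm z q (g * q i * g⁻¹) (φ g i)) (h2 : φ.ker = Q)
include h1 h2

theorem odd_lift (hφ : Function.Surjective φ) {σ : Perm (Fin 5)} (hσ : ∀ i, σ (σ i) = i)
    (hp : q (σ 0) * q (σ 1) * q (σ 2) * q (σ 3) * q (σ 4) = z) : ∃ s, φ s = σ ∧ ∀ i, s * q i * s⁻¹ = q (σ i) * z := by
  obtain ⟨g, rfl⟩ := hφ σ
  have hz : ∀ a b : X, a * z * b = a * b * z := fun a b => by rw [mul_assoc, ← h.cz, mul_assoc]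
  obtain ⟨c, hc1, hc2⟩ := h.corr (u := fun i => g * q (φ g i) * g⁻¹ * z) (fun i => by
    have := h1 g (φ g i)
    rw [hσ] at this
    rcases this with e | e <;> rw [e]
    · exact .inr rfl
    · exact .inl (by rw [mul_assoc, h.qg.z2, mul_one])) (by
    simp only [← mul_assoc, hz, inv_mul_cancel_right]
    rw [show g * q (φ g 0) * q (φ g 1) * q (φ g 2) * q (φ g 3) * q (φ g 4) = g * z by rw [← hp]; group, hz g g⁻¹,
      mul_inv_cancel, one_mul, h.qg.z2, one_mul, h.qg.z2, one_mul, h.qg.z2])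
  refine ⟨c * g, by rw [map_mul, show φ c = 1 from h2.ge hc1, one_mul], fun i => ?_⟩
  rw [← hc2 (φ g i), hσ, ← mul_assoc c, hz, mul_assoc _ z z, h.qg.z2]
  group

theorem s5a (hφ : Function.Surjective φ) : ∃ y c : X, y * y = 1 ∧ Perm.sign (φ y) ≠ 1 ∧ c * y = y * c ∧ c ^ 4 = z := by
  have hz : ∀ a b : X, a * z * b = a * b * z := fun a b => by rw [mul_assoc, ← h.cz, mul_assoc]
  have zz : ∀ a : X, a * z * z = a := fun a => by rw [mul_assoc, h.qg.z2, mul_one]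
  have p4 : ∀ a : X, a ^ 4 = a * a * (a * a) := fun a => by rw [← pow_two, ← pow_two, ← pow_mul]
  obtain ⟨s, s1, s2⟩ := h.odd_lift h1 h2 hφ (σ := swap 0 1) (by decide) (by
    show q 1 * q 0 * q 2 * q 3 * q 4 = z
    rw [h.qg.anti 1 0 (by decide), hz, hz, hz, h.qg.prod, one_mul])
  obtain ⟨e, e1, e2⟩ := h.odd_lift h1 h2 hφ (σ := swap 3 4) (by decide) (by
    show q 0 * q 1 * q 2 * q 4 * q 3 = z
    rw [mul_assoc, h.qg.anti 4 3 (by decide), ← mul_assoc, ← mul_assoc, h.qg.prod, one_mul])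
  have k : ∀ {a b : X} {σ τ : Perm (Fin 5)}, (∀ i, a * q i * a⁻¹ = q (σ i) * z) → (∀ i, b * q i * b⁻¹ = q (τ i) * z) →
      ∀ i, a * b * q i * (a * b)⁻¹ = q (σ (τ i)) := fun {a b σ τ} ha hb i => by
    rw [show a * b * q i * (a * b)⁻¹ = a * (b * q i * b⁻¹) * a⁻¹ by group, hb, ← mul_assoc, hz, ha, zz]
  have ss := h.cen_q (g := s * s) fun i => by rw [k s2 s2, swap_apply_self]
  have ee := h.cen_q (g := e * e) fun i => by rw [k e2 e2, swap_apply_self]
  have se := h.cen_q (g := (e * s)⁻¹ * (s * e)) fun i => by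
    rw [show (e * s)⁻¹ * (s * e) * q i * ((e * s)⁻¹ * (s * e))⁻¹ = (e * s)⁻¹ * (s * e * q i * (s * e)⁻¹) * (e * s) by group,
      k s2 e2, show swap 0 1 (swap 3 4 i) = swap 3 4 (swap 0 1 i) by revert i; decide, ← k e2 s2]
    group
  simp only [inv_mul_eq_iff_eq_mul, mul_one] at se
  have s3 : s * q 3 = q 3 * s * z := by rw [← hz]; exact mul_inv_eq_iff_eq_mul.1 (s2 3)
  have s4 : s * q 2 = q 2 * s * z := by rw [← hz]; exact mul_inv_eq_iff_eq_mul.1 (s2 2)
  have e3 : e * q 3 = q 4 * e * z := by rw [← hz]; exact mul_inv_eq_iff_eq_mul.1 (e2 3)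
  have e4 : e * q 2 = q 2 * e * z := by rw [← hz]; exact mul_inv_eq_iff_eq_mul.1 (e2 2)
  have c1 : Commute (q 2) (e * q 3) := by
    rw [Commute, SemiconjBy, mul_assoc e, h.qg.anti 3 2 (by decide), ← mul_assoc, ← mul_assoc, ← mul_assoc, e4, hz, zz]
  have c2 : (e * q 3) ^ 4 = z := by
    have e5 := h.qg.zz (i := 4) (j := 3) (by decide) 1
    rw [p4]
    nth_rw 1 3 [e3]
    simp only [← mul_assoc, hz, mul_one] at e5 ⊢
    rcases ee with e6 | e6 <;> simp only [mul_assoc _ e e, e6, mul_one, hz, zz, e5]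
  obtain ⟨c, c3, c4, c5⟩ : ∃ c, c ^ 4 = z ∧ Commute (q 2) c ∧ Commute s c := by
    rcases se with e5 | e5
    · refine ⟨q 2 * (e * q 3), by rw [c1.mul_pow, c2, p4, h.qg.sq, one_mul, one_mul], (Commute.refl _).mul_right c1, ?_⟩
      rw [Commute, SemiconjBy, ← mul_assoc, ← mul_assoc, s4, hz, hz, mul_assoc (q 2), e5, ← mul_assoc, mul_assoc _ s, s3]
      simp only [← mul_assoc, zz]
    · refine ⟨e * q 3, c2, c1, ?_⟩
      rw [Commute, SemiconjBy, ← mul_assoc, e5, hz, mul_assoc e, s3]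
      simp only [← mul_assoc, zz]
  rcases ss with e5 | e5
  · exact ⟨s, c, e5, by rw [s1]; decide, c5.symm.eq, c3⟩
  · refine ⟨q 2 * s, c, ?_, by rw [map_mul, show φ (q 2) = 1 from h2.ge (h.hq 2), one_mul, s1]; decide,
      (c4.mul_left c5).symm.eq, c3⟩
    rw [← mul_assoc, mul_assoc (q 2), s4, ← mul_assoc, ← mul_assoc, h.qg.sq, one_mul, hz, e5, h.qg.z2]

theorem s5b {d w : X} (d8 : d ^ 8 = 1) (d1 : d ^ 4 ≠ 1) (dz : d ^ 4 ≠ z) (w2 : w * w = 1) (w1 : w ≠ 1) (wd : w ≠ d ^ 4)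
    (ws : Perm.sign (φ w) = 1) (hc : w * d = d * w) : (w = z ∨ w = d ^ 4 * z) ∧ IsConj (d ^ 4) (d ^ 4 * z) := by
  have k : ∀ u, u * u = d ^ 4 → φ u ≠ 1 := fun u e e1 => (h.sq u (h2.le e1)).elim (fun e2 => d1 (e ▸ e2)) fun e2 => dz (e ▸ e2)
  obtain ⟨h3, h4, h5⟩ := four_cycle (φ d) (by rw [← map_pow, d8, map_one])
    (by rw [← map_pow]; exact k _ (by rw [← pow_add]))
  have fix : ∀ {u j}, Pm z q u j → d * u = u * d → φ d j = j := fun {u j} hu e =>
    h.qg.pm_unique (h.qg.pm_conj (h.cz d) hu (h1 d j)) (by rwa [e, mul_inv_cancel_right])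
  have cd : Commute w d := hc
  obtain ⟨j, hj⟩ := ((h.inv (d ^ 4) (h2.le (by rw [MonoidHom.mem_ker, map_pow, h3]))
    (by rw [← pow_add, d8])).resolve_left d1).resolve_left dz
  refine ⟨?_, ?_⟩
  · rcases h5 (φ w) (by rw [← map_mul, hc, map_mul]) ws with e | e
    · refine ((h.inv w (h2.le e) w2).resolve_left w1).imp_right fun ⟨i, hi⟩ => ?_
      obtain rfl := h4 i j (fix hi hc.symm) (fix hj ((Commute.refl d).pow_right 4).eq)
      rcases hi with rfl | rfl <;> rcases hj with e1 | e1 <;> rw [e1] at wd ⊢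
      exacts [absurd rfl wd, by rw [mul_assoc, h.qg.z2, mul_one], absurd rfl wd]
    · refine absurd ?_ (k (w * d ^ 2) (by rw [(cd.pow_right 2).symm.mul_mul_mul_comm, w2, one_mul, ← pow_add]))
      rw [map_mul, e, map_pow, ← pow_add, h3]
  · obtain ⟨i, hi⟩ := exists_ne j
    refine isConj_iff.2 ⟨q i, mul_inv_eq_iff_eq_mul.2 ?_⟩
    rcases hj with e | e <;> rw [e]
    · rw [h.qg.anti i j hi, mul_assoc, h.cz, mul_assoc]
    · rw [← mul_assoc, h.qg.anti i j hi, mul_assoc _ z z, h.qg.z2, mul_one, mul_assoc _ z z, h.qg.z2, mul_one]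

end XS

end CL.R15A
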