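/-
The automorphism group of the Sylow 2-subgroup `S.Q` of `SU₃(q)`, `q` even: it acts on `S.Q / Z` as the semilinear
group `ΓL₁(q²)`, and the kernel of the action is the largest normal 2-subgroup, a copy of `Hom(S.Q / Z, Z)`.
-/
import Cfsg.Agent.Chev.U3Even
import Cfsg.Agent.Known.GLLang
import Cfsg.Agent.Grp.Cores

set_option autoImplicit false

namespace CL.U3Aut

open CL.Chev.U3 CL.Chev.U3.UF

variable {F : Type*} [Field F] [CharP F 2] (S : UF F)

theorem two_eq : (2 : F) = 0 := CharTwo.two_eq_zero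

/-- An additive injection fixing `1` and compatible with the norm is multiplicative. -/
theorem mul_of_norm (A : F →+ F) (hA : Function.Injective A) (h1 : A 1 = 1) (B : F → F)
    (hB : ∀ v w, S.σ v = v → S.σ w = w → B (v + w) = B v + B w) (hN : ∀ x, A x * S.σ (A x) = B (x * S.σ x))
    (x y : F) : A (x * y) = A x * A y := by
  have h2 : (2 : F) = 0 := two_eq
  have fN : ∀ x, S.σ (x * S.σ x) = x * S.σ x := fun x => by simp [mul_comm]
  have hT : ∀ x y, A x * S.σ (A y) + S.σ (A x) * A y = B (x * S.σ y + S.σ x * y) := by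
    intro x y
    have e1 := hN (x + y)
    have e2 : (x + y) * S.σ (x + y) = x * S.σ x + (y * S.σ y + (x * S.σ y + S.σ x * y)) := by
      rw [map_add]; ring
    have f3 : S.σ (x * S.σ y + S.σ x * y) = x * S.σ y + S.σ x * y := by simp [add_comm]
    rw [e2, hB _ _ (fN x) (by rw [map_add, fN, f3]), hB _ _ (fN y) f3, ← hN, ← hN, map_add, map_add] at e1
    linear_combination e1
  have hB0 : ∀ w, S.σ w = w → (B w = 0 ↔ w = 0) := by
    intro w hw
    obtain ⟨x, rfl⟩ := S.bar.exists_norm_eq hw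
    rw [← hN, mul_eq_zero, mul_eq_zero, S.σ_eq_zero, S.σ_eq_zero, or_self, or_self, map_eq_zero_iff A hA]
  have hT0 : ∀ x y, A x * S.σ (A y) + S.σ (A x) * A y = 0 ↔ x * S.σ y + S.σ x * y = 0 := fun x y => by
    rw [hT, hB0 _ (by simp [add_comm])]
  have hfix : ∀ x, S.σ (A x) = A x ↔ S.σ x = x := by
    intro x
    have := hT0 x 1
    rw [h1, map_one, mul_one, mul_one, mul_one, mul_one] at this
    constructor
    · intro h
      have := this.1 (by rw [h]; linear_combination A x * h2)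
      linear_combination this - x * h2
    · intro h
      have := this.2 (by rw [h]; linear_combination x * h2)
      linear_combination this - A x * h2
  have hq : ∀ l x, S.σ l = l → x ≠ 0 → ∃ m, S.σ m = m ∧ A (l * x) = m * A x := by
    intro l x hl hx
    have hx' : A x ≠ 0 := (map_ne_zero_iff A hA).2 hx
    have hx'' := S.σ_ne_zero hx'
    refine ⟨A (l * x) / A x, ?_, by field_simp⟩
    have := (hT0 (l * x) x).2 (by rw [map_mul, hl]; linear_combination l * x * S.σ x * h2)
    rw [map_div₀]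
    field_simp
    linear_combination this - A (l * x) * S.σ (A x) * h2
  have hl1 : ∀ l x, S.σ l = l → S.σ x ≠ x → A (l * x) = A l * A x := by
    intro l x hl hx
    obtain ⟨m, hm, e1⟩ := hq l x hl (by rintro rfl; simp at hx)
    obtain ⟨n, hn, e2⟩ := hq l (1 + x) hl (fun h => hx (by
      have : x = -1 := by linear_combination h
      rw [this, map_neg, map_one]))
    rw [mul_add, mul_one, map_add, map_add, h1, e1] at e2
    have hmn : m = n := by
      by_contra hne
      have hne' : m - n ≠ 0 := sub_ne_zero.2 hne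
      have e3 : A x = (n - A l) / (m - n) := by field_simp; linear_combination e2
      exact hx ((hfix x).1 (by rw [e3, map_div₀, map_sub, map_sub, hm, hn, (hfix l).2 hl]))
    subst hmn
    rw [e1]
    congr 1
    linear_combination -e2
  obtain ⟨θ, hθ⟩ := S.bar.exists_ne
  have hl2 : ∀ l x, S.σ l = l → A (l * x) = A l * A x := by
    intro l x hl
    by_cases hx : S.σ x = x
    · have e1 := hl1 l (x + θ) hl (fun h => hθ (by rw [map_add, hx] at h; exact add_left_cancel h))
      rw [mul_add, map_add, map_add, hl1 l θ hl hθ] at e1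
      linear_combination e1
    · exact hl1 l x hl hx
  have hBA : ∀ w, S.σ w = w → B w = A w := by
    intro w hw
    obtain ⟨l, rfl⟩ := S.exists_sq w
    have hl := S.σ_eq_of_sq hw
    have := hN l
    rw [(hfix l).2 hl, hl] at this
    rw [sq, ← this, hl2 l l hl]
  have hsq : A (θ * θ) = A θ * A θ := by
    have e1 : θ * θ = (θ + S.σ θ) * θ + θ * S.σ θ := by linear_combination -(θ * S.σ θ) * h2
    have e2 := hT θ 1
    rw [h1, map_one, mul_one, mul_one, mul_one, mul_one, hBA _ (by simp [add_comm])] at e2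
    rw [e1, map_add, hl2 _ _ (by simp [add_comm]), ← e2, ← hBA _ (fN θ), ← hN]
    linear_combination (A θ * S.σ (A θ)) * h2
  have hd : ∀ y, ∃ a b, S.σ a = a ∧ S.σ b = b ∧ y = a + b * θ := by
    intro y
    have ht : θ + S.σ θ ≠ 0 := fun h => hθ (by linear_combination h - θ * h2)
    have hb : S.σ ((y + S.σ y) / (θ + S.σ θ)) = (y + S.σ y) / (θ + S.σ θ) := by simp [add_comm]
    refine ⟨y - (y + S.σ y) / (θ + S.σ θ) * θ, _, ?_, hb, by ring⟩
    rw [map_sub, map_mul, hb]
    field_simp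
    linear_combination (S.σ y * θ - y * S.σ θ) * h2
  have hθm : ∀ y, A (θ * y) = A θ * A y := by
    intro y
    obtain ⟨a, b, ha, hb, rfl⟩ := hd y
    rw [show θ * (a + b * θ) = a * θ + b * (θ * θ) by ring, map_add, map_add, hl2 _ _ ha, hl2 _ _ hb, hl2 _ _ hb, hsq]
    ring
  obtain ⟨a, b, ha, hb, rfl⟩ := hd x
  rw [show (a + b * θ) * y = a * y + b * (θ * y) by ring, map_add, map_add, hl2 _ _ ha, hl2 _ _ hb, hl2 _ _ hb, hθm]
  ring

/-- An additive injection compatible with the norm is semilinear. -/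
theorem exists_semilinear (A : F →+ F) (hA : Function.Injective A) (B : F → F)
    (hB : ∀ v w, S.σ v = v → S.σ w = w → B (v + w) = B v + B w) (hN : ∀ x, A x * S.σ (A x) = B (x * S.σ x)) :
    ∃ (c : Fˣ) (τ : F ≃+* F), ∀ x, A x = c * τ x := by
  have := S.finite
  have hc : A 1 ≠ 0 := (map_ne_zero_iff A hA).2 one_ne_zero
  have hc' := S.σ_ne_zero hc
  let A₀ : F →+ F := (AddMonoidHom.mulLeft (A 1)⁻¹).comp A
  have e0 : ∀ x, A₀ x = (A 1)⁻¹ * A x := fun _ => rfl
  have hi : Function.Injective A₀ := fun x y h => hA (mul_left_cancel₀ (inv_ne_zero hc) h)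
  have h1 : A₀ 1 = 1 := inv_mul_cancel₀ hc
  have hm := mul_of_norm S A₀ hi h1 (fun w => (A 1 * S.σ (A 1))⁻¹ * B w)
    (fun v w hv hw => by rw [hB v w hv hw, mul_add]) (fun x => by
      rw [e0, ← hN, map_mul, map_inv₀]; field_simp)
  let τ : F →+* F := { A₀ with map_one' := h1, map_mul' := hm }
  refine ⟨Units.mk0 _ hc, RingEquiv.ofBijective τ (Finite.injective_iff_bijective.1 hi), fun x => ?_⟩
  change A x = A 1 * ((A 1)⁻¹ * A x)
  field_simp

/-- A section of the projection to the first coordinate. -/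
noncomputable def sec (x : F) : S.Q := (S.exists_Q x).choose

omit [CharP F 2] in
@[simp] theorem sec_a (x : F) : (sec S x).a = x := (S.exists_Q x).choose_spec

variable {S}

omit [CharP F 2] in
theorem aut_a_eq_zero (α : MulAut S.Q) {u : S.Q} : (α u).a = 0 ↔ u.a = 0 := by
  rw [← Q.mem_center, ← Q.mem_center]
  exact MulEquivClass.apply_mem_center_iff α

omit [CharP F 2] in
theorem aut_a_congr (α : MulAut S.Q) {u v : S.Q} (h : u.a = v.a) : (α u).a = (α v).a := by
  have : (α (u * v⁻¹)).a = 0 := (aut_a_eq_zero α).2 (by simp [h])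
  rw [map_mul, map_inv, Q.mul_a, Q.inv_a] at this
  linear_combination this

variable (S)

/-- The action of an automorphism on the first coordinate. -/
noncomputable def lin : MulAut S.Q →* Equiv.Perm F :=
  MonoidHom.toHomPerm
    { toFun := fun α x => (α (sec S x)).a
      map_one' := funext fun x => sec_a S x
      map_mul' := fun α _ => funext fun _ => aut_a_congr α (sec_a S _).symm }

variable {S}

omit [CharP F 2] in
theorem lin_apply (α : MulAut S.Q) (x : F) : lin S α x = (α (sec S x)).a := rfl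

omit [CharP F 2] in
theorem lin_a (α : MulAut S.Q) (u : S.Q) : lin S α u.a = (α u).a := aut_a_congr α (sec_a S _)

omit [CharP F 2] in
theorem lin_add (α : MulAut S.Q) (x y : F) : lin S α (x + y) = lin S α x + lin S α y := by
  rw [lin_apply α x, lin_apply α y, ← Q.mul_a, ← map_mul, ← lin_a, Q.mul_a, sec_a, sec_a]

theorem aut_b (α : MulAut S.Q) (u : S.Q) : (α (u * u)).b = lin S α u.a * S.σ (lin S α u.a) := by
  rw [map_mul, Q.mul_self_b, lin_a, mul_comm]

theorem exists_mul_self {w : S.Q} (h : w.a = 0) : ∃ u : S.Q, u * u = w := by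
  obtain ⟨x, hx⟩ := S.bar.exists_norm_eq (Q.σ_b_eq_of_a h)
  exact ⟨sec S x, Q.ext (by rw [Q.mul_self_a, h]) (by rw [Q.mul_self_b, sec_a, mul_comm, hx])⟩

/-- Every automorphism acts on the first coordinate as a semilinear map. -/
theorem exists_lin_eq (α : MulAut S.Q) : ∃ (c : Fˣ) (τ : F ≃+* F), ∀ x, lin S α x = c * τ x := by
  classical
  let B : F → F := fun w => if h : S.σ w = w then (α (Q.z w (by rw [h, CharTwo.neg_eq]))).b else 0
  have hB : ∀ u : S.Q, u.a = 0 → B u.b = (α u).b := fun u hu => by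
    simp only [B, dif_pos (Q.σ_b_eq_of_a hu)]
    congr 2
    exact Q.ext hu.symm rfl
  refine exists_semilinear S (AddMonoidHom.mk' (lin S α) (lin_add α)) (lin S α).injective B (fun v w hv hw => ?_)
    fun x => ?_
  · let zv : S.Q := Q.z v (by rw [hv, CharTwo.neg_eq])
    let zw : S.Q := Q.z w (by rw [hw, CharTwo.neg_eq])
    have e1 := hB (zv * zw) (by simp [zv, zw])
    have e2 := hB zv rfl
    have e3 := hB zw rfl
    rw [map_mul, Q.mul_b, Q.mul_b, (aut_a_eq_zero α).2 (rfl : zw.a = 0), ← e2, ← e3] at e1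
    simpa [zv, zw] using e1
  · have := hB (sec S x * sec S x) (Q.mul_self_a _)
    rw [aut_b, Q.mul_self_b, sec_a, mul_comm] at this
    exact this.symm

omit [CharP F 2] in
theorem σ_comm (τ : F ≃+* F) (x : F) : S.σ (τ x) = τ (S.σ x) := by rw [S.bar.apply, S.bar.apply, map_pow]

variable (S)

/-- The automorphism attached to a scalar and a field automorphism. -/
noncomputable def mkAut (c : Fˣ) (τ : F ≃+* F) : MulAut S.Q :=
  MulEquiv.ofBijective
    (MonoidHom.mk' (fun u : S.Q => (⟨c * τ u.a, c * S.σ c * τ u.b, by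
        have := congrArg τ u.h
        simp only [map_add, map_mul, map_zero, ← σ_comm] at this
        simp only [map_mul, σσ]
        linear_combination (c * S.σ c) * this⟩ : S.Q))
      fun u v => by
        ext
        · simp [mul_add]
        · simp only [Q.mul_b, map_add, map_sub, map_mul, ← σ_comm]; ring)
    (Finite.injective_iff_bijective.1 fun u v h => by
      have h1 : (c : F) * τ u.a = c * τ v.a := congrArg Q.a h
      have h2 : (c : F) * S.σ c * τ u.b = c * S.σ c * τ v.b := congrArg Q.b h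
      exact Q.ext (τ.injective (mul_left_cancel₀ c.ne_zero h1))
        (τ.injective (mul_left_cancel₀ (mul_ne_zero c.ne_zero (S.σ_ne_zero c.ne_zero)) h2)))

omit [CharP F 2] in
theorem lin_mkAut (c : Fˣ) (τ : F ≃+* F) (x : F) : lin S (mkAut S c τ) x = c * τ x := by
  rw [lin_apply]
  change (c : F) * τ (sec S x).a = _
  rw [sec_a]

theorem card_range_lin : Nat.card (lin S).range = Nat.card Fˣ * Nat.card (F ≃+* F) := by
  rw [← Nat.card_prod]
  refine (Nat.card_eq_of_bijective (fun p : Fˣ × (F ≃+* F) => (⟨_, mkAut S p.1 p.2, rfl⟩ : (lin S).range))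
    ⟨?_, ?_⟩).symm
  · rintro ⟨c, τ⟩ ⟨d, ρ⟩ h
    have h1 : ∀ x, (c : F) * τ x = d * ρ x := fun x => by
      rw [← lin_mkAut S, ← lin_mkAut S]
      exact DFunLike.congr_fun (congrArg Subtype.val h) x
    have h2 : c = d := Units.ext (by simpa using h1 1)
    subst h2
    exact Prod.ext rfl (RingEquiv.ext fun x => mul_left_cancel₀ c.ne_zero (h1 x))
  · rintro ⟨_, α, rfl⟩
    obtain ⟨c, τ, h⟩ := exists_lin_eq α
    exact ⟨(c, τ), Subtype.ext (Equiv.ext fun x => by rw [h]; exact lin_mkAut S c τ x)⟩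

variable {S}

omit [CharP F 2] in
theorem mem_ker {α : MulAut S.Q} : α ∈ (lin S).ker ↔ ∀ u, (α u).a = u.a := by
  rw [MonoidHom.mem_ker]
  refine ⟨fun h u => by rw [← lin_a, h]; rfl, fun h => Equiv.ext fun x => ?_⟩
  rw [lin_apply, h, sec_a]; rfl

/-- An automorphism whose action on the first coordinate keeps the norm fixes the centre. -/
theorem fix_of_norm {α : MulAut S.Q} (h : ∀ x, lin S α x * S.σ (lin S α x) = x * S.σ x) {w : S.Q} (hw : w.a = 0) :
    α w = w := by
  obtain ⟨u, rfl⟩ := exists_mul_self hw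
  exact Q.ext (by rw [(aut_a_eq_zero α).2 hw, hw]) (by rw [aut_b, h, Q.mul_self_b, mul_comm])

theorem fix_of_mem_ker {α : MulAut S.Q} (h : α ∈ (lin S).ker) {w : S.Q} (hw : w.a = 0) : α w = w :=
  fix_of_norm (fun x => by rw [MonoidHom.mem_ker.1 h]; rfl) hw

theorem mul_apply_of_mem_ker {α β : MulAut S.Q} (hα : α ∈ (lin S).ker) (hβ : β ∈ (lin S).ker) (u : S.Q) :
    α (β u) = α u * (u⁻¹ * β u) := by
  rw [← fix_of_mem_ker hα (w := u⁻¹ * β u) (by simp [mem_ker.1 hβ]), ← map_mul, mul_inv_cancel_left]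

theorem isElementaryAbelian_ker : Cfsg.IsElementaryAbelian 2 (lin S).ker := by
  refine ⟨⟨⟨fun α β => Subtype.ext (MulEquiv.ext fun u => ?_)⟩⟩, fun α hα => MulEquiv.ext fun u => ?_⟩
  · change α.1 (β.1 u) = β.1 (α.1 u)
    rw [mul_apply_of_mem_ker α.2 β.2, mul_apply_of_mem_ker β.2 α.2]
    have h1 : u⁻¹ * α.1 u ∈ Subgroup.center S.Q := Q.mem_center.2 (by simp [mem_ker.1 α.2])
    have h2 := Subgroup.mem_center_iff.1 h1 (u⁻¹ * β.1 u)
    calc α.1 u * (u⁻¹ * β.1 u) = u * ((u⁻¹ * α.1 u) * (u⁻¹ * β.1 u)) := by group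
      _ = β.1 u * (u⁻¹ * α.1 u) := by rw [← h2]; group
  · change (α * α) u = u
    rw [MulAut.mul_apply, mul_apply_of_mem_ker hα hα]
    have h1 : (u⁻¹ * α u) * (u⁻¹ * α u) = 1 := Q.mul_self_eq_one.2 (by simp [mem_ker.1 hα])
    calc α u * (u⁻¹ * α u) = u * ((u⁻¹ * α u) * (u⁻¹ * α u)) := by group
      _ = u := by rw [h1, mul_one]

theorem isPGroup_ker : IsPGroup 2 (lin S).ker := fun α =>
  ⟨1, Subtype.ext (by simpa using isElementaryAbelian_ker.2 α.1 α.2)⟩

theorem eq_one_of_pow {c : F} {k : ℕ} (h : c ^ 2 ^ k = 1) : c = 1 :=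
  iterateFrobenius_inj F 2 k (by rw [iterateFrobenius_def, h, map_one])

omit [CharP F 2] in
theorem pow_apply_of_mul {π : Equiv.Perm F} {c : F} (h : ∀ x, π x = c * x) (k : ℕ) (x : F) : (π ^ k) x = c ^ k * x := by
  induction k generalizing x with
  | zero => simp
  | succ k ih => rw [pow_succ, Equiv.Perm.mul_apply, h, ih]; ring

variable (S)

theorem pCore_eq_ker : Cfsg.pCore 2 (MulAut S.Q) = (lin S).ker := by
  refine le_antisymm (fun α hα => ?_) (CL.Grp.le_pCore isPGroup_ker)
  have key : ∀ β ∈ Cfsg.pCore 2 (MulAut S.Q), ∀ c : F, (∀ x, lin S β x = c * x) → c = 1 := by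
    intro β hβ c h
    obtain ⟨k, hk⟩ := CL.Grp.pCore_isPGroup 2 (MulAut S.Q) ⟨β, hβ⟩
    have := pow_apply_of_mul h (2 ^ k) 1
    rw [← map_pow, show β ^ 2 ^ k = 1 from congrArg Subtype.val hk, (lin S).map_one, mul_one] at this
    exact eq_one_of_pow this.symm
  obtain ⟨c, τ, h⟩ := exists_lin_eq α
  have hτ : ∀ d : F, τ d = d := by
    intro d
    rcases eq_or_ne d 0 with rfl | hd
    · exact map_zero τ
    let δ := mkAut S (Units.mk0 d hd) 1
    have hδ : ∀ x, lin S δ x = d * x := fun x => lin_mkAut S _ _ x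
    have hm : α * (δ * α⁻¹ * δ⁻¹) ∈ Cfsg.pCore 2 (MulAut S.Q) :=
      mul_mem hα (Subgroup.Normal.conj_mem inferInstance _ (inv_mem hα) δ)
    have := key _ hm (τ d / d) fun x => by
      obtain ⟨y, rfl⟩ := (lin S (δ * α)).surjective x
      rw [← Equiv.Perm.mul_apply, ← map_mul, show α * (δ * α⁻¹ * δ⁻¹) * (δ * α) = α * δ by group, map_mul, map_mul,
        Equiv.Perm.mul_apply, Equiv.Perm.mul_apply, hδ, hδ, h, h, map_mul]
      field_simp
    field_simp at this
    exact this
  have hc := key α hα c fun x => by rw [h, hτ]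
  exact MonoidHom.mem_ker.2 (Equiv.ext fun x => by rw [h, hτ, hc, one_mul]; rfl)

/-- The additive group of the fixed field. -/
def fixG : AddSubgroup F := AddMonoidHom.eqLocus (S.σ : F →+ F) (AddMonoidHom.id F)

omit [CharP F 2] in
theorem card_fixG : Nat.card (fixG S) = S.q := S.bar.card_fixed

theorem card_ker_eq : Nat.card (lin S).ker = Nat.card (F →+ fixG S) := by
  have hz : ∀ (α : (lin S).ker) (u : S.Q), (u⁻¹ * α.1 u).a = 0 := fun α u => by simp [mem_ker.1 α.2]
  have hb : ∀ (α : (lin S).ker) (u v : S.Q), u.a = v.a → u⁻¹ * α.1 u = v⁻¹ * α.1 v := by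
    intro α u v h
    have h1 := fix_of_mem_ker α.2 (w := u * v⁻¹) (by simp [h])
    rw [map_mul, map_inv] at h1
    have h2 := Subgroup.mem_center_iff.1 (Q.mem_center.2 (hz α v))
    calc u⁻¹ * α.1 u = u⁻¹ * (α.1 u * (α.1 v)⁻¹) * α.1 v := by group
      _ = v⁻¹ * α.1 v := by rw [h1]; group
  have hm : ∀ (α : (lin S).ker) (u v : S.Q), (u * v)⁻¹ * α.1 (u * v) = (u⁻¹ * α.1 u) * (v⁻¹ * α.1 v) := by
    intro α u v
    have h2 := Subgroup.mem_center_iff.1 (Q.mem_center.2 (hz α u)) v⁻¹
    rw [map_mul, ← mul_assoc (u⁻¹ * α.1 u), ← h2]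
    group
  let f : (lin S).ker → (F →+ fixG S) := fun α => AddMonoidHom.mk'
    (fun x => ⟨((sec S x)⁻¹ * α.1 (sec S x)).b, Q.σ_b_eq_of_a (hz α _)⟩) fun x y => Subtype.ext (by
      change ((sec S (x + y))⁻¹ * α.1 (sec S (x + y))).b = ((sec S x)⁻¹ * α.1 (sec S x)).b + ((sec S y)⁻¹ * α.1 (sec S y)).b
      rw [hb α _ (sec S x * sec S y) (by simp), hm, Q.mul_b _ (_ * _), hz α (sec S y), mul_zero, sub_zero])
  have hf : ∀ α u, (f α u.a : F) = (u⁻¹ * α.1 u).b := fun α u => congrArg Q.b (hb α _ _ (sec_a S _))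
  refine Nat.card_eq_of_bijective f ⟨fun α β h => Subtype.ext (MulEquiv.ext fun u => ?_), fun g => ?_⟩
  · have : u⁻¹ * α.1 u = u⁻¹ * β.1 u := Q.ext (by rw [hz, hz]) (by rw [← hf, ← hf, h])
    exact mul_left_cancel this
  · let z : S.Q → S.Q := fun u => Q.z (g u.a) (by rw [CharTwo.neg_eq]; exact (g u.a).2)
    have hzc : ∀ u, z u ∈ Subgroup.center S.Q := fun u => Q.mem_center.2 rfl
    let φ : S.Q →* S.Q := MonoidHom.mk' (fun u => u * z u) fun u v => by
      have e : z (u * v) = z u * z v := by ext <;> simp [z]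
      rw [e, mul_assoc u (z u), ← mul_assoc (z u), ← Subgroup.mem_center_iff.1 (hzc u) v]
      group
    have hφ : Function.Injective φ := (injective_iff_map_eq_one φ).2 fun u hu => by
      have h1 : u.a = 0 := by simpa [φ, z] using congrArg Q.a hu
      have h2 : z u = 1 := by ext <;> simp [z, h1]
      simpa [φ, h2] using hu
    refine ⟨⟨MulEquiv.ofBijective φ (Finite.injective_iff_bijective.1 hφ), mem_ker.2 fun u => by simp [φ, z]⟩, ?_⟩
    ext x
    rw [← sec_a S x, hf]
    simp [φ, z]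

theorem card_hom {n : ℕ} (hq : S.q = 2 ^ n) : Nat.card (F →+ fixG S) = 2 ^ (2 * n ^ 2) := by
  have := S.finite
  let _ : Module (ZMod 2) F := (ZMod.algebra F 2).toModule
  let _ : Module (ZMod 2) (fixG S) := AddCommGroup.zmodModule fun x => Subtype.ext (by
    simp [two_nsmul, CharTwo.add_self_eq_zero])
  have h1 := Module.natCard_eq_pow_finrank (K := ZMod 2) (V := F)
  have h2 := Module.natCard_eq_pow_finrank (K := ZMod 2) (V := fixG S)
  rw [S.card, hq, ← pow_mul, Nat.card_zmod] at h1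
  rw [card_fixG, hq, Nat.card_zmod] at h2
  rw [Nat.card_congr (AddMonoidHom.toZModLinearMapEquiv 2).toEquiv, Module.natCard_eq_pow_finrank (K := ZMod 2),
    Module.finrank_linearMap, ← Nat.pow_right_injective le_rfl h1, ← Nat.pow_right_injective le_rfl h2, Nat.card_zmod]
  congr 1
  ring

theorem card_pCore {n : ℕ} (hq : S.q = 2 ^ n) : Nat.card (Cfsg.pCore 2 (MulAut S.Q)) = 2 ^ (2 * n ^ 2) := by
  rw [pCore_eq_ker, card_ker_eq, card_hom S hq]

omit [CharP F 2] in
theorem card_ringAut {n : ℕ} (hq : S.q = 2 ^ n) : Nat.card (F ≃+* F) = 2 * n := by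
  have := S.finite
  have := Fintype.ofFinite F
  exact CL.GLn.card_ringAut (p := 2) (by rw [S.bar.fintype_card, hq, ← pow_mul, mul_comm])

theorem card_aut {n : ℕ} (hq : S.q = 2 ^ n) :
    Nat.card (MulAut S.Q) = 2 ^ (2 * n ^ 2) * (2 * n * ((2 ^ n) ^ 2 - 1)) := by
  rw [← Subgroup.card_mul_index (lin S).ker, Subgroup.index_ker, card_range_lin, card_ker_eq, card_hom S hq,
    card_ringAut S hq, S.card_units, hq, mul_comm (2 * n)]

variable {S}

omit [CharP F 2] in
/-- A field automorphism of order at most two fixes the fixed field of the involution. -/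
theorem eq_one_or_σ {τ : F ≃+* F} (h : τ ^ 2 = 1) : (∀ x, τ x = x) ∨ ∀ x, τ x = S.σ x := by
  have := S.finite
  have := CL.GLn.isCyclic_ringAut (F := F)
  by_cases h1 : τ = 1
  · exact Or.inl fun x => by rw [h1]; rfl
  let ρ : F ≃+* F := RingEquiv.ofBijective S.σ (Finite.injective_iff_bijective.1 S.σ.injective)
  have h2 : ρ ≠ 1 := fun e => by
    obtain ⟨x, hx⟩ := S.bar.exists_ne
    exact hx (DFunLike.congr_fun e x)
  have h3 : ρ ^ 2 = 1 := RingEquiv.ext fun x => S.σσ x
  right
  have : τ = ρ := by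
    classical
    have := Fintype.ofFinite (F ≃+* F)
    by_contra hne
    have h4 := IsCyclic.card_pow_eq_one_le (α := F ≃+* F) (n := 2) two_pos
    have h5 : ({1, τ, ρ} : Finset (F ≃+* F)) ⊆ Finset.univ.filter fun a => a ^ 2 = 1 := by
      intro a ha
      simp only [Finset.mem_insert, Finset.mem_singleton] at ha
      rcases ha with rfl | rfl | rfl <;> simp [h, h3]
    have h6 := Finset.card_le_card h5
    rw [Finset.card_eq_three.2 ⟨1, τ, ρ, Ne.symm h1, h2.symm, hne, rfl⟩] at h6
    omega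
  intro x
  rw [this]; rfl

omit [CharP F 2] in
theorem pow_eq_one_of_lin {π : Equiv.Perm F} {c : Fˣ} {τ : F ≃+* F} (h : ∀ x, π x = c * τ x) {k : ℕ} (hk : π ^ k = 1) :
    τ ^ k = 1 := by
  have key : ∀ j, ∃ d : F, ∀ x, (π ^ j) x = d * (τ ^ j) x := by
    intro j
    induction j with
    | zero => exact ⟨1, fun x => by simp⟩
    | succ j ih =>
      obtain ⟨d, hd⟩ := ih
      exact ⟨c * τ d, fun x => by
        rw [pow_succ', pow_succ', Equiv.Perm.mul_apply, h, hd, map_mul, mul_assoc]; rfl⟩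
  obtain ⟨d, hd⟩ := key k
  rw [hk] at hd
  have h1 : d = 1 := by simpa using (hd 1).symm
  exact RingEquiv.ext fun x => by simpa [h1] using (hd x).symm

/-- An automorphism whose square acts trivially on the first coordinate fixes the centre. -/
theorem fix_of_sq {α : MulAut S.Q} (h : α ^ 2 ∈ (lin S).ker) {w : S.Q} (hw : w.a = 0) : α w = w := by
  obtain ⟨c, τ, hc⟩ := exists_lin_eq α
  have h1 : lin S α ^ 2 = 1 := by rw [← map_pow]; exact h
  have h2 : (c : F) * τ c = 1 := by
    have := DFunLike.congr_fun h1 1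
    rw [sq, Equiv.Perm.mul_apply, hc, hc] at this
    simpa using this
  refine fix_of_norm (fun x => ?_) hw
  rcases eq_one_or_σ (S := S) (pow_eq_one_of_lin hc h1) with hτ | hτ
  · rw [hτ] at h2
    have h3 : (c : F) = 1 := eq_one_of_pow (k := 1) (by rw [← h2]; ring)
    rw [hc, hτ, h3, one_mul]
  · rw [hτ] at h2
    rw [hc, hτ, map_mul, σσ]
    linear_combination (x * S.σ x) * h2

/-- For `q = 4` no involution inverts an automorphism of order three. -/
theorem eq_one_of_inverted (hq : S.q = 4) {r t : MulAut S.Q} (hr : r ^ 3 = 1) (ht : t ^ 2 = 1) (h : t * r * t⁻¹ = r⁻¹) :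
    r = 1 := by
  obtain ⟨c, τ, hc⟩ := exists_lin_eq r
  obtain ⟨d, ρ, hd⟩ := exists_lin_eq t
  have h1 : lin S r ^ 3 = 1 := by rw [← map_pow, hr, map_one]
  have h2 : τ = 1 := by
    have e3 := pow_eq_one_of_lin hc h1
    have e4 : τ ^ 4 = 1 := by
      have := pow_card_eq_one' (x := τ)
      rwa [card_ringAut S (n := 2) hq] at this
    rwa [pow_succ, e3, one_mul] at e4
  have hc' : ∀ x, lin S r x = c * x := fun x => by rw [hc, h2]; rfl
  have h3 : (c : F) ^ 3 = 1 := by simpa [h1] using (pow_apply_of_mul hc' 3 1).symm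
  have h4 : ρ c = c := by
    rcases eq_one_or_σ (S := S) (pow_eq_one_of_lin hd (k := 2) (by rw [← map_pow, ht, map_one])) with e | e
    · exact e c
    · rw [e, S.bar.apply, hq, pow_succ, h3, one_mul]
  have h5 : (c : F) ^ 2 = 1 := by
    have e : lin S r * (lin S t * lin S r) = lin S t := by
      rw [← map_mul, ← map_mul, show t * r = r⁻¹ * t by rw [← h]; group, mul_inv_cancel_left]
    have := DFunLike.congr_fun e 1
    rw [Equiv.Perm.mul_apply, Equiv.Perm.mul_apply, hc', hc', hd, hd, mul_one, h4, map_one, mul_one] at this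
    exact mul_left_cancel₀ d.ne_zero (by linear_combination this)
  have h6 : r ∈ (lin S).ker :=
    MonoidHom.mem_ker.2 (Equiv.ext fun x => by rw [hc', eq_one_of_pow (k := 1) h5, one_mul]; rfl)
  have h7 := isElementaryAbelian_ker.2 r h6
  rwa [pow_succ, h7, one_mul] at hr

end CL.U3Aut
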