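/-
A 2-central involution with centraliser `Z₂ × S₄` (S3222).
-/
import Cfsg.Agent.S3035
import Cfsg.Agent.S0678
import Cfsg.Agent.S4231
import Cfsg.Agent.Transfer.Control
import Cfsg.Agent.Inv.ZStar1

set_option autoImplicit false

open Subgroup Equiv Equiv.Perm Cfsg CL.Grp
open scoped commutatorElement

namespace CL.Inv.Z2S4

abbrev S4 := Perm (Fin 4)
abbrev M := Multiplicative (ZMod 2) × S4

def z0 : S4 := swap 0 1 * swap 2 3
def b0 : S4 := swap 0 1
def a0 : S4 := swap 0 2 * swap 1 3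
def x0 : S4 := swap 0 1 * swap 0 2
def t1 : M := (Multiplicative.ofAdd 1, 1)
def z1 : M := (1, z0)
def b1 : M := (1, b0)
def a1 : M := (1, a0)

theorem f_cent : ∀ m : M, m.2 * b0 = b0 * m.2 → m.2 * x0 = x0 * m.2 → m.2 * a0 = a0 * m.2 → m = 1 ∨ m = t1 := by
  decide +kernel
theorem f_inv : ∀ m : M, m * m = 1 → m = 1 ∨ m = t1 ∨ ∃ c : M, c * m * c⁻¹ = z1 ∨ c * m * c⁻¹ = t1 * z1 ∨
    c * m * c⁻¹ = b1 ∨ c * m * c⁻¹ = t1 * b1 := by decide +kernel
theorem f_inv1 : ∀ m : M, m * m = 1 → m.1 = 1 → m = 1 ∨ ∃ c : M, c * m * c⁻¹ = z1 ∨ c * m * c⁻¹ = b1 := by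
  decide +kernel
set_option synthInstance.maxSize 512 in
theorem f_inv2 : ∀ m : M, m * m = 1 → (m.1 = 1 ↔ sign m.2 = 1) →
    m = 1 ∨ ∃ c : M, c * m * c⁻¹ = z1 ∨ c * m * c⁻¹ = t1 * b1 := by decide +kernel
theorem f_comm : ∀ a : M, a * z1 = z1 * a → ∀ b : M, b * z1 = z1 * b →
    a * b * a⁻¹ * b⁻¹ = 1 ∨ a * b * a⁻¹ * b⁻¹ = z1 := by decide +kernel
theorem f_t (m : M) : m * t1 = t1 * m := Prod.ext (mul_comm _ _) (by simp [t1])
theorem f_card : Nat.card (centralizer ({z1} : Set M)) = 16 := by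
  rw [Nat.card_congr (Equiv.subtypeEquivRight (q := fun m : M => m * z1 = z1 * m)
    fun _ => mem_centralizer_singleton_iff), Nat.card_eq_fintype_card]
  decide +kernel
theorem f_cardM : Nat.card M = 48 := by rw [Nat.card_eq_fintype_card]; decide +kernel
theorem f_four : ∀ σ : S4, σ * z0 = z0 * σ → σ ^ 4 = 1 := by decide +kernel

theorem f_dih : Nonempty (centralizer ({z0} : Set S4) ≃* DihedralGroup 4) := by
  have hr : orderOf (b0 * a0) = 2 ^ 2 := orderOf_eq_prime_pow (by decide) (by decide)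
  have key : ∀ b : S4, b * z0 = z0 * b → ∃ k : Fin 4, b = (b0 * a0) ^ (k : ℕ) ∨ b * b0⁻¹ = (b0 * a0) ^ (k : ℕ) := by
    decide +kernel
  have h1 : zpowers (b0 * a0) ≤ centralizer ({z0} : Set S4) :=
    zpowers_le.2 (mem_centralizer_singleton_iff.2 (by decide))
  refine nonempty_dihedral_subgroup (n := 4) (a := b0 * a0) (s := b0) hr (by decide) (by decide) (fun ⟨k, hk⟩ => ?_)
    fun b => ⟨fun hb => ?_, ?_⟩
  · have : b0 * (b0 * a0) = b0 * a0 * b0 := by
      have h2 := (Commute.zpow_self (b0 * a0) k).eq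
      rwa [show (b0 * a0) ^ k = b0 from hk] at h2
    exact absurd this (by decide)
  · obtain ⟨k, h | h⟩ := key b (mem_centralizer_singleton_iff.1 hb)
    exacts [Or.inl (h ▸ pow_mem (mem_zpowers _) _), Or.inr (h ▸ pow_mem (mem_zpowers _) _)]
  · rintro (h | h)
    · exact h1 h
    · simpa using mul_mem (h1 h) (show b0 ∈ centralizer ({z0} : Set S4) from
        mem_centralizer_singleton_iff.2 (by decide))

/-- the elements whose two signs agree. -/
def K2 : Subgroup M where
  carrier := {m | m.1 = 1 ↔ sign m.2 = 1}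
  mul_mem' := fun {a b} ha hb => by
    have : ∀ (x y : Multiplicative (ZMod 2)) (ε δ : ℤˣ), (x = 1 ↔ ε = 1) → (y = 1 ↔ δ = 1) →
      (x * y = 1 ↔ ε * δ = 1) := by decide
    change a.1 * b.1 = 1 ↔ sign (a.2 * b.2) = 1
    rw [map_mul]
    exact this _ _ _ _ ha hb
  one_mem' := by simp
  inv_mem' := fun {a} ha => by simpa using ha

theorem index_K1 : (MonoidHom.fst (Multiplicative (ZMod 2)) S4).ker.index = 2 :=
  index_eq_two_iff.2 ⟨t1, fun b => by
    have : ∀ x : Multiplicative (ZMod 2), Xor (x * Multiplicative.ofAdd 1 = 1) (x = 1) := by decide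
    exact this b.1⟩

theorem index_K2 : K2.index = 2 :=
  index_eq_two_iff.2 ⟨t1, fun b => by
    have : ∀ (x : Multiplicative (ZMod 2)) (ε : ℤˣ),
      Xor (x * Multiplicative.ofAdd 1 = 1 ↔ ε = 1) (x = 1 ↔ ε = 1) := by decide
    have h := this b.1 (sign b.2)
    change Xor (b.1 * _ = 1 ↔ sign (b.2 * 1) = 1) _
    rwa [mul_one]⟩

variable {G : Type*} [Group G] [Finite G]

/-- the hypothesis. -/
structure Hyp (ψ : M →* G) : Prop where
  inj : Function.Injective ψ
  cent : ∀ g : G, g * ψ t1 = ψ t1 * g → g ∈ ψ.range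
  odd : Odd ψ.range.index
  syl : centralizer ((⁅(centralizer ({z1} : Set M)).map ψ, (centralizer ({z1} : Set M)).map ψ⁆ : Subgroup G) : Set G) =
    (centralizer ({z1} : Set M)).map ψ

namespace Hyp

variable {ψ : M →* G} (h : Hyp ψ)
include h

omit [Finite G] h in
theorem comm_mem {a b : G} (ha : a ∈ (centralizer ({z1} : Set M)).map ψ) (hb : b ∈ (centralizer ({z1} : Set M)).map ψ) :
    ⁅a, b⁆ = 1 ∨ ⁅a, b⁆ = ψ z1 := by
  obtain ⟨a, ha, rfl⟩ := ha
  obtain ⟨b, hb, rfl⟩ := hb
  rw [← map_commutatorElement, commutatorElement_def]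
  rcases f_comm a (mem_centralizer_singleton_iff.1 ha) b (mem_centralizer_singleton_iff.1 hb) with e | e <;> simp [e]

omit [Finite G] in
theorem cent_z : centralizer {ψ z1} = (centralizer ({z1} : Set M)).map ψ := by
  refine le_antisymm (fun g hg => ?_) ?_
  · rw [← h.syl]
    have h1 : (⁅(centralizer ({z1} : Set M)).map ψ, (centralizer ({z1} : Set M)).map ψ⁆ : Subgroup G) ≤
        centralizer {g} := commutator_le.2 fun a ha b hb => mem_centralizer_singleton_iff.2 (by
      rcases comm_mem ha hb with e | e <;> rw [e]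
      exacts [by simp, (mem_centralizer_singleton_iff.1 hg).symm])
    exact fun x hx => mem_centralizer_singleton_iff.1 (h1 hx)
  · rintro _ ⟨m, hm, rfl⟩
    rw [mem_centralizer_singleton_iff, ← map_mul, ← map_mul, mem_centralizer_singleton_iff.1 hm]

omit [Finite G] in
theorem card_z : Nat.card (centralizer {ψ z1}) = 16 := by
  rw [h.cent_z, ← f_card]
  exact (Nat.card_congr (equivMapOfInjective _ ψ h.inj).toEquiv).symm

omit [Finite G] in
theorem cent_t : centralizer {ψ t1} = ψ.range :=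
  le_antisymm (fun g hg => h.cent g (mem_centralizer_singleton_iff.1 hg)) (by
    rintro _ ⟨m, rfl⟩
    rw [mem_centralizer_singleton_iff, ← map_mul, ← map_mul, f_t])

omit [Finite G] in
theorem card_range : Nat.card ψ.range = 48 := by
  rw [← f_cardM]; exact (Nat.card_congr (MonoidHom.ofInjective h.inj).toEquiv).symm

omit [Finite G] h in
theorem card_conj {x y : G} (hc : IsConj x y) : Nat.card (centralizer {x}) = Nat.card (centralizer {y}) := by
  obtain ⟨g, rfl⟩ := isConj_iff.1 hc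
  refine Nat.card_congr ((MulAut.conj g).toEquiv.subtypeEquiv fun a => ?_)
  rw [mem_centralizer_singleton_iff, mem_centralizer_singleton_iff]
  change _ ↔ g * a * g⁻¹ * _ = _ * (g * a * g⁻¹)
  rw [conj_mul, conj_mul, mul_left_inj, mul_right_inj]

omit [Finite G] in
theorem not_tz : ¬ IsConj (ψ t1) (ψ z1) := fun hc => by
  have := card_conj hc
  rw [h.card_z, h.cent_t, h.card_range] at this
  omega

theorem not_z : ¬ IsConj (ψ z1) (ψ (t1 * z1)) := fun hc => by
  have h1 : (centralizer ({z1} : Set M)).map ψ = centralizer {ψ (t1 * z1)} := by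
    refine eq_of_le_of_card_ge ?_ (by rw [← card_conj hc, h.cent_z])
    rintro _ ⟨m, hm, rfl⟩
    rw [mem_centralizer_singleton_iff, ← map_mul, ← map_mul, ← mul_assoc, f_t, mul_assoc,
      mem_centralizer_singleton_iff.1 hm, mul_assoc]
  obtain ⟨g, hg⟩ := isConj_iff.1 hc
  have h2 : ∀ m : M, m * z1 = z1 * m → g * ψ m * g⁻¹ ∈ (centralizer ({z1} : Set M)).map ψ := fun m hm => by
    rw [h1, mem_centralizer_singleton_iff, ← hg, conj_mul, conj_mul, ← map_mul, ← map_mul, hm]
  have h3 := comm_mem (h2 a1 (by decide)) (h2 b1 (by decide))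
  rw [← conjugate_commutatorElement, ← map_commutatorElement, show ⁅a1, b1⁆ = z1 by decide, hg, ← map_one ψ,
    h.inj.eq_iff, h.inj.eq_iff] at h3
  exact absurd h3 (by decide)

omit [Finite G] h in
theorem isConj_of {m c n : M} (e : c * m * c⁻¹ = n) : IsConj (ψ m) (ψ n) :=
  ψ.map_isConj (isConj_iff.2 ⟨c, e⟩)

theorem transfer {K : Subgroup M} (hK : K.index = 2) {n : M}
    (hn : ∀ m ∈ K, m * m = 1 → m = 1 ∨ ∃ c : M, c * m * c⁻¹ = z1 ∨ c * m * c⁻¹ = n) (hc : ¬ IsConj (ψ t1) (ψ n)) :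
    ∃ N : Subgroup G, N.Normal ∧ N.index = 2 ∧ ψ t1 ∉ N := by
  have h1 : ψ t1 * ψ t1 = 1 := by rw [← map_mul, show t1 * t1 = 1 by decide, map_one]
  refine CL.Transfer.thompson_transfer ψ.range (K.map ψ) h.odd
    (by rw [MonoidHom.range_eq_map, relIndex_map_map_of_injective _ _ h.inj, relIndex_top_right, hK]) _
    (by rw [pow_two, h1]) ?_
  rintro g ⟨m, hm, e⟩
  have h2 : IsConj (ψ t1) (ψ m) := isConj_iff.2 ⟨g, e.symm⟩
  rcases hn m hm (h.inj (by rw [map_mul, e, conj_mul, h1, map_one]; simp)) with rfl | ⟨c, h3 | h3⟩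
  · rw [map_one, isConj_one_left, ← map_one ψ, h.inj.eq_iff] at h2
    exact absurd h2 (by decide)
  · exact h.not_tz (h2.trans (isConj_of h3))
  · exact hc (h2.trans (isConj_of h3))

theorem exists_N : ∃ N : Subgroup G, N.Normal ∧ N.index = 2 ∧ ψ t1 ∉ N := by
  by_cases h1 : IsConj (ψ t1) (ψ b1)
  swap
  · exact h.transfer index_K1 (fun m hm h2 => f_inv1 m h2 hm) h1
  refine h.transfer index_K2 (fun m hm h2 => f_inv2 m h2 hm) fun h2 => ?_
  obtain ⟨g, hg⟩ := isConj_iff.1 h1
  obtain ⟨m, hm⟩ := h.cent (g⁻¹ * ψ z1 * g) (by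
    have : ψ z1 * ψ b1 = ψ b1 * ψ z1 := by rw [← map_mul, ← map_mul, show z1 * b1 = b1 * z1 by decide]
    rw [← hg] at this
    calc g⁻¹ * ψ z1 * g * ψ t1 = g⁻¹ * (ψ z1 * (g * ψ t1 * g⁻¹)) * g := by group
      _ = ψ t1 * (g⁻¹ * ψ z1 * g) := by rw [this]; group)
  have h3 : IsConj (ψ m) (ψ z1) := isConj_iff.2 ⟨g, by rw [hm]; group⟩
  have h4 : m * m = 1 := h.inj (by
    rw [map_mul, hm, map_one]
    calc g⁻¹ * ψ z1 * g * (g⁻¹ * ψ z1 * g) = g⁻¹ * ψ (z1 * z1) * g := by rw [map_mul]; group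
      _ = 1 := by rw [show z1 * z1 = 1 by decide]; simp)
  rcases f_inv m h4 with rfl | rfl | ⟨c, e | e | e | e⟩
  · rw [map_one, isConj_one_right, ← map_one ψ, h.inj.eq_iff] at h3
    exact absurd h3 (by decide)
  · exact h.not_tz h3
  · have h5 : ψ c * g⁻¹ ∈ centralizer {ψ z1} := by
      rw [mem_centralizer_singleton_iff]
      conv_rhs => rw [← e, map_mul, map_mul, hm, map_inv]
      group
    rw [h.cent_z] at h5
    obtain ⟨d, -, hd⟩ := h5
    have h6 : g = ψ (d⁻¹ * c) := by rw [map_mul, map_inv, hd]; group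
    rw [h6, ← map_inv, ← map_mul, ← map_mul, h.inj.eq_iff, f_t, mul_inv_cancel_right] at hg
    exact absurd hg (by decide)
  · exact h.not_z (h3.symm.trans (isConj_of e))
  · exact h.not_tz (h1.trans ((isConj_of e).symm.trans h3))
  · exact h.not_tz (h2.trans ((isConj_of e).symm.trans h3))

variable {N : Subgroup G} (hN : N.index = 2) (ht : ψ t1 ∉ N)
include hN ht

omit [Finite G] h in
theorem exists_kappa : ∃ κ : S4 →* N, (∀ σ, ∃ x, (κ σ : G) = ψ (x, σ)) ∧ ∀ m : M, ψ m ∈ N → (κ m.2 : G) = ψ m := by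
  let ρ : N.comap ψ →* S4 := (MonoidHom.snd _ _).comp (N.comap ψ).subtype
  have h2 : ∀ x : Multiplicative (ZMod 2), x = 1 ∨ x = Multiplicative.ofAdd 1 := by decide
  have hρ : Function.Bijective ρ := by
    refine ⟨(injective_iff_map_eq_one _).2 fun ⟨⟨x, σ⟩, hx⟩ e => ?_, fun σ => ?_⟩
    · obtain rfl : σ = 1 := e
      rcases h2 x with rfl | rfl
      exacts [rfl, absurd hx ht]
    · by_cases h3 : ψ (1, σ) ∈ N
      · exact ⟨⟨_, h3⟩, rfl⟩
      · have h4 : (1, σ) * t1 ∈ N.comap ψ := by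
          rw [mem_comap, map_mul]
          exact (mul_mem_iff_of_index_two hN).2 (iff_of_false h3 ht)
        exact ⟨⟨_, h4⟩, mul_one σ⟩
  let e := MulEquiv.ofBijective ρ hρ
  refine ⟨(ψ.subgroupComap N).comp e.symm.toMonoidHom, fun σ => ⟨(e.symm σ).1.1, ?_⟩, fun m hm => ?_⟩
  · change ψ (e.symm σ).1 = _
    congr 1
    exact Prod.ext rfl (e.apply_symm_apply σ)
  · change ψ (e.symm (e ⟨m, hm⟩)).1 = _
    rw [e.symm_apply_apply]

omit [Finite G] h ht in
theorem z_mem : ψ z1 ∈ N := by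
  rw [← show ⁅a1, b1⁆ = z1 by decide, map_commutatorElement]
  simp only [commutatorElement_def, mul_mem_iff_of_index_two hN, inv_mem_iff]
  tauto

omit [Finite G] in
theorem eq_one_of_cent (hne : ψ.range ≠ ⊤) {u : G} (hu : ∀ n ∈ N, n * u = u * n) : u = 1 := by
  obtain ⟨κ, h1, -⟩ := exists_kappa hN ht
  obtain ⟨m, -, rfl⟩ := h.cent_z.le (mem_centralizer_singleton_iff.2 (hu _ (z_mem hN)).symm)
  have h2 : ∀ σ, m.2 * σ = σ * m.2 := fun σ => by
    obtain ⟨x, hx⟩ := h1 σ
    have := hu _ (κ σ).2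
    rw [hx, ← map_mul, ← map_mul] at this
    exact (congrArg Prod.snd (h.inj this)).symm
  rcases f_cent m (h2 _) (h2 _) (h2 _) with rfl | rfl
  · exact map_one ψ
  refine absurd (eq_top_iff.2 fun g _ => ?_) hne
  by_cases hg : g ∈ N
  · exact h.cent g (hu g hg)
  · have := h.cent _ (hu _ ((mul_mem_iff_of_index_two hN).2 (iff_of_false hg ht)))
    exact (mul_mem_cancel_right (MonoidHom.mem_range.2 ⟨t1, rfl⟩)).1 this

theorem exists_perm (hne : ψ.range ≠ ⊤) (hs : ∀ K : Subgroup N, K.Normal → Nat.card K ≤ 48 → K = ⊥) :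
    Function.Injective (MulAction.toPermHom G (G ⧸ ψ.range)) := by
  have := normal_of_index_eq_two hN
  rw [← MonoidHom.ker_eq_bot_iff, ← normalCore_eq_ker, eq_bot_iff]
  have h1 := hs (ψ.range.normalCore.subgroupOf N) inferInstance (by
    rw [← h.card_range, ← card_map_subtype]
    exact card_le_of_le (by rw [subgroupOf_map_subtype]; exact inf_le_left.trans (normalCore_le _)))
  rw [subgroupOf_eq_bot] at h1
  exact fun u hu => h.eq_one_of_cent hN ht hne fun n hn =>
    (commute_of_normal_of_disjoint _ _ inferInstance inferInstance h1 u n hu hn).eq.symm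

theorem card_quot {n : ℕ} (hn : Nat.card N = 24 * n) : Nat.card G = 48 * n ∧ Nat.card (G ⧸ ψ.range) = n := by
  have h1 := N.card_mul_index
  have h2 := ψ.range.card_mul_index
  rw [h.card_range, index_eq_card] at h2
  rw [hN, hn] at h1
  omega

theorem nonempty_six (e : N ≃* alternatingGroup (Fin 6)) : Nonempty (G ≃* Perm (Fin 6)) := by
  have := normal_of_index_eq_two hN
  have hc : Nat.card N = 24 * 15 := by
    rw [Nat.card_congr e.toEquiv, nat_card_alternatingGroup]; simp [Nat.factorial]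
  obtain ⟨h1, h2⟩ := h.card_quot hN ht hc
  have hne : ψ.range ≠ ⊤ := fun h3 => by rw [← index_eq_card, h3, index_top] at h2; omega
  obtain ⟨κ, h3, -⟩ := exists_kappa hN ht
  let Φ : G →* MulAut (alternatingGroup (Fin 6)) := (MulAut.congr e).toMonoidHom.comp MulAut.conjNormal
  let j : Perm (Fin 6) →* MulAut (alternatingGroup (Fin 6)) := MulAut.conjNormal
  have hΦ : Function.Injective Φ := (MulAut.congr e).injective.comp ((injective_iff_map_eq_one _).2 fun u hu =>
    h.eq_one_of_cent hN ht hne fun n hn => by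
      have := MulAut.conjNormal_apply (H := N) u ⟨n, hn⟩
      rw [hu] at this
      exact eq_mul_inv_iff_mul_eq.1 this)
  have hj : Function.Injective j := (injective_iff_map_eq_one _).2 fun u hu =>
    CL.Known.eq_one_of_commute_alt (by simp) fun c hc => by
      have := MulAut.conjNormal_apply (H := alternatingGroup (Fin 6)) u ⟨c, hc.mem_alternatingGroup⟩
      rw [show MulAut.conjNormal u = 1 from hu] at this
      exact (eq_mul_inv_iff_mul_eq.1 this).symm
  have hΦe : ∀ (g : G) (n : N), Φ g (e n) = e (MulAut.conjNormal g n) := fun g n => by simp [Φ]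
  have hconj : ∀ (β : MulAut (alternatingGroup (Fin 6))) {x y : alternatingGroup (Fin 6)}, IsConj x y →
      IsThreeCycle (β x).1 → IsThreeCycle (β y).1 := by
    intro β x y hxy h
    have := isConj_iff_cycleType_eq.1 ((alternatingGroup (Fin 6)).subtype.map_isConj (β.toMonoidHom.map_isConj hxy))
    exact this.symm.trans h
  have hy : Φ (ψ t1) (e (κ x0)) = e (κ x0) := by
    obtain ⟨x, hx⟩ := h3 x0
    rw [hΦe]
    congr 1
    refine Subtype.ext ?_
    rw [MulAut.conjNormal_apply, hx, ← map_mul, ← f_t, map_mul, mul_inv_cancel_right]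
  have hκ : Function.Injective κ := (injective_iff_map_eq_one _).2 fun σ hσ => by
    obtain ⟨x, hx⟩ := h3 σ
    rw [hσ, Subgroup.coe_one, ← map_one ψ] at hx
    exact (congrArg Prod.snd (h.inj hx)).symm
  have hyo : orderOf (e (κ x0)) = 3 := by
    rw [e.orderOf_eq, orderOf_injective κ hκ]
    exact orderOf_eq_prime (by decide) (by decide)
  have hT : Φ (ψ t1) ∈ j.range := by
    obtain ⟨g, hg⟩ := CL.Known.exists_conj_of_three_cycles (by simp) (Φ (ψ t1)) fun c hc => by
      have hoc : orderOf c = 3 := by rw [← Subgroup.orderOf_coe, hc.orderOf]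
      by_cases h4 : IsThreeCycle (e (κ x0)).1
      · exact hconj _ (alternatingGroup.isThreeCycle_isConj (by simp) h4 hc) (by rwa [hy])
      · by_contra h5
        have h6 := Cfsg.Agent.S4231.isConj_alt_of_two_threes (x := Φ (ψ t1) c) (y := Φ (ψ t1) (e (κ x0)))
          (by rw [MulEquiv.orderOf_eq, hoc]) (by rw [hy, hyo]) h5 (by rwa [hy])
        exact h4 (by simpa using hconj (Φ (ψ t1))⁻¹ h6 (by simpa using hc))
    exact ⟨g, MulEquiv.ext fun x => Subtype.ext (by rw [MulAut.conjNormal_apply, hg])⟩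
  have hNj : ∀ n ∈ N, Φ n ∈ j.range := fun n hn => ⟨e ⟨n, hn⟩, MulEquiv.ext fun x => by
    obtain ⟨x, rfl⟩ := e.surjective x
    rw [hΦe, show MulAut.conjNormal n x = ⟨n, hn⟩ * x * ⟨n, hn⟩⁻¹ from Subtype.ext (MulAut.conjNormal_apply _ _)]
    exact Subtype.ext (by simp [j])⟩
  have hall : ∀ g, Φ g ∈ j.range := fun g => by
    by_cases hg : g ∈ N
    · exact hNj g hg
    · have := hNj _ ((mul_mem_iff_of_index_two hN).2 (iff_of_false hg ht))
      rwa [map_mul, mul_mem_cancel_right hT] at this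
  let f : G →* Perm (Fin 6) := (MonoidHom.ofInjective hj).symm.toMonoidHom.comp (Φ.codRestrict _ hall)
  have hf : Function.Injective f := (MonoidHom.ofInjective hj).symm.injective.comp fun a b hab =>
    hΦ (congrArg Subtype.val hab)
  refine ⟨MulEquiv.ofBijective f (hf.bijective_of_nat_card_le (le_of_eq ?_))⟩
  rw [h1, Nat.card_perm]
  simp [Nat.factorial]

omit hN ht

theorem main : ψ.range = ⊤ ∨ Nonempty (G ≃* Perm (Fin 6)) := by
  classical
  obtain ⟨N, -, hN, ht⟩ := h.exists_N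
  obtain ⟨κ, h1, h2⟩ := exists_kappa hN ht
  have hκ : Function.Injective κ := (injective_iff_map_eq_one _).2 fun σ hσ => by
    obtain ⟨x, hx⟩ := h1 σ
    rw [hσ, Subgroup.coe_one, ← map_one ψ] at hx
    exact (congrArg Prod.snd (h.inj hx)).symm
  have hz : (κ z0 : G) = ψ z1 := h2 z1 (z_mem hN)
  have hC : centralizer {κ z0} = (centralizer ({z0} : Set S4)).map κ := by
    refine le_antisymm (fun n hn => ?_) ?_
    · have h3 := congrArg Subtype.val (mem_centralizer_singleton_iff.1 hn)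
      rw [Subgroup.coe_mul, Subgroup.coe_mul, hz] at h3
      obtain ⟨m, hm, e⟩ := h.cent_z.le (mem_centralizer_singleton_iff.2 h3)
      exact ⟨m.2, mem_centralizer_singleton_iff.2 (congrArg Prod.snd (mem_centralizer_singleton_iff.1 hm)),
        Subtype.ext ((h2 m (e ▸ n.2)).trans e)⟩
    · rintro _ ⟨σ, hσ, rfl⟩
      rw [mem_centralizer_singleton_iff, ← map_mul, ← map_mul, mem_centralizer_singleton_iff.1 hσ]
  obtain ⟨d⟩ := f_dih
  by_cases hne : ψ.range = ⊤
  · exact Or.inl hne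
  right
  rcases Cfsg.Agent.S3035.result (κ z0)
    (by rw [orderOf_injective κ hκ]; exact orderOf_eq_prime (by decide) (by decide))
    ⟨(MulEquiv.subgroupCongr hC).trans ((equivMapOfInjective _ κ hκ).symm.trans d)⟩ with
    h3 | ⟨⟨e⟩⟩ | ⟨⟨e⟩⟩ | ⟨⟨e⟩⟩ | ⟨⟨e⟩⟩
  · exfalso
    obtain ⟨_, ⟨σ, hσ, rfl⟩, o, ho, e⟩ := mem_sup_of_normal_right.1 ((hC ▸ h3).ge (mem_top (κ x0)))
    have h4 : (QuotientGroup.mk' (oddCore N)) (κ x0) = (QuotientGroup.mk' (oddCore N)) (κ σ) := by
      rw [← e, map_mul, QuotientGroup.mk'_apply _ o, (QuotientGroup.eq_one_iff o).2 ho, mul_one]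
    have h5 : κ x0 ∈ oddCore N := by
      rw [← QuotientGroup.eq_one_iff, ← QuotientGroup.mk'_apply, ← show x0 ^ 4 = x0 by decide, map_pow, map_pow, h4,
        ← map_pow, ← map_pow, f_four σ (mem_centralizer_singleton_iff.1 hσ), map_one, map_one]
    have h6 : κ (x0 * (z0 * x0⁻¹ * z0⁻¹)) ∈ oddCore N := by
      rw [map_mul, map_mul, map_mul, map_inv, map_inv]
      exact mul_mem h5 ((inferInstance : (oddCore N).Normal).conj_mem _ (inv_mem h5) _)
    have h7 := orderOf_dvd_natCard (⟨_, h6⟩ : oddCore N)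
    rw [← Subgroup.orderOf_coe, orderOf_injective κ hκ,
      orderOf_eq_prime (p := 2) (x := x0 * (z0 * x0⁻¹ * z0⁻¹)) (by decide) (by decide)] at h7
    exact absurd (Odd.of_dvd_nat odd_card_oddCore h7) (by decide)
  · exfalso
    have := (h.card_quot hN ht (n := 1) (by rw [Nat.card_congr e.toEquiv, Nat.card_perm]; simp [Nat.factorial])).2
    exact hne (index_eq_one.1 this)
  · exfalso
    obtain ⟨h3, h4⟩ := h.card_quot hN ht (n := 5) (by
      rw [Nat.card_congr e.toEquiv, Nat.card_perm]; simp [Nat.factorial])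
    have h5 := card_dvd_of_injective _ (h.exists_perm hN ht hne fun K hK hc => by
      by_contra h6
      have := hK.map e.toMonoidHom e.surjective
      have h7 := card_le_of_le (alternatingGroup_le_of_normal (N := K.map e.toMonoidHom) (by simp)
        ((nontrivial_iff_ne_bot _).2 (by rwa [Ne, map_eq_bot_iff_of_injective _ e.injective])))
      rw [nat_card_alternatingGroup, ← Nat.card_congr (equivMapOfInjective K _ e.injective).toEquiv] at h7
      simp [Nat.factorial] at h7
      omega)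
    rw [h3, Nat.card_perm, h4] at h5
    exact absurd h5 (by decide)
  · exfalso
    have hc : Nat.card N = 24 * 7 := by rw [Nat.card_congr e.toEquiv, CL.SLn.card_SL_three, ZMod.card 2]; rfl
    obtain ⟨h3, h4⟩ := h.card_quot hN ht hc
    have hZ : center (Matrix.SpecialLinearGroup (Fin 3) (ZMod 2)) = ⊥ := by
      rw [← Subgroup.card_eq_one, CL.SLn.card_center_SL, ZMod.card 2]; rfl
    have := CL.SLn.isSimpleGroup_PSL (ι := Fin 3) (F := ZMod 2) (Or.inl (by simp))
    have hs : IsSimpleGroup N := (e.trans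
      ((QuotientGroup.quotientMulEquivOfEq hZ).trans QuotientGroup.quotientBot).symm).isSimpleGroup
    have h5 := h.exists_perm hN ht hne fun K hK hc' => hK.eq_bot_or_eq_top.resolve_right fun h6 => by
      rw [h6, card_top] at hc'; omega
    have := Fintype.ofFinite (G ⧸ ψ.range)
    have h6 : Nat.card (MulAction.toPermHom G (G ⧸ ψ.range)).range = 48 * 7 := by
      rw [← h3]; exact (Nat.card_congr (MonoidHom.ofInjective h5).toEquiv).symm
    have : MulAction.IsPretransitive (MulAction.toPermHom G (G ⧸ ψ.range)).range (G ⧸ ψ.range) :=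
      ⟨fun x y => let ⟨g, hg⟩ := MulAction.exists_smul_eq G x y; ⟨⟨_, g, rfl⟩, hg⟩⟩
    have h7 := (Cfsg.Agent.S0678.result (by rw [← h4, Nat.card_eq_fintype_card])
      (MulAction.toPermHom G (G ⧸ ψ.range)).range (fun h7 => ?_) fun h7 => ?_).1
    · omega
    · have : Group.IsSolvable G := Group.isSolvable_of_isSolvable_injective (MonoidHom.ofInjective h5).injective
        (f := (MonoidHom.ofInjective h5).toMonoidHom)
      have h8 : IsMulCommutative N := ⟨⟨IsSimpleGroup.comm_iff_isSolvable.2 inferInstance⟩⟩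
      have h9 := h8.1.1 (κ x0) (κ z0)
      rw [← map_mul, ← map_mul, hκ.eq_iff] at h9
      exact absurd h9 (by decide)
    · have : Nontrivial (G ⧸ ψ.range) := Finite.one_lt_card_iff_nontrivial.1 (by omega)
      have h8 := card_le_of_le h7
      rw [nat_card_alternatingGroup, h4, h6] at h8
      exact absurd h8 (by decide)
  · exact h.nonempty_six hN ht e

end Hyp

end CL.Inv.Z2S4
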